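import Cfsg.Agent.Lib.Spor.Golay.Code

/-! Basic properties of the length-24 code: masks of arbitrary sets and words, self-orthogonality,
the Steiner system of octads, and a membership test for the automorphism group. -/

set_option autoImplicit false
set_option maxRecDepth 100000

namespace Cfsg.Agent.Spor.Golay

open scoped Pointwise

theorem card_golayPt : Fintype.card GolayPt = 24 := by simp

theorem exists_mask (s : Finset GolayPt) : ∃ m < 2 ^ 24, s = pts m := by
  have h : (Finset.range (2 ^ 24)).image pts = Finset.univ := by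
    refine Finset.eq_univ_of_card _ ?_
    rw [Finset.card_image_of_injOn, Finset.card_range, Fintype.card_finset, card_golayPt]
    intro a ha b hb e
    exact pts_injOn (Finset.mem_range.mp ha) (Finset.mem_range.mp hb) e
  obtain ⟨m, hm, rfl⟩ := Finset.mem_image.mp (h ▸ Finset.mem_univ s)
  exact ⟨m, Finset.mem_range.mp hm, rfl⟩

theorem eq_of_support {v w : GolayPt → ZMod 2} (h : support₂ v = support₂ w) : v = w := by
  funext p
  have := congrArg (fun s => p ∈ s) h
  simp [support₂] at this
  generalize v p = a at this ⊢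
  generalize w p = b at this ⊢
  revert a b
  decide

theorem exists_vec (w : GolayPt → ZMod 2) : ∃ m < 2 ^ 24, w = vec m := by
  obtain ⟨m, hm, e⟩ := exists_mask (support₂ w)
  exact ⟨m, hm, eq_of_support (by rw [e, support_vec])⟩

theorem vec_injOn {a b : ℕ} (ha : a < 2 ^ 24) (hb : b < 2 ^ 24) (h : vec a = vec b) : a = b :=
  pts_injOn ha hb (by rw [← support_vec, ← support_vec, h])

theorem pop_xor_add (a b : ℕ) : pop (a ^^^ b) + 2 * pop (a &&& b) = pop a + pop b := by
  simp only [← card_pts, ← pts_symmDiff, ← pts_inter]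
  have e1 : symmDiff (pts a) (pts b) = pts a \ pts b ∪ pts b \ pts a := rfl
  have e2 : Disjoint (pts a \ pts b) (pts b \ pts a) :=
    Finset.disjoint_left.mpr fun x h1 h2 => (Finset.mem_sdiff.mp h2).2 (Finset.mem_sdiff.mp h1).1
  have f1 := Finset.card_sdiff_add_card_inter (pts a) (pts b)
  have f2 := Finset.card_sdiff_add_card_inter (pts b) (pts a)
  rw [Finset.inter_comm (pts b)] at f2
  rw [e1, Finset.card_union_of_disjoint e2]
  omega

theorem xor_mem_codeList {a b : ℕ} (ha : a ∈ codeList) (hb : b ∈ codeList) :
    a ^^^ b ∈ codeList :=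
  mem_codeList.mpr (isCode_xor (mem_codeList.mp ha) (mem_codeList.mp hb))

theorem even_inter {a b : ℕ} (ha : a ∈ codeList) (hb : b ∈ codeList) : pop (a &&& b) % 2 = 0 := by
  have h := pop_xor_add a b
  rcases pop_code ha with e | e | e | e | e <;> rcases pop_code hb with e' | e' | e' | e' | e' <;>
    rcases pop_code (xor_mem_codeList ha hb) with e'' | e'' | e'' | e'' | e'' <;> omega

theorem dot_vec (a b : ℕ) : ∑ i, vec a i * vec b i = (pop (a &&& b) : ZMod 2) := by
  rw [← card_pts, pts, Finset.card_filter, Nat.cast_sum]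
  refine Finset.sum_congr rfl fun p _ => ?_
  simp only [vec, Nat.testBit_and, Bool.and_eq_true]
  cases a.testBit (idx p) <;> cases b.testBit (idx p) <;> simp

theorem octad_unique {a b : ℕ} (ha : a ∈ octList) (hb : b ∈ octList) (h : 5 ≤ pop (a &&& b)) :
    a = b := by
  obtain ⟨ha1, ha8⟩ := mem_weightList.mp ha
  obtain ⟨hb1, hb8⟩ := mem_weightList.mp hb
  have := pop_xor_add a b
  have h0 : pop (a ^^^ b) = 0 := by
    rcases pop_code (xor_mem_codeList ha1 hb1) with e | e | e | e | e <;> omega
  have hsd : symmDiff (pts a) (pts b) = ∅ := by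
    rw [← Finset.card_eq_zero, pts_symmDiff, card_pts, h0]
  exact pts_injOn (codeList_lt ha1) (codeList_lt hb1) (symmDiff_eq_bot.mp hsd)

theorem octad_card {o : Finset GolayPt} (ho : o ∈ octads) : o.card = 8 := ho.2

theorem octads_steiner : IsSteinerSystem 5 8 octads := by
  classical
  refine ⟨fun o ho => octad_card ho, ?_⟩
  have huniq : ∀ (s : Finset GolayPt), s.card = 5 → ∀ o o', o ∈ octads → o' ∈ octads →
      s ⊆ o → s ⊆ o' → o = o' := by
    intro s hs o o' ho ho' hso hso'
    obtain ⟨a, ha, rfl⟩ := mem_octads.mp ho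
    obtain ⟨b, hb, rfl⟩ := mem_octads.mp ho'
    have : 5 ≤ pop (a &&& b) := by
      rw [← card_pts, ← pts_inter, ← hs]
      exact Finset.card_le_card (Finset.subset_inter hso hso')
    rw [octad_unique ha hb this]
  intro s hs
  have hfin : octads.Finite := Set.toFinite _
  have hcover : hfin.toFinset.biUnion (fun o => o.powersetCard 5) =
      (Finset.univ : Finset GolayPt).powersetCard 5 := by
    refine Finset.eq_of_subset_of_card_le (fun u hu => ?_) ?_
    · obtain ⟨o, -, hu⟩ := Finset.mem_biUnion.mp hu
      exact Finset.mem_powersetCard.mpr ⟨Finset.subset_univ _, (Finset.mem_powersetCard.mp hu).2⟩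
    · rw [Finset.card_biUnion]
      · have h1 : hfin.toFinset.card = 759 := by
          rw [← Set.ncard_eq_toFinset_card octads hfin, octads_ncard]
        have h2 : ∀ o ∈ hfin.toFinset, (o.powersetCard 5).card = 56 := by
          intro o ho
          rw [Finset.card_powersetCard, octad_card (hfin.mem_toFinset.mp ho)]
          decide
        rw [Finset.sum_congr rfl h2, Finset.sum_const, h1, smul_eq_mul, Finset.card_powersetCard,
          Finset.card_univ, card_golayPt]
        decide
      · intro o ho o' ho' hne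
        rw [Function.onFun, Finset.disjoint_left]
        intro u hu hu'
        rw [Finset.mem_powersetCard] at hu hu'
        exact hne (huniq u hu.2 o o' (hfin.mem_toFinset.mp ho) (hfin.mem_toFinset.mp ho') hu.1 hu'.1)
  have : s ∈ hfin.toFinset.biUnion (fun o => o.powersetCard 5) := by
    rw [hcover]; exact Finset.mem_powersetCard.mpr ⟨Finset.subset_univ _, hs⟩
  obtain ⟨o, ho, hso⟩ := Finset.mem_biUnion.mp this
  have ho' := hfin.mem_toFinset.mp ho
  have hso' := (Finset.mem_powersetCard.mp hso).1
  exact ⟨o, ⟨ho', hso'⟩, fun o' h => huniq s hs o' o h.1 ho' h.2 hso'⟩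

/-- Every basis mask is an octad. -/
theorem basis_octad : ∀ b ∈ basis, b ∈ octList := by
  intro b hb
  rw [mem_weightList, mem_codeList]
  revert b
  decide +kernel

/-- A family of sets closed under symmetric difference that contains the basis sets contains
every support. -/
theorem supports_induction {P : Finset GolayPt → Prop} (h0 : P ∅)
    (hxor : ∀ s t, P s → P t → P (symmDiff s t)) (hb : ∀ b ∈ basis, P (pts b))
    {s : Finset GolayPt} (hs : s ∈ supports (golayCode : Set (GolayPt → ZMod 2))) : P s := by
  obtain ⟨m, hm, rfl⟩ := mem_supports.mp hs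
  have hm' : enc (m % 4096) = m := by simpa [isCode] using mem_codeList.mp hm
  rw [← hm']
  have hz : P (pts 0) := by
    have : pts 0 = ∅ := by ext p; simp [mem_pts]
    rw [this]; exact h0
  suffices H : ∀ (L : List ℕ), (∀ b ∈ L, P (pts b)) → ∀ i, P (pts (encAux (m % 4096) i L)) from
    H basis hb 0
  intro L
  induction L with
  | nil => exact fun _ _ => hz
  | cons b L ih =>
    intro hL i
    simp only [encAux, ← pts_symmDiff]
    refine hxor _ _ ?_ (ih (fun c hc => hL c (List.mem_cons_of_mem _ hc)) _)
    split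
    · exact hL b (List.mem_cons_self ..)
    · exact hz

theorem zero_mem_supports : (∅ : Finset GolayPt) ∈ supports (golayCode : Set (GolayPt → ZMod 2)) :=
  ⟨0, Submodule.zero_mem _, by simp [support₂]⟩

theorem symmDiff_mem_supports {s t : Finset GolayPt}
    (hs : s ∈ supports (golayCode : Set (GolayPt → ZMod 2)))
    (ht : t ∈ supports (golayCode : Set (GolayPt → ZMod 2))) :
    symmDiff s t ∈ supports (golayCode : Set (GolayPt → ZMod 2)) := by
  obtain ⟨a, ha, rfl⟩ := mem_supports.mp hs
  obtain ⟨b, hb, rfl⟩ := mem_supports.mp ht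
  exact mem_supports.mpr ⟨_, xor_mem_codeList ha hb, pts_symmDiff a b⟩

/-- A permutation lies in `M24` as soon as it maps each basis octad to a code word. -/
theorem mem_M24_iff {σ : Equiv.Perm GolayPt} :
    σ ∈ M24 ↔ ∀ b ∈ basis, σ • pts b ∈ supports (golayCode : Set (GolayPt → ZMod 2)) := by
  constructor
  · intro h b hb
    have hs : pts b ∈ supports (golayCode : Set (GolayPt → ZMod 2)) :=
      mem_supports.mpr ⟨b, (mem_weightList.mp (basis_octad b hb)).1, rfl⟩
    have := Set.smul_mem_smul_set (a := σ) hs
    rwa [MulAction.mem_stabilizer_iff.mp h] at this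
  · intro h
    rw [MulAction.mem_stabilizer_iff]
    have hsub : ∀ s ∈ supports (golayCode : Set (GolayPt → ZMod 2)),
        σ • s ∈ supports (golayCode : Set (GolayPt → ZMod 2)) := fun s hs =>
      supports_induction (P := fun s => σ • s ∈ supports (golayCode : Set (GolayPt → ZMod 2)))
        (by simpa using zero_mem_supports)
        (fun s t h1 h2 => by rw [Finset.smul_finset_symmDiff]; exact symmDiff_mem_supports h1 h2)
        h hs
    refine Set.eq_of_subset_of_ncard_le ?_ ?_ (Set.toFinite _)
    · rintro _ ⟨s, hs, rfl⟩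
      exact hsub s hs
    · rw [Set.ncard_smul_set]

/-- The image of a mask under a map of bit positions. -/
def imgMask (f : ℕ → ℕ) (m : ℕ) : ℕ :=
  Nat.rec (motive := fun _ => ℕ) 0 (fun i acc => (if m.testBit i then 2 ^ f i else 0) ||| acc) 24

theorem testBit_imgMask (f : ℕ → ℕ) (m j : ℕ) :
    (imgMask f m).testBit j = true ↔ ∃ i < 24, m.testBit i = true ∧ f i = j := by
  unfold imgMask
  generalize 24 = n
  induction n with
  | zero => simp
  | succ k ih =>
    simp only [Nat.testBit_or, Bool.or_eq_true, ih]
    constructor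
    · rintro (h | ⟨i, hi, h⟩)
      · split at h
        · next hk =>
          rw [Nat.testBit_two_pow, decide_eq_true_eq] at h
          exact ⟨k, by omega, hk, h⟩
        · simp at h
      · exact ⟨i, by omega, h⟩
    · rintro ⟨i, hi, hb, he⟩
      by_cases hik : i = k
      · subst hik
        left
        rw [if_pos hb, Nat.testBit_two_pow, decide_eq_true_eq, he]
      · exact Or.inr ⟨i, by omega, hb, he⟩

/-- Images of masks under a permutation described by a map of bit positions. -/
theorem smul_pts (σ : Equiv.Perm GolayPt) (f : ℕ → ℕ) (hf : ∀ p, idx (σ p) = f (idx p)) (m : ℕ) :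
    σ • pts m = pts (imgMask f m) := by
  ext q
  rw [Finset.mem_smul_finset, mem_pts, testBit_imgMask]
  constructor
  · rintro ⟨p, hp, rfl⟩
    exact ⟨idx p, idx_lt p, mem_pts.mp hp, (hf p).symm⟩
  · rintro ⟨i, hi, hb, he⟩
    refine ⟨pt i, mem_pts.mpr (by rw [idx_pt hi]; exact hb), idx_injective ?_⟩
    rw [Equiv.Perm.smul_def, hf, idx_pt hi, he]

theorem mem_M24_of_fun {σ : Equiv.Perm GolayPt} (g : GolayPt → GolayPt) (hg : ∀ p, σ p = g p)
    (h : basis.all (fun b => isCode (imgMask (fun i => idx (g (pt i))) b)) = true) : σ ∈ M24 := by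
  rw [mem_M24_iff]
  intro b hb
  rw [smul_pts σ (fun i => idx (g (pt i))) (fun p => by simp only [pt_idx, hg]) b]
  exact mem_supports.mpr ⟨_, mem_codeList.mpr (List.all_eq_true.mp h b hb), rfl⟩

end Cfsg.Agent.Spor.Golay
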