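import Cfsg.Agent.Lib.Spor.Golay.Perm

/-! Certificates for orbits and orders of stabilisers of points and sets inside the code group. -/

set_option autoImplicit false
set_option maxRecDepth 100000

namespace Cfsg.Agent.Spor.Golay

open scoped Pointwise

/-- The elements of the code group fixing the sets of `X` and the positions of `bs`. -/
def Fix (X bs : List ℕ) : Subgroup (Equiv.Perm GolayPt) where
  carrier := {g | g ∈ M24 ∧ (∀ x ∈ X, g • pts x = pts x) ∧ ∀ b ∈ bs, g (pt b) = pt b}
  one_mem' := ⟨M24.one_mem, fun _ _ => one_smul _ _, fun _ _ => rfl⟩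
  mul_mem' := by
    rintro g h ⟨g1, g2, g3⟩ ⟨h1, h2, h3⟩
    exact ⟨M24.mul_mem g1 h1, fun x hx => by rw [mul_smul, h2 x hx, g2 x hx],
      fun b hb => by rw [Equiv.Perm.mul_apply, h3 b hb, g3 b hb]⟩
  inv_mem' := by
    rintro g ⟨g1, g2, g3⟩
    exact ⟨M24.inv_mem g1, fun x hx => inv_smul_eq_iff.mpr (g2 x hx).symm,
      fun b hb => Equiv.Perm.inv_eq_iff_eq.mpr (g3 b hb).symm⟩

theorem mem_Fix {X bs : List ℕ} {g : Equiv.Perm GolayPt} :
    g ∈ Fix X bs ↔ g ∈ M24 ∧ (∀ x ∈ X, g • pts x = pts x) ∧ ∀ b ∈ bs, g (pt b) = pt b := Iff.rfl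

theorem Fix_nil : Fix [] [] = M24 := by
  ext g; simp [mem_Fix]

/-- The union of the given positions as a mask. -/
def maskL : List ℕ → ℕ
  | [] => 0
  | b :: bs => 2 ^ b ||| maskL bs

theorem testBit_maskL {bs : List ℕ} {i : ℕ} : (maskL bs).testBit i = true ↔ i ∈ bs := by
  induction bs with
  | nil => simp [maskL]
  | cons b bs ih =>
    rw [maskL, Nat.testBit_or, Bool.or_eq_true, ih, Nat.testBit_two_pow, decide_eq_true_eq,
      List.mem_cons]
    exact or_congr ⟨Eq.symm, Eq.symm⟩ Iff.rfl

theorem pts_two_pow {i : ℕ} (hi : i < 24) : pts (2 ^ i) = {pt i} := by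
  ext p
  rw [mem_pts, Nat.testBit_two_pow, decide_eq_true_eq, Finset.mem_singleton]
  exact ⟨fun h => by rw [h, pt_idx], fun h => by rw [h, idx_pt hi]⟩

/-- The 759 octads. -/
def octData : List ℕ := 
  [13062145, 4845570, 9347075, 13938692, 1302533, 10305542, 5902343, 7221256, 11100169, 2605066,
    14716939, 12222476, 3416079, 10170384, 6053905, 13811730, 1413139, 5210132, 8966165, 421910,
    12656663, 16056344, 3297305, 2207772, 6832158, 11952160, 7417889, 3719203, 6475812, 10846245,
    2826278, 14176296, 2031657, 9543722, 843820, 4526126, 8536111, 2969648, 15335473, 6594610,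
    11538486, 4415544, 8663097, 692282, 5275709, 15515712, 2854977, 10825794, 6447171, 3698756,
    7438406, 8581192, 4563017, 13303882, 806987, 5652556, 9506893, 11575377, 4063314, 10698836,
    6557781, 1687640, 5255258, 663645, 8683614, 5939296, 1265762, 13893731, 9310308, 4800613,
    45159, 3444840, 14688364, 12685424, 442481, 8937586, 1384564, 2162811, 2019456, 14254209,
    5709954, 9465987, 13262980, 864389, 8622214, 4505735, 7397512, 3739786, 10768524, 6488205,
    8773776, 4370577, 13373586, 737427, 5329044, 9830549, 1613974, 2916505, 10625178, 11055264,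
    14762146, 2494627, 8126628, 13009064, 118953, 4726955, 1192108, 3375280, 2121909, 1327290,
    8978620, 15864000, 3489985, 2531524, 11010247, 10232008, 1212619, 4755660, 90318, 6889680,
    2150610, 463064, 12599513, 4485344, 8593633, 884962, 9486564, 2769128, 1577201, 4325622,
    4038912, 7622914, 11731203, 15274244, 3031301, 10543366, 5476616, 9748745, 1728778, 8855820,
    4223245, 622863, 10916112, 6406417, 2634003, 7479572, 13148440, 8474906, 4587803, 1839388,
    9158944, 5017889, 12726562, 352547, 9969957, 1474854, 2269481, 11272490, 3227948, 1110320,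
    5833010, 12861748, 201013, 13721920, 1454401, 9998658, 381252, 12747077, 4989254, 7864649,
    2232654, 4870480, 9240913, 237906, 1065303, 2384216, 6750560, 10506593, 602472, 4243818,
    2654580, 9568632, 2322816, 14950785, 6979970, 3182981, 5063048, 9048457, 307594, 13631886,
    12075408, 2425238, 1122713, 180636, 9769376, 5390753, 4301220, 545190, 926128, 8421811,
    6295992, 582081, 8798658, 4264387, 1769924, 10584520, 5538256, 8401364, 3154402, 262637,
    8077824, 12325377, 3322370, 6857221, 15073798, 2183687, 1405448, 13771273, 6062602, 12698124,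
    430605, 8925710, 14709264, 2564625, 11108882, 3457556, 9323032, 4788761, 57883, 1245726,
    13443616, 684577, 8704546, 4424227, 1675812, 5268006, 10687016, 6570537, 5640752, 9519665,
    8561204, 786999, 3678776, 9929280, 5296705, 1647171, 4403780, 8675909, 705094, 11551306,
    2949708, 832080, 4538962, 8524371, 14156372, 6455896, 2220640, 6820450, 3277413, 8946281,
    402026, 21116, 6656640, 10666625, 2908802, 11608708, 762504, 4346506, 8716939, 1589901,
    7340691, 2757268, 9474712, 4465308, 1352353, 10093218, 475812, 12587685, 2130606, 4768432,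
    78514, 8999616, 5112513, 12624578, 1315526, 2110153, 1204944, 99029, 5309160, 10748656,
    4645632, 8499969, 987906, 13124355, 9589508, 5571333, 2675464, 6365962, 1737489, 9708306,
    615188, 4231958, 10486557, 15762208, 2372388, 1053483, 4850476, 2245426, 361272, 11150144,
    2392899, 12849992, 213833, 1090380, 3216208, 1852256, 8455014, 4203377, 5780352, 1164162,
    9208708, 140167, 3539848, 12780432, 283537, 2687905, 8414120, 6308804, 525274, 168928,
    11654144, 7767041, 16262146, 6644740, 10630149, 2921478, 1618953, 9835530, 5325835, 742412,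
    13370381, 4367374, 2810896, 6493202, 10765331, 3736597, 4510744, 8619033, 861210, 9462812,
    504864, 12641313, 5129250, 8983587, 13829156, 1332261, 6915112, 2126890, 10257456, 1188915,
    4731956, 115766, 2491452, 6100032, 10110017, 1369154, 9020484, 12604486, 459847, 3351624,
    2147405, 12985424, 95313, 4752467, 1217620, 11015256, 2892897, 10650722, 8733800, 4330601,
    1573998, 7357552, 11469952, 6837377, 2204803, 3294342, 12661896, 418953, 8963210, 1410188,
    3421328, 14714004, 5899416, 5279, 1664160, 5280930, 689317, 8660134, 11535529, 8541360,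
    4523185, 4441280, 8688833, 668866, 5252293, 6554826, 9503954, 804052, 2168036, 42232,
    9204992, 4924673, 12944642, 185603, 5817604, 1127686, 14828808, 2430217, 1525008, 13636881,
    304405, 9045270, 3179802, 3806496, 6292775, 5514536, 8426796, 10560816, 542009, 6337856,
    2704706, 11797828, 951624, 8398155, 4261212, 1148257, 157028, 267634, 9610624, 1836419,
    4593028, 8471941, 2631052, 628112, 4220306, 2409888, 198058, 1070536, 2229713, 13108704,
    13276672, 902657, 8611330, 4470275, 1975812, 9471495, 10790408, 2754059, 7345676, 5350928,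
    1594898, 8721940, 4343317, 3474978, 11028004, 1230376, 75309, 2135601, 12584506, 2512448,
    14747201, 4744776, 104010, 2106966, 1312345, 9451104, 4490852, 722544, 13911680, 1250945,
    63108, 4785798, 8922769, 427666, 2180760, 6432416, 792232, 3704512, 8521420, 18147,
    3172097, 2328324, 10028808, 280334, 7079696, 145176, 4282144, 8783649, 567074, 5375810,
    530245, 8439632, 10491778, 4229001, 1050548, 337856, 14919680, 2422785, 11163650, 7145475,
    3610628, 15747077, 9279496, 4900873, 12871690, 210955, 5842956, 1103886, 7903248, 3237906,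
    11282452, 2263063, 1484824, 9963547, 12720156, 346141, 5621792, 9607201, 1849378, 8484900,
    4597797, 13142054, 7473194, 2627629, 632881, 8849458, 4216883, 1722420, 10537016, 1009728,
    13121601, 4626498, 8505411, 1869893, 9578566, 6379592, 10881097, 2664522, 9721936, 5441617,
    4253780, 596054, 12126304, 2377830, 1075305, 231532, 2242672, 4982904, 3811457, 11831426,
    2738308, 6305926, 9652360, 5511305, 8431757, 919694, 6703248, 10557585, 555160, 4294810,
    4921504, 9193633, 190626, 1116327, 2435240, 13641904, 301236, 1161408, 5785794, 12912836,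
    153797, 9078992, 272595, 3147996, 6326497, 8394986, 14551296, 1661185, 5286147, 702724,
    4409606, 8657159, 11548936, 6588684, 4536592, 8546577, 837906, 9537812, 2820376, 6842656,
    2201890, 416040, 12650793, 3410225, 10558, 3328320, 2173253, 1378634, 8931660, 14682450,
    39257, 8694112, 657763, 5249380, 12638592, 493953, 8989058, 1337732, 2115979, 1186194,
    4721045, 10619300, 1608104, 2890176, 4336072, 84464, 10021376, 13703682, 1460739, 5003780,
    9112069, 371206, 3246601, 2255372, 252432, 12880401, 4860434, 1063445, 2365978, 3050016,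
    10496547, 4241960, 608810, 9701932, 6359604, 7612992, 10525252, 1710664, 4196943, 2640465,
    8464984, 12733024, 334433, 1084018, 8796800, 4287105, 563843, 5409412, 15207048, 1903248,
    8407702, 3168928, 133817, 2296514, 314056, 535268, 10832640, 6429441, 3672838, 797449,
    8555274, 5262104, 1256224, 52005, 8919856, 4819776, 31554, 396116, 72588, 2141072,
    4459426, 9440193, 5405696, 9776129, 1805314, 8834052, 4299781, 551943, 3951624, 10554382,
    13192208, 924689, 8436754, 5508118, 6302745, 14949408, 2313249, 3189796, 9055272, 298027,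
    1121336, 3152963, 6949956, 13667400, 277580, 2460752, 150618, 580704, 4271202, 8391797,
    5024896, 351362, 12717187, 9968772, 2268296, 1100945, 208020, 4213932, 2624690, 10513600,
    593097, 1445088, 11046145, 2501890, 126216, 4726026, 1182989, 2120980, 9456930, 855332,
    4361520, 8592704, 4476225, 1584464, 7409024, 8654232, 15777, 36294, 2702848, 6344194,
    4656648, 8412681, 11669008, 560668, 5770785, 138790, 290352, 175681, 9178690, 1134148,
    2363013, 1060490, 8490656, 4202192, 1351424, 12594948, 69395, 2101096, 675712]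

theorem octData_check : (octData.all fun o => isCode o && (pop o == 8)) = true := by decide +kernel

theorem mem_octData {o : ℕ} (h : o ∈ octData) : pts o ∈ octads := by
  have := List.all_eq_true.mp octData_check o h
  rw [Bool.and_eq_true, beq_iff_eq] at this
  exact mem_octads.mpr ⟨o, mem_weightList.mpr ⟨mem_codeList.mpr this.1, this.2⟩, rfl⟩

/-- An element of the code group maps octads to octads. -/
theorem smul_octad {g : Equiv.Perm GolayPt} (hg : g ∈ M24) {o : Finset GolayPt} (ho : o ∈ octads) :
    g • o ∈ octads := by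
  refine ⟨?_, by rw [Finset.card_smul_finset, ho.2]⟩
  have := Set.smul_mem_smul_set (a := g) ho.1
  rwa [MulAction.mem_stabilizer_iff.mp hg] at this

/-- Sets stabilised by every element stabilising `X` and fixing the positions of `F`. -/
def invs (X : List ℕ) (F : ℕ) : List ℕ :=
  X ++ octData.filter (fun o => decide (5 ≤ pop (o &&& F))) ++
    (((List.range 24).filter fun i => F.testBit i).map fun i => 2 ^ i)

/-- The cell of position `p` cut out by a list of sets. -/
def cell (I : List ℕ) (p : ℕ) : ℕ :=
  I.foldl (fun c S => c &&& (if S.testBit p then S else 16777215 ^^^ S)) 16777215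

/-- Positions forced fixed. -/
def step (X : List ℕ) (F : ℕ) : ℕ :=
  let I := invs X F
  maskL ((List.range 24).filter fun p => cell I p == 2 ^ p)

theorem invs_sound {X : List ℕ} {F : ℕ} {g : Equiv.Perm GolayPt} (hg : g ∈ M24)
    (hX : ∀ x ∈ X, g • pts x = pts x) (hF : ∀ i < 24, F.testBit i = true → g (pt i) = pt i) :
    ∀ S ∈ invs X F, g • pts S = pts S := by
  intro S hS
  simp only [invs, List.mem_append, List.mem_map, List.mem_filter, List.mem_range,
    decide_eq_true_eq] at hS
  rcases hS with (hS | ⟨hS, h5⟩) | ⟨i, ⟨hi, hFi⟩, rfl⟩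
  · exact hX S hS
  · have ho := mem_octData hS
    have hsub : pts (S &&& F) ⊆ g • pts S := by
      intro p hp
      rw [mem_pts, Nat.testBit_and, Bool.and_eq_true] at hp
      have hfix : g p = p := by
        have := hF _ (idx_lt p) hp.2
        rwa [pt_idx] at this
      exact Finset.mem_smul_finset.mpr ⟨p, mem_pts.mpr hp.1, hfix⟩
    have hsub' : pts (S &&& F) ⊆ pts S := by rw [← pts_inter]; exact Finset.inter_subset_left
    obtain ⟨u, hu, huc⟩ := Finset.exists_subset_card_eq
      (show 5 ≤ (pts (S &&& F)).card by rw [card_pts]; exact h5)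
    exact (octads_steiner.2 u huc).unique ⟨smul_octad hg ho, hu.trans hsub⟩ ⟨ho, hu.trans hsub'⟩
  · rw [pts_two_pow hi, Finset.smul_finset_singleton, Equiv.Perm.smul_def, hF i hi hFi]

theorem cell_sound {I : List ℕ} {g : Equiv.Perm GolayPt} (hI : ∀ S ∈ I, g • pts S = pts S)
    (p : GolayPt) : g p ∈ pts (cell I (idx p)) := by
  have hfull : ∀ q : GolayPt, Nat.testBit 16777215 (idx q) = true := by decide +kernel
  unfold cell
  suffices H : ∀ (c : ℕ), g p ∈ pts c →
      g p ∈ pts (I.foldl (fun c S => c &&& (if S.testBit (idx p) then S else 16777215 ^^^ S)) c) from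
    H _ (mem_pts.mpr (hfull _))
  induction I with
  | nil => exact fun c h => h
  | cons S I ih =>
    intro c hc
    refine ih (fun T hT => hI T (List.mem_cons_of_mem _ hT)) _ ?_
    rw [← pts_inter, Finset.mem_inter]
    refine ⟨hc, ?_⟩
    have hiff : g p ∈ pts S ↔ p ∈ pts S := by
      conv_lhs => rw [← hI S (List.mem_cons_self ..)]
      exact Finset.smul_mem_smul_finset_iff g
    split
    · next h => exact hiff.mpr (mem_pts.mpr h)
    · next h =>
      rw [mem_pts, Nat.testBit_xor, hfull]
      have : ¬(g p ∈ pts S) := fun hc => h (mem_pts.mp (hiff.mp hc))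
      rw [mem_pts] at this
      simp [this]

theorem step_sound {X : List ℕ} {F : ℕ} {g : Equiv.Perm GolayPt} (hg : g ∈ M24)
    (hX : ∀ x ∈ X, g • pts x = pts x) (hF : ∀ i < 24, F.testBit i = true → g (pt i) = pt i) :
    ∀ i < 24, (step X F).testBit i = true → g (pt i) = pt i := by
  intro i hi h
  simp only [step, testBit_maskL, List.mem_filter, beq_iff_eq] at h
  have := cell_sound (invs_sound hg hX hF) (pt i)
  rw [idx_pt hi, h.2, pts_two_pow hi, Finset.mem_singleton] at this
  exact this

theorem fix_maskL {X bs : List ℕ} {g : Equiv.Perm GolayPt} (hg : g ∈ Fix X bs) :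
    ∀ i < 24, (maskL bs).testBit i = true → g (pt i) = pt i :=
  fun i _ h => (mem_Fix.mp hg).2.2 i (testBit_maskL.mp h)

/-- Whether the positions of `bs` force every point to be fixed. -/
def trivOk (X bs : List ℕ) : Bool :=
  step X (step X (maskL bs)) == 16777215

theorem Fix_eq_bot {X bs : List ℕ} (h : trivOk X bs = true) : Fix X bs = ⊥ := by
  refine (Subgroup.eq_bot_iff_forall _).mpr fun g hg => Equiv.ext fun p => ?_
  rw [trivOk, beq_iff_eq] at h
  obtain ⟨hM, hX, -⟩ := mem_Fix.mp hg
  have h2 := step_sound hM hX (step_sound hM hX (fix_maskL hg)) _ (idx_lt p)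
    (by rw [h]; revert p; decide +kernel)
  rwa [pt_idx] at h2

/-- A level: base position, its orbit as a mask, table entries giving a transversal. -/
abbrev Level : Type := ℕ × ℕ × List ℕ

/-- The transversal of one level is correct. -/
def lowLevel (T : ℕ) (X bs : List ℕ) (l : Level) : Bool :=
  decide (l.1 < 24) && decide (l.2.1 < 2 ^ 24) &&
    l.2.2.all (fun i => X.all (fun x => imgMask (get (tab 120 T i)) x == x) &&
      bs.all (fun b => decide (b < 24) && (get (tab 120 T i) b == b))) &&
    (maskL (l.2.2.map fun i => get (tab 120 T i) l.1) == l.2.1)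

/-- The orbit cannot be larger. -/
def upLevel (X bs : List ℕ) (l : Level) : Bool :=
  let c := cell (invs X (maskL bs)) l.1
  c &&& l.2.1 == c

/-- All transversals are correct. -/
def lowOk (T : ℕ) (X : List ℕ) : List ℕ → List Level → Bool
  | _, [] => true
  | bs, l :: ls => lowLevel T X bs l && lowOk T X (l.1 :: bs) ls

/-- All orbits are complete. -/
def upOk (X : List ℕ) : List ℕ → List Level → Bool
  | bs, [] => trivOk X bs
  | bs, l :: ls => upLevel X bs l && upOk X (l.1 :: bs) ls

/-- The product of the orbit sizes. -/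
def sizeProd (ls : List Level) : ℕ := (ls.map fun l => pop l.2.1).prod

/-- The base of a list of levels, last first. -/
def baseOf : List ℕ → List Level → List ℕ
  | bs, [] => bs
  | bs, l :: ls => baseOf (l.1 :: bs) ls

/-- The table consists of packed elements of the code group. -/
def TableOk (T n : ℕ) : Prop :=
  ∀ i < n, valid (tab 120 T i) = true ∧ permOf (tab 120 T i) ∈ M24

/-- The table indices used are in range. -/
def idxOk (n : ℕ) (ls : List Level) : Bool := ls.all fun l => l.2.2.all fun i => decide (i < n)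

theorem exists_of_lowLevel {T n : ℕ} (hT : TableOk T n) {X bs : List ℕ} {l : Level}
    (hl : lowLevel T X bs l = true) (hn : ∀ i ∈ l.2.2, i < n) {q : GolayPt} (hq : q ∈ pts l.2.1) :
    ∃ g ∈ Fix X bs, g (pt l.1) = q := by
  simp only [lowLevel, Bool.and_eq_true, decide_eq_true_eq, List.all_eq_true, beq_iff_eq] at hl
  obtain ⟨⟨⟨hb, -⟩, hall⟩, hm⟩ := hl
  rw [mem_pts, ← hm, testBit_maskL, List.mem_map] at hq
  obtain ⟨i, hi, he⟩ := hq
  obtain ⟨hv, hmem⟩ := hT i (hn i hi)
  obtain ⟨hX, hbs⟩ := hall i hi
  refine ⟨permOf (tab 120 T i), mem_Fix.mpr ⟨hmem, fun x hx => ?_, fun b hb' => ?_⟩, ?_⟩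
  · rw [permOf_smul_pts hv, hX x hx]
  · refine idx_injective ?_
    rw [idx_permOf hv, idx_pt (hbs b hb').1, (hbs b hb').2]
  · exact idx_injective (by rw [idx_permOf hv, idx_pt hb, he])

theorem card_Fix_step (X bs : List ℕ) (b : ℕ) :
    Nat.card (Fix X bs) =
      Nat.card (MulAction.orbit (Fix X bs) (pt b)) * Nat.card (Fix X (b :: bs)) := by
  classical
  have e : MulAction.stabilizer (Fix X bs) (pt b) ≃ Fix X (b :: bs) :=
    { toFun := fun g => ⟨g.1.1, by
        obtain ⟨h1, h2, h3⟩ := mem_Fix.mp g.1.2
        refine mem_Fix.mpr ⟨h1, h2, fun c hc => ?_⟩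
        rcases List.mem_cons.mp hc with rfl | hc
        · exact g.2
        · exact h3 c hc⟩
      invFun := fun g => ⟨⟨g.1, by
          obtain ⟨h1, h2, h3⟩ := mem_Fix.mp g.2
          exact mem_Fix.mpr ⟨h1, h2, fun c hc => h3 c (List.mem_cons_of_mem _ hc)⟩⟩, by
        exact (mem_Fix.mp g.2).2.2 b (List.mem_cons_self ..)⟩
      left_inv := fun g => rfl
      right_inv := fun g => rfl }
  rw [← Nat.card_congr e, ← Nat.card_prod]
  exact Nat.card_congr (MulAction.orbitProdStabilizerEquivGroup (Fix X bs) (pt b)).symm

theorem pts_subset_orbit {T n : ℕ} (hT : TableOk T n) {X bs : List ℕ} {l : Level}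
    (hl : lowLevel T X bs l = true) (hn : ∀ i ∈ l.2.2, i < n) :
    (pts l.2.1 : Set GolayPt) ⊆ MulAction.orbit (Fix X bs) (pt l.1) := fun q hq => by
  obtain ⟨g, hg, e⟩ := exists_of_lowLevel hT hl hn (Finset.mem_coe.mp hq)
  exact ⟨⟨g, hg⟩, e⟩

theorem orbit_card_ge {T n : ℕ} (hT : TableOk T n) {X bs : List ℕ} {l : Level}
    (hl : lowLevel T X bs l = true) (hn : ∀ i ∈ l.2.2, i < n) :
    pop l.2.1 ≤ Nat.card (MulAction.orbit (Fix X bs) (pt l.1)) := by
  rw [← card_pts, Nat.card_coe_set_eq, ← Set.ncard_coe_finset]
  exact Set.ncard_le_ncard (pts_subset_orbit hT hl hn) (Set.toFinite _)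

theorem orbit_eq {T n : ℕ} (hT : TableOk T n) {X bs : List ℕ} {l : Level}
    (hl : lowLevel T X bs l = true) (hu : upLevel X bs l = true) (hn : ∀ i ∈ l.2.2, i < n) :
    Nat.card (MulAction.orbit (Fix X bs) (pt l.1)) = pop l.2.1 := by
  refine le_antisymm ?_ (orbit_card_ge hT hl hn)
  rw [← card_pts, Nat.card_coe_set_eq, ← Set.ncard_coe_finset]
  refine Set.ncard_le_ncard ?_ (Set.toFinite _)
  rintro _ ⟨g, rfl⟩
  obtain ⟨hM, hX, -⟩ := mem_Fix.mp g.2
  have hb : l.1 < 24 := by
    simp only [lowLevel, Bool.and_eq_true, decide_eq_true_eq] at hl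
    exact hl.1.1.1
  have h := cell_sound (invs_sound hM hX (fix_maskL g.2)) (pt l.1)
  rw [idx_pt hb] at h
  simp only [upLevel, beq_iff_eq] at hu
  rw [← hu, ← pts_inter, Finset.mem_inter] at h
  exact Finset.mem_coe.mpr h.2

theorem le_card_Fix {T n : ℕ} (hT : TableOk T n) {X : List ℕ} :
    ∀ (ls : List Level) (bs : List ℕ), lowOk T X bs ls = true → idxOk n ls = true →
      sizeProd ls * Nat.card (Fix X (baseOf bs ls)) ≤ Nat.card (Fix X bs)
  | [], bs, _, _ => by simp [sizeProd, baseOf]
  | l :: ls, bs, h, hn => by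
    simp only [lowOk, Bool.and_eq_true] at h
    simp only [idxOk, List.all_cons, Bool.and_eq_true, List.all_eq_true, decide_eq_true_eq] at hn
    have ih := le_card_Fix hT ls (l.1 :: bs) h.2 (by simpa [idxOk] using hn.2)
    rw [card_Fix_step X bs l.1]
    refine le_trans (le_of_eq ?_) (Nat.mul_le_mul (orbit_card_ge hT h.1 hn.1) ih)
    simp [sizeProd, baseOf, Nat.mul_assoc]

theorem card_Fix {T n : ℕ} (hT : TableOk T n) {X : List ℕ} :
    ∀ (ls : List Level) (bs : List ℕ), lowOk T X bs ls = true → upOk X bs ls = true →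
      idxOk n ls = true → Nat.card (Fix X bs) = sizeProd ls
  | [], bs, _, hu, _ => by
    rw [Fix_eq_bot (by simpa [upOk] using hu)]; simp [sizeProd]
  | l :: ls, bs, h, hu, hn => by
    simp only [lowOk, Bool.and_eq_true] at h
    simp only [upOk, Bool.and_eq_true] at hu
    simp only [idxOk, List.all_cons, Bool.and_eq_true, List.all_eq_true, decide_eq_true_eq] at hn
    rw [card_Fix_step X bs l.1, orbit_eq hT h.1 hu.1 hn.1,
      card_Fix hT ls (l.1 :: bs) h.2 hu.2 (by simpa [idxOk] using hn.2)]
    simp [sizeProd]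

/-- The orbit of each level is everything in `U` off the positions already fixed. -/
def fullOk (U : ℕ) : List ℕ → List Level → Bool
  | _, [] => true
  | bs, l :: ls => (l.2.1 == U &&& (16777215 ^^^ maskL bs)) && fullOk U (l.1 :: bs) ls

/-- Transitivity on tuples of points of an invariant set. -/
theorem exists_tuple {T n : ℕ} (hT : TableOk T n) {X : List ℕ} {U : ℕ} :
    ∀ (ls : List Level) (bs : List ℕ), lowOk T X bs ls = true → idxOk n ls = true →
      fullOk U bs ls = true → (∀ g ∈ Fix X bs, g • pts U = pts U) →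
      ∀ xs : List GolayPt, xs.length ≤ ls.length → xs.Nodup →
        (∀ x ∈ xs, x ∈ pts U ∧ ∀ b ∈ bs, x ≠ pt b) →
        ∃ g ∈ Fix X bs, (ls.take xs.length).map (fun l => g (pt l.1)) = xs := by
  intro ls
  induction ls with
  | nil =>
    intro bs _ _ _ _ xs hlen _ _
    exact ⟨1, one_mem _, by simp [List.length_eq_zero_iff.mp (Nat.le_zero.mp hlen)]⟩
  | cons l ls ih =>
    intro bs h hn hf hU xs hlen hnd hxs
    cases xs with
    | nil => exact ⟨1, one_mem _, by simp⟩
    | cons x xs =>
      simp only [lowOk, Bool.and_eq_true] at h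
      simp only [idxOk, List.all_cons, Bool.and_eq_true, List.all_eq_true, decide_eq_true_eq] at hn
      simp only [fullOk, Bool.and_eq_true, beq_iff_eq] at hf
      rw [List.nodup_cons] at hnd
      have hx : x ∈ pts l.2.1 := by
        obtain ⟨h1, h2⟩ := hxs x (List.mem_cons_self ..)
        rw [hf.1, ← pts_inter, ← pts_compl, Finset.mem_inter, Finset.mem_compl, mem_pts, mem_pts,
          testBit_maskL]
        exact ⟨mem_pts.mp h1, fun hmem => h2 _ hmem (pt_idx x).symm⟩
      obtain ⟨g, hg, hgx⟩ := exists_of_lowLevel hT h.1 hn.1 hx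
      have hsub : ∀ k ∈ Fix X (l.1 :: bs), k ∈ Fix X bs := fun k hk => by
        obtain ⟨k1, k2, k3⟩ := mem_Fix.mp hk
        exact mem_Fix.mpr ⟨k1, k2, fun c hc => k3 c (List.mem_cons_of_mem _ hc)⟩
      obtain ⟨k, hk, hkx⟩ := ih (l.1 :: bs) h.2 (by simpa [idxOk] using hn.2) hf.2
        (fun k hk => hU k (hsub k hk)) (xs.map (g⁻¹ : Equiv.Perm GolayPt))
        (by simpa using Nat.le_of_succ_le_succ hlen)
        (hnd.2.map (g⁻¹ : Equiv.Perm GolayPt).injective) (by
          intro y hy
          obtain ⟨z, hz, rfl⟩ := List.mem_map.mp hy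
          obtain ⟨hz1, hz2⟩ := hxs z (List.mem_cons_of_mem _ hz)
          refine ⟨?_, fun b hb he => ?_⟩
          · have := Finset.smul_mem_smul_finset (a := (g⁻¹ : Equiv.Perm GolayPt)) hz1
            rwa [hU _ (inv_mem hg)] at this
          · have hz' : z = g (pt b) := (Equiv.Perm.inv_eq_iff_eq.mp he)
            rcases List.mem_cons.mp hb with rfl | hb
            · exact hnd.1 (by rw [← hgx, ← hz']; exact hz)
            · exact hz2 b hb (hz'.trans ((mem_Fix.mp hg).2.2 b hb)))
      refine ⟨g * k, mul_mem hg (hsub k hk), ?_⟩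
      rw [List.length_map] at hkx
      simp only [List.length_cons, List.take_succ_cons, List.map_cons, Equiv.Perm.mul_apply]
      congr 1
      · rw [(mem_Fix.mp hk).2.2 _ (List.mem_cons_self ..), hgx]
      · have := congrArg (List.map (g : Equiv.Perm GolayPt)) hkx
        simpa [List.map_map, Function.comp_def] using this

end Cfsg.Agent.Spor.Golay
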