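import Cfsg.Agent.Lib.Spor.Golay.M24

/-! Consequences of the certificate: stabilisers and transitivity of the code group. -/

set_option autoImplicit false
set_option maxRecDepth 100000

namespace Cfsg.Agent.Spor.Golay

open scoped Pointwise

/-- Every element fixed in a certified chain is a product of table entries. -/
theorem mem_of_chain {T n : ℕ} (hT : TableOk T n) (H : Subgroup (Equiv.Perm GolayPt))
    (hH : ∀ i < n, permOf (tab 120 T i) ∈ H) {X : List ℕ} :
    ∀ (ls : List Level) (bs : List ℕ), lowOk T X bs ls = true → upOk X bs ls = true →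
      idxOk n ls = true → ∀ g ∈ Fix X bs, g ∈ H
  | [], bs, _, hu, _, g, hg => by
    rw [Fix_eq_bot (by simpa [upOk] using hu), Subgroup.mem_bot] at hg
    rw [hg]; exact H.one_mem
  | l :: ls, bs, h, hu, hn, g, hg => by
    simp only [lowOk, Bool.and_eq_true] at h
    simp only [upOk, Bool.and_eq_true] at hu
    simp only [idxOk, List.all_cons, Bool.and_eq_true, List.all_eq_true, decide_eq_true_eq] at hn
    have hl := h.1
    simp only [lowLevel, Bool.and_eq_true, decide_eq_true_eq, List.all_eq_true, beq_iff_eq] at hl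
    obtain ⟨⟨⟨hb, -⟩, hall⟩, hm⟩ := hl
    obtain ⟨hM, hX, hbs⟩ := mem_Fix.mp hg
    have hc := cell_sound (invs_sound hM hX (fix_maskL hg)) (pt l.1)
    rw [idx_pt hb] at hc
    have hu1 := hu.1
    simp only [upLevel, beq_iff_eq] at hu1
    rw [← hu1, ← pts_inter, Finset.mem_inter] at hc
    have hc2 := mem_pts.mp hc.2
    rw [← hm, testBit_maskL, List.mem_map] at hc2
    obtain ⟨i, hi, he⟩ := hc2
    obtain ⟨hv, hmem⟩ := hT i (hn.1 i hi)
    have hfix : permOf (tab 120 T i) ∈ Fix X bs := mem_Fix.mpr ⟨hmem,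
      fun x hx => by rw [permOf_smul_pts hv, (hall i hi).1 x hx],
      fun b hb' => idx_injective (by
        rw [idx_permOf hv, idx_pt ((hall i hi).2 b hb').1, ((hall i hi).2 b hb').2])⟩
    have hk : (permOf (tab 120 T i))⁻¹ * g ∈ Fix X (l.1 :: bs) := by
      obtain ⟨k1, k2, k3⟩ := mem_Fix.mp (mul_mem (inv_mem hfix) hg)
      refine mem_Fix.mpr ⟨k1, k2, fun c hc' => ?_⟩
      rcases List.mem_cons.mp hc' with rfl | hc'
      · rw [Equiv.Perm.mul_apply, Equiv.Perm.inv_eq_iff_eq]
        refine idx_injective ?_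
        rw [idx_permOf hv, idx_pt hb, he]
      · exact k3 c hc'
    have := mem_of_chain hT H hH ls (l.1 :: bs) h.2 hu.2 (by simpa [idxOk] using hn.2) _ hk
    simpa using H.mul_mem (hH i (hn.1 i hi)) this

theorem closure_gens : Subgroup.closure gens = M24 :=
  le_antisymm closure_gens_le fun g hg =>
    mem_of_chain tableOk (Subgroup.closure gens) (fun i hi => (table_mem i hi).2) chainA [] lowA upA
      idx_ok.1 g (Fix_nil.symm ▸ hg)

theorem M24_pretransitive1 : MulAction.IsPretransitive M24 GolayPt :=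
  MulAction.is_one_pretransitive_iff.mp (M24_pretransitive (by norm_num))

theorem card_stabilizer_point (p : GolayPt) :
    Nat.card (MulAction.stabilizer M24 p) = 10200960 := by
  haveI := M24_pretransitive1
  have h := Nat.card_congr (MulAction.orbitProdStabilizerEquivGroup M24 p)
  rw [Nat.card_prod, MulAction.orbit_eq_univ, card_M24] at h
  simp only [Nat.card_coe_set_eq, Set.ncard_univ, Nat.card_eq_fintype_card (α := GolayPt),
    card_golayPt] at h
  omega

theorem card_stabilizer_two (p q : GolayPt) (hpq : p ≠ q) :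
    Nat.card ↥(MulAction.stabilizer M24 p ⊓ MulAction.stabilizer M24 q) = 443520 := by
  classical
  haveI := M24_pretransitive (n := 2) (by norm_num)
  have horb : MulAction.orbit (MulAction.stabilizer M24 p) q = ({p}ᶜ : Set GolayPt) := by
    ext r
    constructor
    · rintro ⟨g, rfl⟩ he
      have hp : (g : M24) • p = p := g.2
      exact hpq ((MulAction.injective (g : M24) ((Set.mem_singleton_iff.mp he).trans hp.symm)).symm)
    · intro hr
      rw [Set.mem_compl_singleton_iff] at hr
      obtain ⟨g, hg1, hg2⟩ := MulAction.is_two_pretransitive_iff.mp ‹_› hpq (Ne.symm hr)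
      exact ⟨⟨g, hg1⟩, hg2⟩
  have h := Nat.card_congr (MulAction.orbitProdStabilizerEquivGroup (MulAction.stabilizer M24 p) q)
  rw [Nat.card_prod, horb, card_stabilizer_point, Nat.card_coe_set_eq, Set.ncard_compl,
    Set.ncard_singleton, Nat.card_eq_fintype_card (α := GolayPt), card_golayPt] at h
  let e : MulAction.stabilizer (MulAction.stabilizer M24 p) q ≃
      ↥(MulAction.stabilizer M24 p ⊓ MulAction.stabilizer M24 q) :=
    { toFun := fun g => ⟨g.1.1, g.1.2, g.2⟩
      invFun := fun g => ⟨⟨g.1, g.2.1⟩, g.2.2⟩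
      left_inv := fun _ => rfl
      right_inv := fun _ => rfl }
  rw [Nat.card_congr e] at h
  omega

/-- The first six base points of `chainA`, last first. -/
def sixA : List ℕ := ((chainA.take 6).map Prod.fst).reverse

/-- The first six base points of `chainB`, last first. -/
def sixB : List ℕ := ((chainB.take 6).map Prod.fst).reverse

/-- The first five base points, last first. -/
def five : List ℕ := ((chainA.take 5).map Prod.fst).reverse

theorem six_checks : lowOk table [] sixA (chainA.drop 6) = true ∧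
    upOk [] sixA (chainA.drop 6) = true ∧ idxOk tableLen (chainA.drop 6) = true ∧
    lowOk table [] sixB (chainB.drop 6) = true ∧
    upOk [] sixB (chainB.drop 6) = true ∧ idxOk tableLen (chainB.drop 6) = true := by
  decide +kernel

theorem card_Fix_sixA : Nat.card (Fix [] sixA) = 16 := by
  rw [card_Fix tableOk _ _ six_checks.1 six_checks.2.1 six_checks.2.2.1]
  decide +kernel

theorem card_Fix_sixB : Nat.card (Fix [] sixB) = 3 := by
  rw [card_Fix tableOk _ _ six_checks.2.2.2.1 six_checks.2.2.2.2.1 six_checks.2.2.2.2.2]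
  decide +kernel

/-- The octad of the first five base points. -/
def octA : ℕ := 5279

theorem octA_checks : isCode octA = true ∧ pop octA = 8 ∧
    five.all (fun b => octA.testBit b && decide (b < 24)) = true ∧
    maskL sixA &&& octA = maskL sixA ∧
    ((chainA.drop 6).all fun l => l.2.2.all fun i => (List.range 24).all fun b =>
      !octA.testBit b || (get (tab 120 table i) b == b)) = true ∧ five.Nodup ∧ five.length = 5 := by decide +kernel

theorem pts_octA_mem : pts octA ∈ octads :=
  mem_octads.mpr ⟨octA, mem_weightList.mpr ⟨mem_codeList.mpr octA_checks.1, octA_checks.2.1⟩, rfl⟩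

theorem base5_mem (i : Fin 5) : base5 i ∈ pts octA := by revert i; decide +kernel

theorem base5_injective : Function.Injective base5 := by decide +kernel

/-- Five points and their octad can be moved to the base. -/
theorem exists_octA (x : Fin 5 ↪ GolayPt) {o : Finset GolayPt} (ho : o ∈ octads)
    (hx : ∀ i, x i ∈ o) : ∃ g ∈ M24, (∀ i, g (base5 i) = x i) ∧ g • pts octA = o := by
  obtain ⟨g, hg, hgx⟩ := exists_base5 x
  refine ⟨g, hg, hgx, ?_⟩
  refine (octads_steiner.2 (Finset.univ.map x) (by simp)).unique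
    ⟨smul_octad hg pts_octA_mem, fun p hp => ?_⟩ ⟨ho, fun p hp => ?_⟩
  · obtain ⟨i, -, rfl⟩ := Finset.mem_map.mp hp
    rw [← hgx i]
    exact Finset.smul_mem_smul_finset (base5_mem i)
  · obtain ⟨i, -, rfl⟩ := Finset.mem_map.mp hp
    exact hx i

theorem exists_five (s : Finset GolayPt) (hs : 5 ≤ s.card) :
    ∃ x : Fin 5 ↪ GolayPt, ∀ i, x i ∈ s := by
  obtain ⟨t, ht, hc⟩ := Finset.exists_subset_card_eq hs
  exact ⟨(t.equivFinOfCardEq hc).symm.toEmbedding.trans (Function.Embedding.subtype _),
    fun i => ht ((t.equivFinOfCardEq hc).symm i).2⟩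

/-- Every octad is the image of the standard one. -/
theorem exists_smul_octA {o : Finset GolayPt} (ho : o ∈ octads) :
    ∃ g ∈ M24, g • pts octA = o := by
  obtain ⟨x, hx⟩ := exists_five o (by rw [octad_card ho]; norm_num)
  obtain ⟨g, hg, -, he⟩ := exists_octA x ho hx
  exact ⟨g, hg, he⟩

/-- The last level of `chainA`. -/
def lastA : Level := (chainA.drop 6).getD 0 (0, 0, [])

theorem dd_checks : isCode dd = true ∧ pop dd = 12 ∧
    upLevel [dd] five (7, 2 ^ 7, []) = true ∧ sixA = 7 :: five ∧
    chainA.drop 6 = [lastA] ∧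
    (lastA.2.2.all fun i => !(imgMask (get (tab 120 table i)) dd == dd) ||
      (tab 120 table i == idP)) = true ∧
    (lastA.2.2.all fun i => comp (tab 120 table i) (tab 120 table i) == idP) = true := by
  decide +kernel

theorem pts_dd_mem : pts dd ∈ dodecads :=
  mem_dodecads.mpr ⟨dd, mem_weightList.mpr ⟨mem_codeList.mpr dd_checks.1, dd_checks.2.1⟩, rfl⟩

/-- The sixteen elements fixing six points of the standard octad. -/
theorem eq_permOf_of_mem_sixA {g : Equiv.Perm GolayPt} (hg : g ∈ Fix [] sixA) :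
    ∃ i ∈ lastA.2.2, valid (tab 120 table i) = true ∧ g = permOf (tab 120 table i) := by
  obtain ⟨hlow, hup, hn, -⟩ := six_checks
  obtain ⟨-, -, -, -, hlast, -⟩ := dd_checks
  rw [hlast] at hlow hup hn
  simp only [lowOk, Bool.and_true] at hlow
  simp only [upOk, Bool.and_eq_true] at hup
  simp only [idxOk, List.all_cons, List.all_nil, Bool.and_true, List.all_eq_true,
    decide_eq_true_eq] at hn
  have hl := hlow
  simp only [lowLevel, Bool.and_eq_true, decide_eq_true_eq, List.all_eq_true, beq_iff_eq] at hl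
  obtain ⟨⟨⟨hb, -⟩, hall⟩, hm⟩ := hl
  obtain ⟨hM, hX, hbs⟩ := mem_Fix.mp hg
  have hc := cell_sound (invs_sound hM hX (fix_maskL hg)) (pt lastA.1)
  rw [idx_pt hb] at hc
  have hu1 := hup.1
  simp only [upLevel, beq_iff_eq] at hu1
  rw [← hu1, ← pts_inter, Finset.mem_inter] at hc
  have hc2 := mem_pts.mp hc.2
  rw [← hm, testBit_maskL, List.mem_map] at hc2
  obtain ⟨i, hi, he⟩ := hc2
  obtain ⟨hv, hmem⟩ := tableOk i (hn i hi)
  refine ⟨i, hi, hv, ?_⟩
  have hk : (permOf (tab 120 table i))⁻¹ * g ∈ Fix [] (lastA.1 :: sixA) := by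
    refine mem_Fix.mpr ⟨M24.mul_mem (M24.inv_mem hmem) hM, by simp, fun c hc' => ?_⟩
    rw [Equiv.Perm.mul_apply, Equiv.Perm.inv_eq_iff_eq]
    refine idx_injective ?_
    rcases List.mem_cons.mp hc' with rfl | hc'
    · rw [idx_permOf hv, idx_pt hb, he]
    · rw [hbs c hc', idx_permOf hv, idx_pt ((hall i hi).2 c hc').1, ((hall i hi).2 c hc').2]
  rw [Fix_eq_bot hup.2, Subgroup.mem_bot] at hk
  exact (inv_mul_eq_one.mp hk).symm

theorem Fix_dd_five : Fix [dd] five = ⊥ := by
  refine (Subgroup.eq_bot_iff_forall _).mpr fun g hg => ?_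
  obtain ⟨-, -, hup, hsix, -, honly, -⟩ := dd_checks
  obtain ⟨hM, hX, hbs⟩ := mem_Fix.mp hg
  have hc := cell_sound (invs_sound hM hX (fix_maskL hg)) (pt 7)
  rw [idx_pt (by norm_num : 7 < 24)] at hc
  simp only [upLevel, beq_iff_eq] at hup
  rw [← hup, ← pts_inter, Finset.mem_inter, pts_two_pow (by norm_num : 7 < 24),
    Finset.mem_singleton] at hc
  have h6 : g ∈ Fix [] sixA := by
    rw [hsix]
    refine mem_Fix.mpr ⟨hM, by simp, fun c hc' => ?_⟩
    rcases List.mem_cons.mp hc' with rfl | hc'
    · exact hc.2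
    · exact hbs c hc'
  obtain ⟨i, hi, hv, rfl⟩ := eq_permOf_of_mem_sixA h6
  have hz := List.all_eq_true.mp honly i hi
  have hd := hX dd (List.mem_cons_self ..)
  rw [permOf_smul_pts hv] at hd
  have hlt : imgMask (get (tab 120 table i)) dd < 2 ^ 24 := by
    refine Nat.lt_pow_two_of_testBit _ fun j hj => ?_
    by_contra hne
    rw [Bool.not_eq_false, testBit_imgMask] at hne
    obtain ⟨k, hk, -, e⟩ := hne
    have := (valid_iff.mp hv).2 k hk
    omega
  have := pts_injOn hlt (by decide +kernel) hd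
  simp only [this, BEq.rfl, Bool.not_true, Bool.false_or, beq_iff_eq] at hz
  rw [hz, permOf_idP]

theorem idxD : idxOk tableLen chainD = true := idx_ok.2.2.1

theorem sizeD : sizeProd chainD = 95040 ∧ baseOf [] chainD = five ∧ dd < 2 ^ 24 := by decide +kernel

/-- The stabiliser of a set as a chain group. -/
noncomputable def stabEquiv (m : ℕ) : MulAction.stabilizer M24 (pts m) ≃ Fix [m] [] where
  toFun g := ⟨g.1.1, mem_Fix.mpr ⟨g.1.2, fun x hx => by
    rw [List.mem_singleton] at hx; subst hx; exact g.2, by simp⟩⟩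
  invFun g := ⟨⟨g.1, (mem_Fix.mp g.2).1⟩, (mem_Fix.mp g.2).2.1 m (List.mem_singleton_self m)⟩
  left_inv _ := rfl
  right_inv _ := rfl

theorem card_Fix_dd : Nat.card (Fix [dd] []) ≤ 95040 := by
  classical
  have hdd12 : (pts dd).card = 12 := by rw [card_pts, dd_checks.2.1]
  have hmem : ∀ i, base5 i ∈ pts dd := by decide +kernel
  let f : Fix [dd] [] → (Fin 5 ↪ {p // p ∈ pts dd}) := fun g => ⟨fun i => ⟨g.1 (base5 i), by
      have hd := (mem_Fix.mp g.2).2.1 dd (List.mem_singleton_self _)
      rw [← hd]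
      exact Finset.smul_mem_smul_finset (hmem i)⟩,
    fun i j h => base5_injective (g.1.injective (congrArg Subtype.val h))⟩
  have hinj : Function.Injective f := by
    intro g k h
    have hfix : g.1⁻¹ * k.1 ∈ Fix [dd] five := by
      obtain ⟨k1, k2, -⟩ := mem_Fix.mp (mul_mem (inv_mem g.2) k.2)
      refine mem_Fix.mpr ⟨k1, k2, fun c hc => ?_⟩
      have hb : ∀ c ∈ five, ∃ i, base5 i = pt c := by decide +kernel
      obtain ⟨i, hi⟩ := hb c hc
      rw [← hi, Equiv.Perm.mul_apply, Equiv.Perm.inv_eq_iff_eq]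
      exact (congrArg Subtype.val (DFunLike.congr_fun h i)).symm
    rw [Fix_dd_five, Subgroup.mem_bot] at hfix
    exact Subtype.ext (inv_mul_eq_one.mp hfix)
  have h := Nat.card_le_card_of_injective f hinj
  rw [Nat.card_eq_fintype_card (α := Fin 5 ↪ {p // p ∈ pts dd}), Fintype.card_embedding_eq,
    Fintype.card_coe, hdd12, Fintype.card_fin] at h
  exact h

theorem card_stabilizer_dd : Nat.card (MulAction.stabilizer M24 (pts dd)) = 95040 := by
  rw [Nat.card_congr (stabEquiv dd)]
  refine le_antisymm card_Fix_dd ?_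
  have h := le_card_Fix tableOk chainD [] lowD idxD
  rwa [sizeD.1, sizeD.2.1, Fix_dd_five, Subgroup.card_bot, mul_one] at h

/-- The code group is transitive on dodecads. -/
theorem exists_smul_dd {d : Finset GolayPt} (hd : d ∈ dodecads) : ∃ g ∈ M24, g • pts dd = d := by
  classical
  have hsub : MulAction.orbit M24 (pts dd) ⊆ dodecads := by
    rintro _ ⟨g, rfl⟩
    refine ⟨?_, by rw [Finset.card_smul_finset, pts_dd_mem.2]⟩
    have := Set.smul_mem_smul_set (a := g.1) pts_dd_mem.1
    rwa [MulAction.mem_stabilizer_iff.mp g.2] at this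
  have h := Nat.card_congr (MulAction.orbitProdStabilizerEquivGroup M24 (pts dd))
  rw [Nat.card_prod, card_stabilizer_dd, card_M24, Nat.card_coe_set_eq] at h
  have heq : MulAction.orbit M24 (pts dd) = dodecads :=
    Set.eq_of_subset_of_ncard_le hsub (by rw [dodecads_ncard]; omega) (Set.toFinite _)
  rw [← heq] at hd
  obtain ⟨g, rfl⟩ := hd
  exact ⟨g.1, g.2, rfl⟩

end Cfsg.Agent.Spor.Golay
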