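import Cfsg.Agent.Lib.Spor.Golay.M24Facts

/-! Moving tuples to the certified bases: dodecads with points, and six-point sets. -/

set_option autoImplicit false
set_option maxRecDepth 100000

namespace Cfsg.Agent.Spor.Golay

open scoped Pointwise

theorem apply_mem_of_smul_eq {g : Equiv.Perm GolayPt} {s t : Finset GolayPt} (h : g • s = t)
    {p : GolayPt} : g p ∈ t ↔ p ∈ s := by
  subst h
  exact Finset.smul_mem_smul_finset_iff g

theorem dd_full : fullOk dd [] chainD = true ∧ chainD.length = 5 := by decide +kernel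

theorem dd_base : ∀ i : Fin 5, base5 i = pt ((chainD.map Prod.fst).getD i.val 0) := by
  decide +kernel

/-- Five points of the standard dodecad are the image of the base. -/
theorem exists_base5_dd (x : Fin 5 ↪ GolayPt) (hx : ∀ i, x i ∈ pts dd) :
    ∃ g ∈ Fix [dd] [], ∀ i, g (base5 i) = x i := by
  obtain ⟨g, hg, he⟩ := exists_tuple tableOk (U := dd) chainD [] lowD idxD dd_full.1
    (fun g hg => (mem_Fix.mp hg).2.1 dd (List.mem_singleton_self _)) (List.ofFn x) (by
      rw [List.length_ofFn, dd_full.2]) (List.nodup_ofFn.mpr x.injective)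
    (fun y hy => ⟨by
      obtain ⟨i, rfl⟩ := List.mem_ofFn.mp hy
      exact hx i, by simp⟩)
  refine ⟨g, hg, fun i => ?_⟩
  rw [show (List.ofFn x).length = 5 from List.length_ofFn] at he
  have := congrArg (fun L => L[i.val]?) he
  rw [dd_base]
  fin_cases i <;> simpa [chainD] using this

/-- Five points of a dodecad are the image of the base under an element mapping the standard
dodecad to it. -/
theorem exists_frame_dodecad {d : Finset GolayPt} (hd : d ∈ dodecads) (x : Fin 5 ↪ GolayPt)
    (hx : ∀ i, x i ∈ d) : ∃ g ∈ M24, g • pts dd = d ∧ ∀ i, g (base5 i) = x i := by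
  obtain ⟨g, hg, rfl⟩ := exists_smul_dd hd
  obtain ⟨k, hk, hkx⟩ := exists_base5_dd (x.trans (g⁻¹ : Equiv.Perm GolayPt).toEmbedding) (fun i => by
    have := Finset.smul_mem_smul_finset (a := g⁻¹) (hx i)
    rwa [inv_smul_smul] at this)
  obtain ⟨k1, k2, -⟩ := mem_Fix.mp hk
  refine ⟨g * k, M24.mul_mem hg k1, by rw [mul_smul, k2 dd (List.mem_singleton_self _)],
    fun i => ?_⟩
  rw [Equiv.Perm.mul_apply, hkx i]
  exact Equiv.apply_symm_apply g (x i)

/-- An element fixing five points of a dodecad and the dodecad is trivial. -/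
theorem eq_one_of_fix_dodecad {d : Finset GolayPt} (hd : d ∈ dodecads) (x : Fin 5 ↪ GolayPt)
    (hx : ∀ i, x i ∈ d) {k : Equiv.Perm GolayPt} (hk : k ∈ M24) (hkd : k • d = d)
    (hkx : ∀ i, k (x i) = x i) : k = 1 := by
  obtain ⟨g, hg, rfl, hgx⟩ := exists_frame_dodecad hd x hx
  have hmem : g⁻¹ * k * g ∈ Fix [dd] five := by
    refine mem_Fix.mpr ⟨M24.mul_mem (M24.mul_mem (M24.inv_mem hg) hk) hg, fun y hy => ?_, fun c hc => ?_⟩
    · rw [List.mem_singleton] at hy
      subst hy
      rw [mul_smul, mul_smul, hkd, inv_smul_smul]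
    · have hb : ∀ c ∈ five, ∃ i, base5 i = pt c := by decide +kernel
      obtain ⟨i, hi⟩ := hb c hc
      rw [← hi, Equiv.Perm.mul_apply, Equiv.Perm.mul_apply, hgx i, hkx i, ← hgx i]
      exact Equiv.symm_apply_apply g _
  rw [Fix_dd_five, Subgroup.mem_bot] at hmem
  have h2 := congrArg (fun z => g * z * g⁻¹) hmem
  simpa [mul_assoc] using h2

theorem octA_lt : octA < 2 ^ 24 := by decide +kernel

theorem level_six : lowLevel table [] five (chainA.getD 5 (0, 0, [])) = true ∧
    lowLevel table [] five (chainB.getD 5 (0, 0, [])) = true ∧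
    (chainA.getD 5 (0, 0, [])).2.2.all (fun i => decide (i < tableLen)) = true ∧
    (chainB.getD 5 (0, 0, [])).2.2.all (fun i => decide (i < tableLen)) = true ∧
    (chainA.getD 5 (0, 0, [])).2.1 = octA &&& (16777215 ^^^ maskL five) ∧
    (chainB.getD 5 (0, 0, [])).2.1 = 16777215 ^^^ octA := by
  decide +kernel

/-- The six base points, ordered, for the two kinds of six-point sets. -/
def base6 (c : Bool) (i : Fin 6) : GolayPt :=
  pt (((if c then chainA else chainB).map Prod.fst).getD i.val 0)

theorem base6_castSucc : ∀ (c : Bool) (i : Fin 5), base6 c i.castSucc = base5 i := by decide +kernel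

theorem base6_last : ∀ c : Bool, base6 c (Fin.last 5) =
    pt ((if c then chainA else chainB).getD 5 (0, 0, [])).1 := by decide +kernel

/-- Six points of which the sixth is, or is not, in the octad of the first five. -/
theorem exists_base6 (x : Fin 6 ↪ GolayPt) {c : Bool}
    (hc : c = true ↔ ∃ o ∈ octads, ∀ i, x i ∈ o) :
    ∃ g ∈ M24, ∀ i, g (base6 c i) = x i := by
  let x' : Fin 5 ↪ GolayPt := Fin.castSuccEmb.trans x
  obtain ⟨o, ⟨ho, hoss⟩, -⟩ := octads_steiner.2 (Finset.univ.map x') (by simp)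
  have hox : ∀ i, x' i ∈ o := fun i => hoss (Finset.mem_map_of_mem _ (Finset.mem_univ i))
  obtain ⟨g, hg, hgx, hgo⟩ := exists_octA x' ho hox
  obtain ⟨hA, hB, hnA, hnB, hTA, hTB⟩ := level_six
  have hy5 : ∀ b ∈ five, (g⁻¹ : Equiv.Perm GolayPt) (x (Fin.last 5)) ≠ pt b := by
    intro b hb he
    have hb' : ∀ b ∈ five, ∃ i, base5 i = pt b := by decide +kernel
    obtain ⟨i, hi⟩ := hb' b hb
    rw [Equiv.Perm.inv_eq_iff_eq, ← hi, hgx i] at he
    exact absurd (x.injective he) (Fin.castSucc_lt_last i).ne'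
  have hside : (g⁻¹ : Equiv.Perm GolayPt) (x (Fin.last 5)) ∈ pts octA ↔ c = true := by
    rw [hc, ← apply_mem_of_smul_eq hgo, Equiv.Perm.coe_inv, Equiv.apply_symm_apply]
    constructor
    · intro h
      refine ⟨o, ho, fun i => ?_⟩
      refine Fin.lastCases h (fun j => hox j) i
    · rintro ⟨o', ho', h'⟩
      have : o' = o := (octads_steiner.2 (Finset.univ.map x') (by simp)).unique
        ⟨ho', fun p hp => by
          obtain ⟨i, -, rfl⟩ := Finset.mem_map.mp hp
          exact h' _⟩ ⟨ho, hoss⟩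
      exact this ▸ h' _
  have hmemT : (g⁻¹ : Equiv.Perm GolayPt) (x (Fin.last 5)) ∈
      pts ((if c then chainA else chainB).getD 5 (0, 0, [])).2.1 := by
    cases c
    · rw [if_neg (by simp), hTB, ← pts_compl, Finset.mem_compl, hside]
      simp
    · rw [if_pos rfl, hTA, ← pts_inter, ← pts_compl, Finset.mem_inter, Finset.mem_compl]
      refine ⟨hside.mpr rfl, fun h => ?_⟩
      rw [mem_pts, testBit_maskL] at h
      exact hy5 _ h (pt_idx _).symm
  obtain ⟨k, hk, hkx⟩ := exists_of_lowLevel tableOk (X := []) (bs := five)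
    (l := (if c then chainA else chainB).getD 5 (0, 0, []))
    (by cases c
        · simpa using hB
        · simpa using hA)
    (by cases c
        · simpa [List.all_eq_true] using hnB
        · simpa [List.all_eq_true] using hnA)
    hmemT
  obtain ⟨k1, -, k3⟩ := mem_Fix.mp hk
  refine ⟨g * k, M24.mul_mem hg k1, fun i => ?_⟩
  refine Fin.lastCases ?_ (fun j => ?_) i
  · rw [base6_last, Equiv.Perm.mul_apply, hkx, Equiv.Perm.coe_inv, Equiv.apply_symm_apply]
  · rw [base6_castSucc, Equiv.Perm.mul_apply]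
    have hb : ∀ i, ∃ b ∈ five, base5 i = pt b := by decide +kernel
    obtain ⟨b, hb, hj⟩ := hb j
    rw [hj, k3 b hb, ← hj, hgx j]
    rfl

end Cfsg.Agent.Spor.Golay
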