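import Cfsg.Agent.Lib.Spor.Golay.M24Facts

/-! Searching a certified chain of the code group for the elements with a given local behaviour, and
a criterion for all automorphisms of a subgroup to be induced by conjugation. -/

set_option autoImplicit false
set_option maxRecDepth 100000

namespace Cfsg.Agent.Spor.Golay.Aut

open scoped Pointwise

/-- Whether two composites agree, tested position by position. -/
def eqComp (P Q R S : ℕ) : Bool :=
  (List.range 24).all fun i => get P (get Q i) == get R (get S i)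

/-- Apply a power to a position. -/
def iterApp (A : ℕ) : ℕ → ℕ → ℕ
  | 0, x => x
  | k + 1, x => get A (iterApp A k x)

/-- Whether `K` is the `k`th power of `A`. -/
def eqPow (A k K : ℕ) : Bool := (List.range 24).all fun i => iterApp A k i == get K i

/-- Whether the permutation is trivial. -/
def isTriv (P : ℕ) : Bool := (List.range 24).all fun i => get P i == i

theorem idx_perm_lt (σ : Equiv.Perm GolayPt) (x : GolayPt) : idx (σ x) < 24 := idx_lt _

theorem perm_ext_idx {σ τ : Equiv.Perm GolayPt} (h : ∀ i < 24, idx (σ (pt i)) = idx (τ (pt i))) :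
    σ = τ :=
  Equiv.ext fun p => idx_injective (by simpa [pt_idx] using h _ (idx_lt p))

theorem eqComp_iff {P Q R S : ℕ} (hP : valid P = true) (hQ : valid Q = true) (hR : valid R = true)
    (hS : valid S = true) :
    eqComp P Q R S = true ↔ permOf P * permOf Q = permOf R * permOf S := by
  simp only [eqComp, List.all_eq_true, List.mem_range, beq_iff_eq]
  constructor
  · intro h
    refine perm_ext_idx fun i hi => ?_
    simpa [idx_permOf hP, idx_permOf hQ, idx_permOf hR, idx_permOf hS, idx_pt hi] using h i hi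
  · intro h i hi
    have := congrArg (fun σ : Equiv.Perm GolayPt => idx (σ (pt i))) h
    simpa [idx_permOf hP, idx_permOf hQ, idx_permOf hR, idx_permOf hS, idx_pt hi] using this

theorem iterApp_spec {A : ℕ} (h : valid A = true) {i : ℕ} (hi : i < 24) :
    ∀ k, iterApp A k i = idx ((permOf A ^ k) (pt i))
  | 0 => by simp [iterApp, idx_pt hi]
  | k + 1 => by
    rw [iterApp, iterApp_spec h hi k, pow_succ', Equiv.Perm.mul_apply, idx_permOf h]

theorem eqPow_iff {A K k : ℕ} (hA : valid A = true) (hK : valid K = true) :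
    eqPow A k K = true ↔ permOf K = permOf A ^ k := by
  simp only [eqPow, List.all_eq_true, List.mem_range, beq_iff_eq]
  constructor
  · intro h
    refine perm_ext_idx fun i hi => ?_
    rw [idx_permOf hK, idx_pt hi, ← h i hi, iterApp_spec hA hi]
  · intro h i hi
    rw [iterApp_spec hA hi, ← h, idx_permOf hK, idx_pt hi]

theorem isTriv_iff {P : ℕ} (h : valid P = true) : isTriv P = true ↔ permOf P = 1 := by
  simp only [isTriv, List.all_eq_true, List.mem_range, beq_iff_eq]
  constructor
  · intro h'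
    refine perm_ext_idx fun i hi => ?_
    rw [idx_permOf h, idx_pt hi, h' i hi, Equiv.Perm.one_apply, idx_pt hi]
  · intro h' i hi
    have := congrArg (fun σ : Equiv.Perm GolayPt => idx (σ (pt i))) h'
    simpa [idx_permOf h, idx_pt hi] using this

theorem imgMask_lt {P : ℕ} (h : valid P = true) (m : ℕ) : imgMask (get P) m < 2 ^ 24 := by
  refine Nat.lt_pow_two_of_testBit _ fun j hj => ?_
  by_contra hne
  rw [Bool.not_eq_false, testBit_imgMask] at hne
  obtain ⟨k, hk, -, e⟩ := hne
  have := (valid_iff.mp h).2 k hk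
  omega

/-- Preservation of the sets, on packed permutations. -/
def preserves (M : List ℕ) (P : ℕ) : Bool := M.all fun m => imgMask (get P) m == m

theorem preserves_iff {P : ℕ} (h : valid P = true) {M : List ℕ} (hM : ∀ m ∈ M, m < 2 ^ 24) :
    preserves M P = true ↔ ∀ m ∈ M, permOf P • pts m = pts m := by
  simp only [preserves, List.all_eq_true, beq_iff_eq]
  constructor
  · intro h' m hm
    rw [permOf_smul_pts h, h' m hm]
  · intro h' m hm
    have := h' m hm
    rw [permOf_smul_pts h] at this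
    exact pts_injOn (imgMask_lt h m) (hM m hm) this

/-- Apply a product of packed permutations to a position, the last one first. -/
def appL : List ℕ → ℕ → ℕ
  | [], x => x
  | P :: L, x => get P (appL L x)

theorem appL_append : ∀ (L : List ℕ) (P x : ℕ), appL (L ++ [P]) x = appL L (get P x)
  | [], _, _ => rfl
  | Q :: L, P, x => by simp only [List.cons_append, appL, appL_append L P x]

/-- A chain with its transversals written out. -/
def litsOk (T : ℕ) : List Level → List (ℕ × List ℕ) → Bool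
  | [], [] => true
  | l :: ls, e :: es => (e.1 == l.1) && (e.2 == l.2.2.map (tab 120 T)) && litsOk T ls es
  | _, _ => false

/-- Whether all products along a chain with admissible partial values satisfy `fin`. -/
def searchAll (pr : List (ℕ × ℕ) → Bool) (fin : List ℕ → Bool) :
    List (ℕ × List ℕ) → List ℕ → List (ℕ × ℕ) → Bool
  | [], L, _ => fin L
  | l :: ls, L, asg => l.2.all fun P =>
      !(pr ((l.1, appL L (get P l.1)) :: asg)) ||
        searchAll pr fin ls (L ++ [P]) ((l.1, appL L (get P l.1)) :: asg)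

theorem searchAll_sound {T n : ℕ} (hT : TableOk T n) (pr : List (ℕ × ℕ) → Bool)
    (fin : List ℕ → Bool) (g₀ : Equiv.Perm GolayPt) (hg₀ : g₀ ∈ M24)
    (hpr : ∀ A, (∀ u ∈ A, u.1 < 24 ∧ idx (g₀ (pt u.1)) = u.2) → pr A = true) :
    ∀ (ls : List Level) (es : List (ℕ × List ℕ)) (bs : List ℕ) (L : List ℕ)
      (P : Equiv.Perm GolayPt) (asg : List (ℕ × ℕ)),
      litsOk T ls es = true →
      lowOk T [] bs ls = true → upOk [] bs ls = true → idxOk n ls = true →
      (∀ x, idx (P x) = appL L (idx x)) →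
      P⁻¹ * g₀ ∈ Fix [] bs → (∀ u ∈ asg, u.1 < 24 ∧ idx (g₀ (pt u.1)) = u.2) →
      searchAll pr fin es L asg = true →
      ∃ L', fin L' = true ∧ ∀ x, idx (g₀ x) = appL L' (idx x) := by
  intro ls
  induction ls with
  | nil =>
    intro es bs L P asg hlit _ hu _ hP hg _ hs
    cases es with
    | nil =>
      rw [Fix_eq_bot (by simpa only [upOk] using hu), Subgroup.mem_bot, inv_mul_eq_one] at hg
      exact ⟨L, by simpa only [searchAll] using hs, fun x => hg ▸ hP x⟩
    | cons e es => simp [litsOk] at hlit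
  | cons l ls ih =>
    intro es bs L P asg hlit h hu hn hP hg hasg hs
    cases es with
    | nil => simp [litsOk] at hlit
    | cons e es =>
    simp only [litsOk, Bool.and_eq_true, beq_iff_eq] at hlit
    obtain ⟨⟨hel, hem⟩, hlit⟩ := hlit
    simp only [lowOk, Bool.and_eq_true] at h
    simp only [upOk, Bool.and_eq_true] at hu
    simp only [idxOk, List.all_cons, Bool.and_eq_true, List.all_eq_true, decide_eq_true_eq] at hn
    have hl := h.1
    simp only [lowLevel, Bool.and_eq_true, decide_eq_true_eq, List.all_eq_true, beq_iff_eq] at hl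
    obtain ⟨⟨⟨hb, -⟩, hall⟩, hm⟩ := hl
    set g := P⁻¹ * g₀ with hgdef
    obtain ⟨hM, hX, hbs⟩ := mem_Fix.mp hg
    have hc := cell_sound (invs_sound hM hX (fix_maskL hg)) (pt l.1)
    rw [idx_pt hb] at hc
    have hu1 := hu.1
    simp only [upLevel, beq_iff_eq] at hu1
    rw [← hu1, ← pts_inter, Finset.mem_inter] at hc
    have hc2 := mem_pts.mp hc.2
    rw [← hm, testBit_maskL, List.mem_map] at hc2
    obtain ⟨i, hi, he⟩ := hc2
    obtain ⟨hv, hmem⟩ := hT i (hn.1 i hi)
    have hval : idx (g₀ (pt l.1)) = appL L (get (tab 120 T i) l.1) := by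
      rw [show g₀ (pt l.1) = P (g (pt l.1)) by simp [hgdef], hP, he]
    have hasg' : ∀ u ∈ (l.1, appL L (get (tab 120 T i) l.1)) :: asg,
        u.1 < 24 ∧ idx (g₀ (pt u.1)) = u.2 := by
      intro u hu'
      rcases List.mem_cons.mp hu' with rfl | hu'
      · exact ⟨hb, hval⟩
      · exact hasg u hu'
    have hP' : ∀ x, idx ((P * permOf (tab 120 T i)) x) = appL (L ++ [tab 120 T i]) (idx x) :=
      fun x => by rw [Equiv.Perm.mul_apply, hP, idx_permOf hv, appL_append]
    have hk : (P * permOf (tab 120 T i))⁻¹ * g₀ ∈ Fix [] (l.1 :: bs) := by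
      rw [mul_inv_rev, mul_assoc, ← hgdef]
      refine mem_Fix.mpr ⟨M24.mul_mem (M24.inv_mem hmem) hM, by simp, fun c hc' => ?_⟩
      rw [Equiv.Perm.mul_apply, Equiv.Perm.inv_eq_iff_eq]
      refine idx_injective ?_
      rcases List.mem_cons.mp hc' with rfl | hc'
      · rw [idx_permOf hv, idx_pt hb, he]
      · rw [hbs c hc', idx_permOf hv, idx_pt ((hall i hi).2 c hc').1, ((hall i hi).2 c hc').2]
    simp only [searchAll, List.all_eq_true] at hs
    have hs' := hs (tab 120 T i) (by rw [hem]; exact List.mem_map_of_mem hi)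
    rw [hel, hpr _ hasg', Bool.not_true, Bool.false_or] at hs'
    exact ih es (l.1 :: bs) _ (P * permOf (tab 120 T i)) _ hlit h.2 hu.2
      (by simpa [idxOk] using hn.2) hP' hk hasg' hs'

/-- The newest pair respects the sets. -/
def headSide (M : List ℕ) : List (ℕ × ℕ) → Bool
  | [] => true
  | u :: _ => M.all fun m => m.testBit u.1 == m.testBit u.2

/-- The pairs of values at adjacent recorded positions that follow each other in the list. -/
def edges (A : ℕ) : List (ℕ × ℕ) → List (ℕ × ℕ)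
  | [] => []
  | [_] => []
  | v :: u :: L =>
    if v.1 == get A u.1 then (u.2, v.2) :: edges A (u :: L) else edges A (u :: L)

theorem mem_edges {A : ℕ} : ∀ {L : List (ℕ × ℕ)} {f : ℕ × ℕ}, f ∈ edges A L →
    ∃ u ∈ L, ∃ v ∈ L, v.1 = get A u.1 ∧ f = (u.2, v.2)
  | [], f, h => by simp [edges] at h
  | [_], f, h => by simp [edges] at h
  | v :: u :: L, f, h => by
    rw [edges] at h
    by_cases hc : v.1 = get A u.1
    · rw [if_pos (beq_iff_eq.mpr hc), List.mem_cons] at h
      rcases h with rfl | h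
      · exact ⟨u, by simp, v, by simp, hc, rfl⟩
      · obtain ⟨u', hu, v', hv, e⟩ := mem_edges h
        exact ⟨u', List.mem_cons_of_mem _ hu, v', List.mem_cons_of_mem _ hv, e⟩
    · rw [if_neg (fun e => hc (beq_iff_eq.mp e))] at h
      obtain ⟨u', hu, v', hv, e⟩ := mem_edges h
      exact ⟨u', List.mem_cons_of_mem _ hu, v', List.mem_cons_of_mem _ hv, e⟩

/-- One power fits all edges. -/
def fits (Ks : List ℕ) : List (ℕ × ℕ) → Bool
  | [] => true
  | e :: es => Ks.any fun K => (e :: es).all fun f => f.2 == get K f.1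

theorem testBit_of {M : List ℕ} {g : Equiv.Perm GolayPt} (hg : ∀ m ∈ M, g • pts m = pts m)
    {m i : ℕ} (hm : m ∈ M) (hi : i < 24) :
    m.testBit i = m.testBit (idx (g (pt i))) := by
  have := Finset.smul_mem_smul_finset_iff (s := pts m) (b := pt i) g
  rw [hg m hm, Equiv.Perm.smul_def, mem_pts, mem_pts, idx_pt hi] at this
  exact (Bool.eq_iff_iff.mpr this).symm

theorem headSide_of {M : List ℕ} {g : Equiv.Perm GolayPt} (hg : ∀ m ∈ M, g • pts m = pts m)
    {L : List (ℕ × ℕ)} (hL : ∀ u ∈ L, u.1 < 24 ∧ idx (g (pt u.1)) = u.2) : headSide M L = true := by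
  cases L with
  | nil => rfl
  | cons u L =>
    simp only [headSide, List.all_eq_true, beq_iff_eq]
    intro m hm
    obtain ⟨h1, h2⟩ := hL u (List.mem_cons_self ..)
    rw [← h2]; exact testBit_of hg hm h1

/-- The product preserves the sets. -/
def sidesL (M : List ℕ) (L : List ℕ) : Bool :=
  (List.range 24).all fun i => M.all fun m => m.testBit i == m.testBit (appL L i)

theorem sidesL_of {M : List ℕ} {g : Equiv.Perm GolayPt} (hg : ∀ m ∈ M, g • pts m = pts m)
    {L : List ℕ} (hL : ∀ x, idx (g x) = appL L (idx x)) : sidesL M L = true := by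
  simp only [sidesL, List.all_eq_true, List.mem_range, beq_iff_eq]
  intro i hi m hm
  have := hL (pt i)
  rw [idx_pt hi] at this
  rw [← this]; exact testBit_of hg hm hi

/-- Only the identity preserves the sets. -/
def trivSet (es : List (ℕ × List ℕ)) (M : List ℕ) : Bool :=
  searchAll (headSide M) (fun L => !(sidesL M L) || (List.range 24).all fun i => appL L i == i)
    es [] []

theorem eq_one_of_trivSet {T n : ℕ} (hT : TableOk T n) {ls : List Level}
    (hlow : lowOk T [] [] ls = true) (hup : upOk [] [] ls = true) (hidx : idxOk n ls = true)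
    {es : List (ℕ × List ℕ)} (hlit : litsOk T ls es = true)
    {M : List ℕ} (h : trivSet es M = true) {g : Equiv.Perm GolayPt} (hg : g ∈ M24)
    (hgM : ∀ m ∈ M, g • pts m = pts m) : g = 1 := by
  obtain ⟨L, hf, he⟩ := searchAll_sound hT (headSide M) _ g hg (fun A hA => headSide_of hgM hA) ls es []
    [] 1 [] hlit hlow hup hidx (fun x => by simp [appL]) (by rw [inv_one, one_mul, Fix_nil]; exact hg)
    (by simp) h
  simp only [sidesL_of hgM he, Bool.not_true, Bool.false_or, List.all_eq_true, List.mem_range,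
    beq_iff_eq] at hf
  refine perm_ext_idx fun i hi => ?_
  rw [he, idx_pt hi, hf i hi, Equiv.Perm.one_apply, idx_pt hi]

/-- Every element normalizing the group of `A` and preserving the sets is listed. -/
def normCheck (es : List (ℕ × List ℕ)) (M : List ℕ) (A : ℕ) (Ks LN : List ℕ) : Bool :=
  searchAll (fun L => headSide M L && fits Ks (edges A L))
    (fun L => !(Ks.any (fun K => (List.range 24).all fun i =>
        appL L (get A i) == get K (appL L i)) && sidesL M L) ||
      LN.any fun Q => (List.range 24).all fun i => get Q i == appL L i) es [] []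

theorem mem_of_normCheck {T n : ℕ} (hT : TableOk T n) {ls : List Level}
    (hlow : lowOk T [] [] ls = true) (hup : upOk [] [] ls = true) (hidx : idxOk n ls = true)
    {M : List ℕ} {A : ℕ} {Ks LN : List ℕ} (hA : valid A = true)
    (hLN : ∀ Q ∈ LN, valid Q = true) {es : List (ℕ × List ℕ)} (hlit : litsOk T ls es = true)
    (h : normCheck es M A Ks LN = true)
    {g : Equiv.Perm GolayPt} (hg : g ∈ M24) (hgM : ∀ m ∈ M, g • pts m = pts m)
    (hK : ∃ K ∈ Ks, valid K = true ∧ g * permOf A = permOf K * g) :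
    ∃ Q ∈ LN, permOf Q = g := by
  obtain ⟨K, hK, hKv, hcomm⟩ := hK
  have hpt : ∀ i, i < 24 → idx (g (pt (get A i))) = get K (idx (g (pt i))) := by
    intro i hi
    have h := congrArg (fun σ : Equiv.Perm GolayPt => idx (σ (pt i))) hcomm
    simp only [Equiv.Perm.mul_apply, idx_permOf hKv] at h
    have : permOf A (pt i) = pt (get A i) :=
      idx_injective (by rw [idx_permOf hA, idx_pt hi, idx_pt ((valid_iff.mp hA).2 i hi)])
    rwa [this] at h
  obtain ⟨L, hf, he⟩ := searchAll_sound hT _ _ g hg (fun A' hA' => by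
      rw [Bool.and_eq_true]
      refine ⟨headSide_of hgM hA', ?_⟩
      have hE : ∀ f ∈ edges A A', f.2 = get K f.1 := by
        intro f hf'
        obtain ⟨u, hu, v, hv, hc, rfl⟩ := mem_edges hf'
        obtain ⟨hu1, hu2⟩ := hA' u hu
        obtain ⟨-, hv2⟩ := hA' v hv
        rw [← hu2, ← hv2, hc]
        exact hpt _ hu1
      cases he : edges A A' with
      | nil => rfl
      | cons e es =>
        rw [fits]
        simp only [List.any_eq_true, List.all_eq_true, beq_iff_eq]
        exact ⟨K, hK, fun f hf' => hE f (he ▸ hf')⟩) ls es [] [] 1 [] hlit hlow hup hidx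
    (fun x => by simp [appL]) (by rw [inv_one, one_mul, Fix_nil]; exact hg) (by simp) h
  have happ : ∀ i, i < 24 → appL L i = idx (g (pt i)) := fun i hi => by rw [he, idx_pt hi]
  simp only [Bool.or_eq_true, Bool.not_eq_true', Bool.and_eq_false_iff, List.any_eq_true,
    List.all_eq_true, List.mem_range, beq_iff_eq] at hf
  rcases hf with (h1 | h1) | ⟨Q, hQ, hQe⟩
  · exfalso
    refine Bool.false_ne_true (h1.symm.trans (List.any_eq_true.mpr ⟨K, hK, ?_⟩))
    simp only [List.all_eq_true, List.mem_range, beq_iff_eq]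
    intro i hi
    rw [happ i hi, happ _ ((valid_iff.mp hA).2 i hi)]
    exact hpt i hi
  · rw [sidesL_of hgM he] at h1; simp at h1
  · refine ⟨Q, hQ, perm_ext_idx fun i hi => ?_⟩
    rw [idx_permOf (hLN Q hQ), idx_pt hi, hQe i hi, happ i hi]

/-- One sixth of the first level. -/
def part (es : List (ℕ × List ℕ)) (j : ℕ) : List (ℕ × List ℕ) :=
  match es with
  | [] => []
  | e :: rest => (e.1, (e.2.drop (4 * j)).take 4) :: rest

theorem searchAll_of_parts {pr : List (ℕ × ℕ) → Bool} {fin : List ℕ → Bool}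
    {es : List (ℕ × List ℕ)} (hlen : ∀ e ∈ es.head?, e.2.length ≤ 24)
    (h : ∀ j < 6, searchAll pr fin (part es j) [] [] = true) : searchAll pr fin es [] [] = true := by
  cases es with
  | nil => exact h 0 (by norm_num)
  | cons e rest =>
    have hlen' : e.2.length ≤ 24 := hlen e rfl
    simp only [searchAll, List.all_eq_true]
    intro P hP
    obtain ⟨k, hk, rfl⟩ := List.getElem_of_mem hP
    have h' := h (k / 4) (by omega)
    simp only [part, searchAll, List.all_eq_true] at h'
    refine h' _ (List.mem_iff_getElem?.mpr ⟨k % 4, ?_⟩)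
    rw [List.getElem?_take_of_lt (Nat.mod_lt _ (by norm_num)), List.getElem?_drop,
      show 4 * (k / 4) + k % 4 = k from Nat.div_add_mod k 4, List.getElem?_eq_getElem hk]

theorem normCheck_of_parts {es : List (ℕ × List ℕ)} {M : List ℕ} {A : ℕ} {Ks LN : List ℕ}
    (hlen : ∀ e ∈ es.head?, e.2.length ≤ 24)
    (h : ∀ j < 6, normCheck (part es j) M A Ks LN = true) : normCheck es M A Ks LN = true :=
  searchAll_of_parts hlen h

/-- The upper bounds of a chain, without its end. -/
def upLevels (X : List ℕ) : List ℕ → List Level → Bool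
  | _, [] => true
  | bs, l :: ls => upLevel X bs l && upLevels X (l.1 :: bs) ls

theorem mem_of_levels {T n : ℕ} (hT : TableOk T n) (H : Subgroup (Equiv.Perm GolayPt))
    (hH : ∀ i < n, permOf (tab 120 T i) ∈ H) {X : List ℕ} :
    ∀ (ls : List Level) (bs : List ℕ), lowOk T X bs ls = true → upLevels X bs ls = true →
      idxOk n ls = true → (∀ g ∈ Fix X (baseOf bs ls), g ∈ H) → ∀ g ∈ Fix X bs, g ∈ H
  | [], bs, _, _, _, hend, g, hg => hend g hg
  | l :: ls, bs, h, hu, hn, hend, g, hg => by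
    simp only [lowOk, Bool.and_eq_true] at h
    simp only [upLevels, Bool.and_eq_true] at hu
    simp only [idxOk, List.all_cons, Bool.and_eq_true, List.all_eq_true, decide_eq_true_eq] at hn
    have hl := h.1
    simp only [lowLevel, Bool.and_eq_true, decide_eq_true_eq, List.all_eq_true, beq_iff_eq] at hl
    obtain ⟨⟨⟨hb, -⟩, hall⟩, hm⟩ := hl
    obtain ⟨hM, hX, hbs⟩ := mem_Fix.mp hg
    have hc := cell_sound (invs_sound hM hX (fix_maskL hg)) (pt l.1)
    rw [idx_pt hb] at hc
    have hu1 := hu.1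
    simp only [upLevel, beq_iff_eq] at hu1
    rw [← hu1, ← pts_inter, Finset.mem_inter] at hc
    have hc2 := mem_pts.mp hc.2
    rw [← hm, testBit_maskL, List.mem_map] at hc2
    obtain ⟨i, hi, he⟩ := hc2
    obtain ⟨hv, hmem⟩ := hT i (hn.1 i hi)
    have hfix : permOf (tab 120 T i) ∈ Fix X bs := mem_Fix.mpr ⟨hmem,
      fun x hx => by rw [permOf_smul_pts hv, (hall i hi).1 x hx],
      fun b hb' => idx_injective (by
        rw [idx_permOf hv, idx_pt ((hall i hi).2 b hb').1, ((hall i hi).2 b hb').2])⟩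
    have hk : (permOf (tab 120 T i))⁻¹ * g ∈ Fix X (l.1 :: bs) := by
      obtain ⟨k1, k2, k3⟩ := mem_Fix.mp (mul_mem (inv_mem hfix) hg)
      refine mem_Fix.mpr ⟨k1, k2, fun c hc' => ?_⟩
      rcases List.mem_cons.mp hc' with rfl | hc'
      · rw [Equiv.Perm.mul_apply, Equiv.Perm.inv_eq_iff_eq]
        refine idx_injective ?_
        rw [idx_permOf hv, idx_pt hb, he]
      · exact k3 c hc'
    have := mem_of_levels hT H hH ls (l.1 :: bs) h.2 hu.2 (by simpa [idxOk] using hn.2)
      (by simpa [baseOf] using hend) _ hk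
    simpa using H.mul_mem (hH i (hn.1 i hi)) this

/-- Products of three letters. -/
def evalW {Γ : Type*} [Group Γ] (a c t : Γ) : List ℕ → Γ
  | [] => 1
  | s :: w => (if s = 0 then a else if s = 1 then c else t) * evalW a c t w

theorem evalW_map {Γ Δ : Type*} [Group Γ] [Group Δ] (f : Γ →* Δ) (a c t : Γ) :
    ∀ w : List ℕ, f (evalW a c t w) = evalW (f a) (f c) (f t) w
  | [] => map_one f
  | s :: w => by
    rw [evalW, evalW, map_mul, evalW_map f a c t w]
    congr 1
    split_ifs <;> rfl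

/-- Every automorphism of `H` is conjugation by an element of `H` times one of `S`, if all triples
that can be images of three special generators are. -/
theorem exists_conj {Γ : Type*} [Group Γ] (H : Subgroup Γ) [Finite H] {a c t : Γ} {p q : ℕ}
    [Fact p.Prime] (hq : q.Prime) (ha : a ∈ H) (hc : c ∈ H) (ht : t ∈ H)
    (hgen : H ≤ Subgroup.closure {a, c, t}) (hoa : orderOf a = p) (hoc : orderOf c = q)
    (hp2 : ¬ p ^ 2 ∣ Nat.card H) (hca : c * a * c⁻¹ ∈ Subgroup.zpowers a)
    (htc : t * c * t⁻¹ ∈ Subgroup.zpowers c)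
    (hN : ∀ h ∈ H, h * a * h⁻¹ ∈ Subgroup.zpowers a → h ^ q = 1 → h ≠ 1 →
      ∃ m ∈ H, m * a * m⁻¹ ∈ Subgroup.zpowers a ∧ m * h * m⁻¹ ∈ Subgroup.zpowers c)
    (rels : List (List ℕ × List ℕ)) (hrels : ∀ r ∈ rels, evalW a c t r.1 = evalW a c t r.2)
    (S : Set Γ)
    (hmain : ∀ a' c' t' : Γ, a' ∈ Subgroup.zpowers a → a' ≠ 1 → c' ∈ Subgroup.zpowers c → c' ≠ 1 →
      t' ∈ H → t' * c * t'⁻¹ ∈ Subgroup.zpowers c →
      (∀ r ∈ rels, evalW a' c' t' r.1 = evalW a' c' t' r.2) →
      ∃ s ∈ S, s * a * s⁻¹ = a' ∧ s * c * s⁻¹ = c' ∧ s * t * s⁻¹ = t')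
    (α : MulAut H) : ∃ s ∈ S, ∃ h ∈ H, ∀ x : H, (α x : Γ) = h * s * x * (h * s)⁻¹ := by
  set a₀ : H := ⟨a, ha⟩
  set c₀ : H := ⟨c, hc⟩
  set t₀ : H := ⟨t, ht⟩
  have hoa₀ : orderOf a₀ = p := by rw [← hoa, Subgroup.orderOf_mk]
  have hoc₀ : orderOf c₀ = q := by rw [← hoc, Subgroup.orderOf_mk]
  -- all subgroups of order `p` are conjugate
  obtain ⟨g, hg⟩ : ∃ g : H, g * α a₀ * g⁻¹ ∈ Subgroup.zpowers a₀ := by
    have hcard : ∀ x : H, orderOf x = p → ∃ P : Sylow p H, (P : Subgroup H) = Subgroup.zpowers x := by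
      intro x hx
      obtain ⟨P, hP⟩ := (IsPGroup.of_card (n := 1) (G := Subgroup.zpowers x)
        (by rw [Nat.card_zpowers, hx, pow_one])).exists_le_sylow
      obtain ⟨k, hk⟩ := P.isPGroup'.exists_card_eq
      refine ⟨P, (Subgroup.eq_of_le_of_card_ge hP ?_).symm⟩
      rw [Nat.card_zpowers, hx, hk]
      rcases Nat.lt_or_ge k 2 with hk2 | hk2
      · calc p ^ k ≤ p ^ 1 := Nat.pow_le_pow_right (Fact.out : p.Prime).pos (by omega)
          _ = p := pow_one p
      · exact absurd ((pow_dvd_pow p hk2).trans (hk ▸ Subgroup.card_subgroup_dvd_card _)) hp2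
    obtain ⟨P, hP⟩ := hcard a₀ hoa₀
    obtain ⟨Q, hQ⟩ := hcard (α a₀) (by rw [MulEquiv.orderOf_eq, hoa₀])
    obtain ⟨g, hg⟩ := MulAction.exists_smul_eq H Q P
    refine ⟨g, ?_⟩
    rw [← hP, ← hg, Sylow.coe_subgroup_smul]
    exact Subgroup.smul_mem_pointwise_smul (α a₀) (MulAut.conj g) _
      (by rw [hQ]; exact Subgroup.mem_zpowers _)
  set β : MulAut H := MulAut.conj g * α with hβ
  have hβa : (β a₀ : Γ) ∈ Subgroup.zpowers a := by
    have := Subgroup.mem_map_of_mem H.subtype hg
    rw [MonoidHom.map_zpowers] at this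
    exact this
  have hgen_a : ∀ y ∈ Subgroup.zpowers a, y ≠ 1 → Subgroup.zpowers y = Subgroup.zpowers a := by
    intro y hy hy1
    have : Finite (Subgroup.zpowers a) :=
      Nat.finite_of_card_ne_zero (by rw [Nat.card_zpowers, hoa]; exact (Fact.out : p.Prime).ne_zero)
    refine Subgroup.eq_of_le_of_card_ge (Subgroup.zpowers_le.mpr hy) ?_
    rw [Nat.card_zpowers, Nat.card_zpowers, hoa]
    have hd : orderOf y ∣ p :=
      (Subgroup.orderOf_dvd_natCard _ hy).trans (dvd_of_eq (by rw [Nat.card_zpowers, hoa]))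
    rcases (Nat.dvd_prime (Fact.out : p.Prime)).mp hd with h | h
    · exact absurd (orderOf_eq_one_iff.mp h) hy1
    · exact h.ge
  have hne : ∀ (γ : MulAut H) (x : H) (n : ℕ), n.Prime → orderOf x = n → (γ x : Γ) ≠ 1 := by
    intro γ x n hn hx e
    have : γ x = 1 := Subtype.ext e
    rw [← MulEquiv.orderOf_eq γ, this, orderOf_one] at hx
    exact hn.one_lt.ne hx
  have hβa1 : (β a₀ : Γ) ≠ 1 := hne β a₀ p Fact.out hoa₀
  -- normalizing relations transfer
  have htrans : ∀ (γ : MulAut H) (x y : H), (x : Γ) * y * (x : Γ)⁻¹ ∈ Subgroup.zpowers (y : Γ) →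
      (γ x : Γ) * γ y * (γ x : Γ)⁻¹ ∈ Subgroup.zpowers (γ y : Γ) := by
    intro γ x y h
    obtain ⟨k, hk⟩ := Subgroup.mem_zpowers_iff.mp h
    refine Subgroup.mem_zpowers_iff.mpr ⟨k, ?_⟩
    have h1 : x * y * x⁻¹ = y ^ k := Subtype.ext (by simpa using hk.symm)
    have h2 := congrArg γ h1
    rw [map_mul, map_mul, map_inv, map_zpow] at h2
    have h3 := congrArg Subtype.val h2
    simpa using h3.symm
  have hβc : (β c₀ : Γ) * a * (β c₀ : Γ)⁻¹ ∈ Subgroup.zpowers a := by
    have h1 := htrans β c₀ a₀ hca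
    rw [hgen_a _ hβa hβa1] at h1
    have hle : Subgroup.zpowers (β a₀ : Γ) ≤
        (Subgroup.zpowers a).comap (MulAut.conj (β c₀ : Γ)).toMonoidHom :=
      Subgroup.zpowers_le.mpr h1
    rw [hgen_a _ hβa hβa1] at hle
    exact hle (Subgroup.mem_zpowers a)
  have hβcq : (β c₀ : Γ) ^ q = 1 := by
    have : β c₀ ^ q = 1 := by rw [← map_pow, ← hoc₀, pow_orderOf_eq_one, map_one]
    simpa using congrArg Subtype.val this
  obtain ⟨m, hm, hma, hmc⟩ := hN _ (β c₀).2 hβc hβcq (hne β c₀ q hq hoc₀)
  set γ : MulAut H := MulAut.conj ⟨m, hm⟩ * β with hγ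
  have hγc : (γ c₀ : Γ) ∈ Subgroup.zpowers c := by
    simpa [hγ] using hmc
  have hγa : (γ a₀ : Γ) ∈ Subgroup.zpowers a := by
    have hle : Subgroup.zpowers a ≤ (Subgroup.zpowers a).comap (MulAut.conj m).toMonoidHom :=
      Subgroup.zpowers_le.mpr hma
    simpa [hγ] using hle hβa
  have hγc1 := hne γ c₀ q hq hoc₀
  have hgen_c : Subgroup.zpowers (γ c₀ : Γ) = Subgroup.zpowers c := by
    have : Finite (Subgroup.zpowers c) :=
      Nat.finite_of_card_ne_zero (by rw [Nat.card_zpowers, hoc]; exact hq.ne_zero)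
    refine Subgroup.eq_of_le_of_card_ge (Subgroup.zpowers_le.mpr hγc) ?_
    rw [Nat.card_zpowers, Nat.card_zpowers, hoc, Subgroup.orderOf_coe, MulEquiv.orderOf_eq, hoc₀]
  have hγt : (γ t₀ : Γ) * c * (γ t₀ : Γ)⁻¹ ∈ Subgroup.zpowers c := by
    have h1 := htrans γ t₀ c₀ htc
    have hle : Subgroup.zpowers (γ c₀ : Γ) ≤
        (Subgroup.zpowers (γ c₀ : Γ)).comap (MulAut.conj (γ t₀ : Γ)).toMonoidHom :=
      Subgroup.zpowers_le.mpr h1
    rw [hgen_c] at hle
    exact hle (Subgroup.mem_zpowers c)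
  have hγrels : ∀ r ∈ rels,
      evalW (γ a₀ : Γ) (γ c₀) (γ t₀) r.1 = evalW (γ a₀ : Γ) (γ c₀) (γ t₀) r.2 := by
    intro r hr
    have h0 : ∀ w, ((evalW (γ a₀) (γ c₀) (γ t₀) w : H) : Γ) = evalW (γ a₀ : Γ) (γ c₀) (γ t₀) w :=
      fun w => evalW_map H.subtype (γ a₀) (γ c₀) (γ t₀) w
    have h1 : evalW a₀ c₀ t₀ r.1 = evalW a₀ c₀ t₀ r.2 := Subtype.ext (by
      have e : ∀ w, ((evalW a₀ c₀ t₀ w : H) : Γ) = evalW a c t w :=
        fun w => evalW_map H.subtype a₀ c₀ t₀ w
      rw [e, e]; exact hrels r hr)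
    have h2 := congrArg γ.toMonoidHom h1
    rw [evalW_map, evalW_map] at h2
    rw [← h0, ← h0]
    exact congrArg Subtype.val h2
  obtain ⟨s, hs, e1, e2, e3⟩ :=
    hmain _ _ _ hγa (hne γ a₀ p Fact.out hoa₀) hγc hγc1 (γ t₀).2 hγt hγrels
  refine ⟨s, hs, (m * g)⁻¹, H.inv_mem (H.mul_mem hm g.2), fun x => ?_⟩
  -- `γ` agrees with conjugation by `s` on the generators
  have key : ∀ y ∈ Subgroup.closure ({a, c, t} : Set Γ), ∀ hy : y ∈ H,
      (γ ⟨y, hy⟩ : Γ) = s * y * s⁻¹ := by
    intro y hy
    have hle : Subgroup.closure ({a, c, t} : Set Γ) ≤ H := by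
      rw [Subgroup.closure_le]
      rintro z (rfl | rfl | rfl) <;> assumption
    induction hy using Subgroup.closure_induction with
    | mem z hz =>
      intro _
      rcases hz with rfl | rfl | rfl
      · exact e1.symm
      · exact e2.symm
      · exact e3.symm
    | one => intro _; rw [show (⟨1, _⟩ : H) = 1 from rfl, map_one]; simp
    | mul z w hz hw ihz ihw =>
      intro h
      rw [show (⟨z * w, h⟩ : H) = ⟨z, hle hz⟩ * ⟨w, hle hw⟩ from rfl, map_mul, Subgroup.coe_mul,
        ihz, ihw]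
      simp [mul_assoc]
    | inv z hz ihz =>
      intro h
      rw [show (⟨z⁻¹, h⟩ : H) = ⟨z, hle hz⟩⁻¹ from rfl, map_inv, Subgroup.coe_inv, ihz]
      simp [mul_assoc]
  have hx := key (x : Γ) (hgen x.2) x.2
  rw [Subtype.coe_eta, hγ, hβ] at hx
  simp only [MulAut.mul_apply, MulAut.conj_apply, Subgroup.coe_mul, Subgroup.coe_inv] at hx
  calc (α x : Γ) = (m * g)⁻¹ * (m * (g * (α x) * (g : Γ)⁻¹) * m⁻¹) * (m * g) := by
        simp [mul_assoc]
    _ = _ := by rw [hx]; simp [mul_assoc]

end Cfsg.Agent.Spor.Golay.Aut
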