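import Cfsg.Agent.Lib.Spor.Golay.CensusTrioChain

/-! The pointwise stabiliser of the standard oct on the outside points. -/

set_option autoImplicit false
set_option maxRecDepth 100000

namespace Cfsg.Agent.Spor.Golay.Census

/-- An orbit. -/
def kerPtU : Orb where
  k := 1
  n := 16
  keys := 0x100000004000000100400000020000000040010000200000800000000800080000002000008000000200040000000020
  ord := 0x7000c0008000f00050001000b00090003000e000400060002000d000a0000
  par := 0xb000800060005000500030002000200010001000100000000000000000000
  gen := 0x3030303020303020302010302010000
  tabs := [0x3600003200001600001200002600002200000600000200003400003000001400001000002400002000000400000000060022020022040022000022060020020020040020000020060002020002040002000002060000020000040000000000090180090080010180010080080180080080000180000080090100090000010100010000080100080000000100000000008844008840000844000840008804008800000804000800008044008040000044000040008004008000000004000000004019004018000019000018004009004008000009000008004011004010000011000010004001004000000001000000000000f00000e00000d00000c00000b00000a000009000008000007000006000005000004000003000002000001000000, 0xc08100c08000c00100c000004081004080004001004000008081008080008001008000000081000080000001000000000c28000c08000c20000c000004280004080004200004000008280008080008200008000000280000080000200000000021104021004020104020004021100021000020100020000001104001004000104000004001100001000000100000000012042002042012040002040012002002002012000002000010042000042010040000040010002000002010000000000000429000428000409000408000029000028000009000008000421000420000401000400000021000020000001000000000000f00000e00000d00000c00000b00000a000009000008000007000006000005000004000003000002000001000000,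 0x5003001003005001001001004003000003004001000001005002001002005000001000004002000002004000000000000a48000a08000248000208000a40000a0000024000020000084800080800004800000800084000080000004000000000011060010060011020010020001060000060001020000020011040010040011000010000001040000040001000000000a40400240400840400040400a40000240000840000040000a00400200400800400000400a0000020000080000000000000a09000a08000209000208000809000808000009000008000a01000a00000201000200000801000800000001000000000000f00000e00000d00000c00000b00000a000009000008000007000006000005000004000003000002000001000000, 0xe40000c40000e00000c00000640000440000600000400000a40000840000a0000080000024000004000020000000000d00200d00000c00200c00000500200500000400200400000900200900000800200800000100200100000000200000000201060200060201040200040001060000060001040000040201020200020201000200000001020000020001000000000010d00010500000d00000500010900010100000900000100010c00010400000c0000040001080001000000080000000000a09000a08000809000808000209000208000009000008000a01000a00000801000800000201000200000001000000000000f00000e00000d00000c00000b00000a000009000008000007000006000005000004000003000002000001000000]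
  imgs := [0xe000f000a00090008000d000c000b00040003000200070006000500000001, 0xd000a000f00070006000e00040003000c000b000100090008000000050002, 0xc00090007000f00050004000e0002000d0001000b000a0000000800060003, 0xb000800060005000f00030002000e0001000d000c0000000a000900070004]


theorem kerPtU_ok : kerPtU.ok tr4SG = true := by decide +kernel

theorem kerPtU_zero : kerPtU.obj 0 = [32] ∧ kerPtU.n = 16 := by decide +kernel

end Cfsg.Agent.Spor.Golay.Census
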