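import Cfsg.Agent.Lib.Spor.Golay.CensusNested
import Cfsg.Agent.Lib.Spor.Golay.CensusKerPt
import Cfsg.Agent.Lib.Spor.Golay.CensusOctPtX

/-! The stabiliser of an oct in the code group: pointwise part, point stabiliser, image on the oct. -/

set_option autoImplicit false
set_option maxRecDepth 100000

namespace Cfsg.Agent.Spor.Golay.Census

open scoped Pointwise

theorem kerFix : fixOk ((List.range 24).filterMap fun j => if Nat.testBit 5279 j then some [2 ^ j] else none)
    tr4SG = true := by decide +kernel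

theorem kerFive : (sixA.all fun b => Nat.testBit 5279 b && decide (b < 24)) = true := by decide +kernel

/-- The pointwise stabiliser of the standard oct. -/
theorem mem_ker_oct {g : Equiv.Perm GolayPt} : g ∈ grp tr4SG ↔ g ∈ M24 ∧ ∀ q ∈ pts 5279, g q = q := by
  have fwd : ∀ k ∈ grp tr4SG, k ∈ M24 ∧ ∀ q ∈ pts 5279, k q = q := fun k hk => by
    have h := mem_Fx.mp ((grp_le_Fx kerFix).2 hk)
    refine ⟨h.1, fun q hq => ?_⟩
    have h2 := h.2 [2 ^ idx q] (List.mem_filterMap.mpr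
      ⟨idx q, List.mem_range.mpr (idx_lt q), by rw [if_pos (mem_pts.mp hq)]⟩)
    rw [smul_fam_single, smul_pts_point (idx_lt q), pt_idx] at h2
    exact h2
  refine ⟨fwd g, fun ⟨hM, h⟩ => ?_⟩
  have hb : ∀ b ∈ sixA, pt b ∈ pts 5279 := fun b hb => by
    have := List.all_eq_true.mp kerFive b hb
    simp only [Bool.and_eq_true, decide_eq_true_eq] at this
    exact (pt_mem_pts this.2).mpr this.1
  have hle : grp tr4SG ≤ Fix [] sixA := fun k hk =>
    mem_Fix.mpr ⟨(fwd k hk).1, fun _ hx => absurd hx List.not_mem_nil, fun b hb' => (fwd k hk).2 _ (hb b hb')⟩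
  rw [Subgroup.eq_of_le_of_card_ge hle (by rw [card_Fix_sixA, stageTr4.2.2])]
  exact mem_Fix.mpr ⟨hM, fun _ hx => absurd hx List.not_mem_nil, fun b hb' => h _ (hb b hb')⟩

theorem card_ker_oct : Nat.card (grp tr4SG) = 16 := stageTr4.2.2

theorem ker_inf_pt : grp tr4SG ⊓ Fx [[32], [5279]] = ⊥ := by
  have h := stageTr4.card_next (m := 1) kerPtU_ok kerPtU_zero.1 kerPtU_zero.2 (by norm_num) (by norm_num)
  refine eq_bot_iff.mpr fun g hg => ?_
  obtain ⟨h1, h2⟩ := Subgroup.mem_inf.mp hg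
  have h3 := Subgroup.card_eq_one.mp h
  refine h3.le (mem_Fx.mpr ⟨(mem_ker_oct.mp h1).1, fun L hL => ?_⟩)
  rcases List.mem_cons.mp hL with rfl | hL
  · exact (mem_Fx.mp h2).2 _ (List.mem_cons_self ..)
  · exact (mem_Fx.mp (stageTr4.2.1.ge h1)).2 L hL

theorem Fx_pt_le : Fx [[32], [5279]] ≤ Fx [[5279]] := fun g hg =>
  mem_Fx.mpr ⟨(mem_Fx.mp hg).1, fun L hL => (mem_Fx.mp hg).2 L (List.mem_cons_of_mem _ hL)⟩

theorem ker_le : grp tr4SG ≤ Fx [[5279]] := fun g hg => by
  obtain ⟨hM, h⟩ := mem_ker_oct.mp hg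
  refine mem_Fx_one.mpr ⟨hM, ?_⟩
  rw [smul_fam_single]
  refine Finset.eq_of_subset_of_card_le ?_ (by rw [Finset.card_smul_finset])
  intro x hx
  obtain ⟨y, hy, rfl⟩ := Finset.mem_smul_finset.mp hx
  rwa [Equiv.Perm.smul_def, h y hy]

theorem ker_sup_pt : grp tr4SG ⊔ Fx [[32], [5279]] = Fx [[5279]] := by
  refine Subgroup.eq_of_le_of_card_ge (sup_le ker_le Fx_pt_le) ?_
  rw [stageOct.card_Fx]
  let f : grp tr4SG × Fx [[32], [5279]] → (grp tr4SG ⊔ Fx [[32], [5279]] : Subgroup _) := fun x =>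
    ⟨x.1.1 * x.2.1, mul_mem (Subgroup.mem_sup_left x.1.2) (Subgroup.mem_sup_right x.2.2)⟩
  have hf : Function.Injective f := fun x y e =>
    Subgroup.mul_injective_of_disjoint (disjoint_iff.mpr ker_inf_pt) (congrArg Subtype.val e)
  have h := Nat.card_le_card_of_injective f hf
  rwa [Nat.card_prod, card_ker_oct, stageOctPtX.card_Fx] at h

/-- The stabiliser of a set within the code group, inside all permutations. -/
theorem inf_stab_eq {a : Equiv.Perm GolayPt} (ha : a ∈ M24) (m : ℕ) :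
    M24 ⊓ MulAction.stabilizer (Equiv.Perm GolayPt) (a • pts m) = (Fx [[m]]).map (MulAut.conj a).toMonoidHom := by
  ext g
  rw [Subgroup.mem_inf, MulAction.mem_stabilizer_iff, Subgroup.mem_map]
  constructor
  · rintro ⟨hg, hgs⟩
    refine ⟨a⁻¹ * g * a, mem_Fx_one.mpr ⟨mul_mem (mul_mem (inv_mem ha) hg) ha, ?_⟩, by simp [mul_assoc]⟩
    rw [smul_fam_single, mul_smul, mul_smul, hgs, inv_smul_smul]
  · rintro ⟨k, hk, rfl⟩
    obtain ⟨k1, k2⟩ := mem_Fx_one.mp hk
    rw [smul_fam_single] at k2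
    refine ⟨mul_mem (mul_mem ha k1) (inv_mem ha), ?_⟩
    show (a * k * a⁻¹) • a • pts m = a • pts m
    rw [mul_smul, mul_smul, inv_smul_smul, k2]

theorem inf_fixing_eq {a : Equiv.Perm GolayPt} (ha : a ∈ M24) :
    M24 ⊓ fixingSubgroup (Equiv.Perm GolayPt) ((a • pts 5279 : Finset GolayPt) : Set GolayPt) =
      (grp tr4SG).map (MulAut.conj a).toMonoidHom := by
  ext g
  rw [Subgroup.mem_inf, mem_fixingSubgroup_iff, Subgroup.mem_map]
  constructor
  · rintro ⟨hg, hgs⟩
    refine ⟨a⁻¹ * g * a, mem_ker_oct.mpr ⟨mul_mem (mul_mem (inv_mem ha) hg) ha, fun q hq => ?_⟩, by simp [mul_assoc]⟩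
    have : g • (a • q) = a • q := hgs _ (Finset.mem_coe.mpr (Finset.smul_mem_smul_finset hq))
    show (a⁻¹ * g * a) • q = q
    rw [mul_smul, mul_smul, this, inv_smul_smul]
  · rintro ⟨k, hk, rfl⟩
    obtain ⟨k1, k2⟩ := mem_ker_oct.mp hk
    refine ⟨mul_mem (mul_mem ha k1) (inv_mem ha), fun y hy => ?_⟩
    obtain ⟨q, hq, rfl⟩ := Finset.mem_smul_finset.mp (Finset.mem_coe.mp hy)
    show (a * k * a⁻¹) • a • q = a • q
    rw [mul_smul, mul_smul, inv_smul_smul, show k • q = q from k2 q hq]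

theorem inf_stab_pt_eq {a : Equiv.Perm GolayPt} (ha : a ∈ M24) :
    M24 ⊓ MulAction.stabilizer (Equiv.Perm GolayPt) (a • pts 5279) ⊓
        MulAction.stabilizer (Equiv.Perm GolayPt) (a (pt 5)) =
      (Fx [[32], [5279]]).map (MulAut.conj a).toMonoidHom := by
  rw [inf_stab_eq ha]
  ext g
  rw [Subgroup.mem_inf, MulAction.mem_stabilizer_iff, Subgroup.mem_map, Subgroup.mem_map]
  have h5 : ∀ k : Equiv.Perm GolayPt, k • fam [32] = fam [32] ↔ k (pt 5) = pt 5 := fun k => by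
    rw [smul_fam_single]; exact smul_pts_point (i := 5) (by norm_num)
  have hc : ∀ k : Equiv.Perm GolayPt, (MulAut.conj a).toMonoidHom k • a (pt 5) = a (k (pt 5)) := fun k => by
    show (a * k * a⁻¹) • a • pt 5 = a (k (pt 5))
    rw [mul_smul, mul_smul, inv_smul_smul]; rfl
  constructor
  · rintro ⟨⟨k, hk, rfl⟩, hg⟩
    refine ⟨k, mem_Fx.mpr ⟨(mem_Fx.mp hk).1, fun L hL => ?_⟩, rfl⟩
    rcases List.mem_cons.mp hL with rfl | hL
    · exact (h5 k).mpr (a.injective (by rw [← hc, hg]))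
    · exact (mem_Fx.mp hk).2 L hL
  · rintro ⟨k, hk, rfl⟩
    exact ⟨⟨k, Fx_pt_le hk, rfl⟩, by rw [hc, (h5 k).mp ((mem_Fx.mp hk).2 _ (List.mem_cons_self ..))]⟩

/-- The action on a set fixed by a group. -/
noncomputable def restrictHom (H : Subgroup (Equiv.Perm GolayPt)) (s : Finset GolayPt)
    (h : ∀ g ∈ H, ∀ x, g x ∈ s ↔ x ∈ s) : H →* Equiv.Perm ↥s where
  toFun g := (g : Equiv.Perm GolayPt).subtypePerm (h g g.2)
  map_one' := by ext; rfl
  map_mul' g k := by ext; rfl

theorem mem_iff_of_smul_eq {g : Equiv.Perm GolayPt} {s : Finset GolayPt} (h : g • s = s) (x : GolayPt) :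
    g x ∈ s ↔ x ∈ s := by
  conv_lhs => rw [← h]
  exact Finset.smul_mem_smul_finset_iff g

/-- A subgroup of half the order of all permutations of eight things is the alternating one. -/
theorem eq_alt_of_card {s : Finset GolayPt} (hs : s.card = 8) {A : Subgroup (Equiv.Perm ↥s)}
    (hA : Nat.card A = 20160) : A = alternatingGroup ↥s := by
  refine Equiv.Perm.eq_alternatingGroup_of_index_eq_two ?_
  have h := A.card_mul_index
  rw [hA, Nat.card_perm, Nat.card_eq_fintype_card, Fintype.card_coe, hs] at h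
  simp [Nat.factorial] at h
  omega

theorem range_restrict {a : Equiv.Perm GolayPt} (ha : a ∈ M24)
    (h : ∀ g ∈ M24 ⊓ MulAction.stabilizer (Equiv.Perm GolayPt) (a • pts 5279), ∀ x, g x ∈ a • pts 5279 ↔ x ∈ a • pts 5279) :
    (restrictHom _ _ h).range = alternatingGroup ↥(a • pts 5279) := by
  refine eq_alt_of_card (by rw [Finset.card_smul_finset, card_pts]; decide +kernel) ?_
  have e : (restrictHom _ _ h).ker.map (Subgroup.subtype _) =
      M24 ⊓ fixingSubgroup (Equiv.Perm GolayPt) ((a • pts 5279 : Finset GolayPt) : Set GolayPt) := by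
    ext g
    rw [Subgroup.mem_inf, mem_fixingSubgroup_iff, Subgroup.mem_map]
    constructor
    · rintro ⟨⟨g, hg⟩, hk, rfl⟩
      exact ⟨hg.1, fun y hy => congrArg Subtype.val (Equiv.congr_fun hk ⟨y, hy⟩)⟩
    · rintro ⟨hg, hf⟩
      have hst : g • (a • pts 5279) = a • pts 5279 := by
        refine Finset.eq_of_subset_of_card_le (fun x hx => ?_) (le_of_eq (Finset.card_smul_finset _ _).symm)
        obtain ⟨y, hy, rfl⟩ := Finset.mem_smul_finset.mp hx
        rwa [hf y (Finset.mem_coe.mpr hy)]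
      refine ⟨⟨g, hg, hst⟩, ?_, rfl⟩
      exact Equiv.ext fun x => Subtype.ext (hf x.1 x.2)
  have hcard : Nat.card ↥(M24 ⊓ MulAction.stabilizer (Equiv.Perm GolayPt) (a • pts 5279)) = 322560 := by
    rw [inf_stab_eq ha, ← Nat.card_congr (Subgroup.equivMapOfInjective _ _ (MulAut.conj a).injective).toEquiv,
      stageOct.card_Fx]
  have h1 := (restrictHom _ _ h).ker.card_mul_index
  rw [Subgroup.index_ker, ← Nat.card_congr (Subgroup.equivMapOfInjective _ _ (Subgroup.subtype_injective _)).toEquiv.symm,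
    e, inf_fixing_eq ha, ← Nat.card_congr (Subgroup.equivMapOfInjective _ _ (MulAut.conj a).injective).toEquiv,
    card_ker_oct, hcard] at h1
  omega

theorem stab_pt_iso :
    Nonempty (↥(Fx [[32], [5279]]) ≃* alternatingGroup (Fin 8)) := by
  have hst : ∀ g ∈ Fx [[32], [5279]], ∀ x, g x ∈ pts 5279 ↔ x ∈ pts 5279 := fun g hg =>
    mem_iff_of_smul_eq ((smul_fam_single _).mp ((mem_Fx.mp hg).2 _ (List.mem_cons_of_mem _ (List.mem_cons_self ..))))
  have hinj : Function.Injective (restrictHom _ _ hst) := by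
    rw [← MonoidHom.ker_eq_bot_iff, eq_bot_iff]
    intro g hg
    have hk : (g : Equiv.Perm GolayPt) ∈ grp tr4SG := mem_ker_oct.mpr ⟨(mem_Fx.mp g.2).1, fun q hq =>
      congrArg Subtype.val (Equiv.congr_fun hg ⟨q, hq⟩)⟩
    exact Subtype.ext (ker_inf_pt.le (Subgroup.mem_inf.mpr ⟨hk, g.2⟩))
  have h8 : (pts 5279).card = 8 := by decide +kernel
  have hr : (restrictHom _ _ hst).range = alternatingGroup ↥(pts 5279) := eq_alt_of_card h8
    (by rw [← Nat.card_congr (MonoidHom.ofInjective hinj).toEquiv, stageOctPtX.card_Fx])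
  exact ⟨(MonoidHom.ofInjective hinj).trans ((MulEquiv.subgroupCongr hr).trans
    (Equiv.altCongrHom ((pts 5279).equivFinOfCardEq h8)))⟩

theorem exists_oct_outside {o : Finset GolayPt} (ho : o ∈ octads) {p : GolayPt} (hp : p ∉ o) :
    ∃ a ∈ M24, a • pts 5279 = o ∧ a (pt 5) = p := by
  obtain ⟨a0, ha0, e⟩ := exists_smul_octA ho
  have hq : (fun j => !Nat.testBit 5279 j) (idx (a0⁻¹ • p)) = true := by
    rw [← e, ← Finset.inv_smul_mem_iff, mem_pts] at hp
    simpa [octA] using hp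
  obtain ⟨g, hg, e0⟩ := exists_point stageOct octPtXU_ok (i := 5) (by norm_num) octPtXU_zero.1
    (cond := fun j => !Nat.testBit 5279 j) (by decide +kernel) hq
  refine ⟨a0 * g, mul_mem ha0 (mem_Fx.mp hg).1, ?_, ?_⟩
  · rw [mul_smul, (smul_fam_single _).mp ((mem_Fx.mp hg).2 _ (List.mem_singleton_self _))]
    exact e
  · rw [Equiv.Perm.mul_apply, e0]; exact smul_inv_smul a0 p

end Cfsg.Agent.Spor.Golay.Census
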