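import Cfsg.Agent.Lib.Spor.Golay.CensusClassData

/-! Conjugacy of the elements of order two and three, and the centraliser of a free involution. -/

set_option autoImplicit false
set_option maxRecDepth 100000

namespace Cfsg.Agent.Spor.Golay.Census

open scoped Pointwise

/-- One step down a certified chain. -/
theorem exists_step {T n : ℕ} (hT : TableOk T n) {X bs : List ℕ} {l : Level}
    (hl : lowLevel T X bs l = true) (hu : upLevel X bs l = true) (hn : ∀ i ∈ l.2.2, i < n)
    {k : Equiv.Perm GolayPt} (hk : k ∈ Fix X bs) :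
    ∃ i ∈ l.2.2, valid (tab 120 T i) = true ∧ (permOf (tab 120 T i))⁻¹ * k ∈ Fix X (l.1 :: bs) := by
  simp only [lowLevel, Bool.and_eq_true, decide_eq_true_eq, List.all_eq_true, beq_iff_eq] at hl
  obtain ⟨⟨⟨hb, -⟩, hall⟩, hm⟩ := hl
  obtain ⟨hM, hX, hbs⟩ := mem_Fix.mp hk
  have hc := cell_sound (invs_sound hM hX (fix_maskL hk)) (pt l.1)
  rw [idx_pt hb] at hc
  simp only [upLevel, beq_iff_eq] at hu
  rw [← hu, ← pts_inter, Finset.mem_inter] at hc
  have hc2 := mem_pts.mp hc.2
  rw [← hm, testBit_maskL, List.mem_map] at hc2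
  obtain ⟨i, hi, he⟩ := hc2
  obtain ⟨hv, hmem⟩ := hT i (hn i hi)
  have hfix : permOf (tab 120 T i) ∈ Fix X bs := mem_Fix.mpr ⟨hmem,
    fun x hx => by rw [permOf_smul_pts hv, (hall i hi).1 x hx],
    fun b hb' => idx_injective (by
      rw [idx_permOf hv, idx_pt ((hall i hi).2 b hb').1, ((hall i hi).2 b hb').2])⟩
  refine ⟨i, hi, hv, ?_⟩
  obtain ⟨k1, k2, k3⟩ := mem_Fix.mp (mul_mem (inv_mem hfix) hk)
  refine mem_Fix.mpr ⟨k1, k2, fun c hc' => ?_⟩
  rcases List.mem_cons.mp hc' with rfl | hc'
  · rw [Equiv.Perm.mul_apply, Equiv.Perm.inv_eq_iff_eq]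
    refine idx_injective ?_
    rw [idx_permOf hv, idx_pt hb, he]
  · exact k3 c hc'

/-- The extensions of a partial element along a chain passing a test at every level. -/
def cands (T : ℕ) (test : ℕ → List ℕ → Bool) : ℕ → List ℕ → List Level → List ℕ
  | P, _, [] => [P]
  | P, bs, l :: ls =>
    l.2.2.flatMap fun i => if test (comp P (tab 120 T i)) (l.1 :: bs) then
      cands T test (comp P (tab 120 T i)) (l.1 :: bs) ls else []

theorem mem_cands {T n : ℕ} (hT : TableOk T n) (test : ℕ → List ℕ → Bool) {g : Equiv.Perm GolayPt}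
    (ht : ∀ Q cs, valid Q = true → (∀ c ∈ cs, permOf Q (pt c) = g (pt c)) → test Q cs = true) :
    ∀ (ls : List Level) (bs : List ℕ) (P : ℕ), valid P = true → lowOk T [] bs ls = true → upOk [] bs ls = true →
      idxOk n ls = true → (permOf P)⁻¹ * g ∈ Fix [] bs →
      ∃ R ∈ cands T test P bs ls, valid R = true ∧ permOf R = g := by
  intro ls
  induction ls with
  | nil =>
    intro bs P hP _ hu _ hk
    rw [Fix_eq_bot (by simpa [upOk] using hu), Subgroup.mem_bot, inv_mul_eq_one] at hk
    exact ⟨P, by simp [cands], hP, hk⟩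
  | cons l ls ih =>
    intro bs P hP h hu hn hk
    simp only [lowOk, Bool.and_eq_true] at h
    simp only [upOk, Bool.and_eq_true] at hu
    simp only [idxOk, List.all_cons, Bool.and_eq_true, List.all_eq_true, decide_eq_true_eq] at hn
    obtain ⟨i, hi, hv, hk'⟩ := exists_step hT h.1 hu.1 hn.1 hk
    have hQ := valid_comp hP hv
    have he : (permOf (comp P (tab 120 T i)))⁻¹ * g ∈ Fix [] (l.1 :: bs) := by
      rwa [permOf_comp hP hv, mul_inv_rev, mul_assoc]
    have hok : test (comp P (tab 120 T i)) (l.1 :: bs) = true := ht _ _ hQ fun c hc => by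
      have := (mem_Fix.mp he).2.2 c hc
      rw [Equiv.Perm.mul_apply, Equiv.Perm.inv_eq_iff_eq] at this
      exact this.symm
    obtain ⟨R, hR, hR'⟩ := ih (l.1 :: bs) _ hQ h.2 hu.2 (by simpa [idxOk] using hn.2) he
    refine ⟨R, List.mem_flatMap.mpr ⟨i, hi, ?_⟩, hR'⟩
    rw [if_pos hok]
    exact hR

/-- The elements with the images of the first four base points of a pattern. -/
def four (g0 : ℕ) : List ℕ := cands table (fun _ _ => true) g0 [3, 2, 1, 0] (chainA.drop 4)

theorem four_checks : lowOk table [] [3, 2, 1, 0] (chainA.drop 4) = true ∧ upOk [] [3, 2, 1, 0] (chainA.drop 4) = true ∧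
    idxOk tableLen (chainA.drop 4) = true := by decide +kernel

theorem mem_four {g0 : ℕ} (h0 : inM24 g0 = true) {g : Equiv.Perm GolayPt} (hg : g ∈ M24)
    (h : ∀ i < 4, g (pt i) = permOf g0 (pt i)) : ∃ P ∈ four g0, valid P = true ∧ permOf P = g := by
  obtain ⟨h1, h2, h3⟩ := four_checks
  have hv : valid g0 = true := by simp only [inM24, Bool.and_eq_true] at h0; exact h0.1
  refine mem_cands tableOk _ (fun _ _ _ _ => rfl) _ _ _ hv h1 h2 h3 (mem_Fix.mpr
    ⟨mul_mem (inv_mem (permOf_mem_M24 h0)) hg, fun x hx => absurd hx List.not_mem_nil, fun b hb => ?_⟩)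
  have hb' : b < 4 := by
    simp only [List.mem_cons, List.not_mem_nil, or_false] at hb
    omega
  rw [Equiv.Perm.mul_apply, Equiv.Perm.inv_eq_iff_eq, h b hb']

/-- Every member of the list of period two is conjugated to a representative by a witness. -/
def classOk (cs reps : List ℕ) (W : List (ℕ × ℕ × ℕ)) (pw : ℕ → ℕ) : Bool :=
  cs.all fun P => !Nat.beq (pw P) idP || W.any fun w =>
    Nat.beq w.1 P && (inM24 w.2.1 && decide (w.2.2 < reps.length) && Nat.beq (comp w.2.1 P) (comp (reps.getD w.2.2 0) w.2.1))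

theorem classOk_spec {cs reps : List ℕ} {W : List (ℕ × ℕ × ℕ)} {pw : ℕ → ℕ} (hr : validAll reps = true)
    (h : classOk cs reps W pw = true) {P : ℕ} (hP : P ∈ cs) (hv : valid P = true) (hp : pw P = idP) :
    ∃ k ∈ M24, ∃ r ∈ reps, k * permOf P * k⁻¹ = permOf r := by
  simp only [classOk, List.all_eq_true, List.any_eq_true, Bool.or_eq_true, Bool.and_eq_true, decide_eq_true_eq] at h
  rcases h P hP with h | ⟨w, -, -, ⟨hk, hlt⟩, he⟩
  · simp [hp] at h
  · have hr' := valid_getD hr hlt
    have hk' : valid w.2.1 = true := by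
      simp only [inM24, Bool.and_eq_true] at hk; exact hk.1
    refine ⟨_, permOf_mem_M24 hk, _, hr'.2, ?_⟩
    rw [mul_inv_eq_iff_eq_mul, ← permOf_comp hk' hv, Nat.eq_of_beq_eq_true he, permOf_comp hr'.1 hk']

theorem fix_conj (k g : Equiv.Perm GolayPt) :
    (Finset.univ.filter fun p => (k * g * k⁻¹) p = p) = k • (Finset.univ.filter fun p => g p = p) := by
  ext p
  simp [← Finset.inv_smul_mem_iff, Equiv.Perm.smul_def, ← Equiv.Perm.eq_inv_iff_eq]

theorem fix_card_conj (k g : Equiv.Perm GolayPt) :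
    (Finset.univ.filter fun p => (k * g * k⁻¹) p = p).card = (Finset.univ.filter fun p => g p = p).card := by
  rw [fix_conj, Finset.card_smul_finset]

/-- The fixed positions, as a mask. -/
def fixMask (P : ℕ) : ℕ := maskL ((List.range 24).filter fun i => get P i == i)

theorem fix_eq {P : ℕ} (hP : valid P = true) :
    (Finset.univ.filter fun p => permOf P p = p) = pts (fixMask P) := by
  ext p
  rw [Finset.mem_filter, mem_pts, fixMask, testBit_maskL, List.mem_filter, List.mem_range, beq_iff_eq]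
  simp only [Finset.mem_univ, true_and, idx_lt, ← idx_permOf hP]
  exact idx_injective.eq_iff.symm

theorem fix_card {P : ℕ} (hP : valid P = true) :
    (Finset.univ.filter fun p => permOf P p = p).card = pop (fixMask P) := by rw [fix_eq hP, card_pts]

/-- An element of the code group moving at most three positions is trivial. -/
theorem eq_one_of_small {g : Equiv.Perm GolayPt} (hg : g ∈ M24) {bs : List ℕ} (ht : trivOk [] bs = true)
    (h : ∀ b ∈ bs, g (pt b) = pt b) : g = 1 := by
  have : g ∈ Fix [] bs := mem_Fix.mpr ⟨hg, fun x hx => absurd hx List.not_mem_nil, h⟩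
  rwa [Fix_eq_bot ht, Subgroup.mem_bot] at this

theorem triv_checks : trivOk [] ((List.range 24).drop 2) = true ∧ trivOk [] ((List.range 24).drop 3) = true ∧
    (∀ i : Fin 5, base5 i = pt i.val) := by decide +kernel

/-- Moving distinct points to the first positions. -/
theorem exists_first (x : Fin 5 ↪ GolayPt) : ∃ a ∈ M24, ∀ i : Fin 5, a (pt i.val) = x i := by
  obtain ⟨a, ha, h⟩ := exists_base5 x
  exact ⟨a, ha, fun i => by rw [← triv_checks.2.2 i]; exact h i⟩

theorem exists_first' {k : ℕ} (hk : k ≤ 5) (x : Fin k ↪ GolayPt) : ∃ a ∈ M24, ∀ i : Fin k, a (pt i.val) = x i := by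
  haveI := M24_pretransitive hk
  let y : Fin k ↪ GolayPt := ⟨fun i => pt i.val, fun i j e => Fin.ext (by
    have := congrArg idx e
    rwa [idx_pt (by omega), idx_pt (by omega)] at this)⟩
  obtain ⟨a, ha⟩ := MulAction.exists_smul_eq M24 y x
  exact ⟨a, a.2, fun i => congrArg (fun f : Fin k ↪ GolayPt => f i) ha⟩

theorem pack_ext : ∀ (n : ℕ) (f g : ℕ → ℕ), (∀ i < n, f i = g i) → pack n f = pack n g
  | 0, _, _, _ => rfl
  | n + 1, f, g, h => by
    rw [pack, pack, h 0 (Nat.succ_pos n),
      pack_ext n (fun i => f (i + 1)) (fun i => g (i + 1)) fun i hi => h (i + 1) (by omega)]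

theorem comp_eq_idP {P Q : ℕ} (hP : valid P = true) (hQ : valid Q = true) (h : permOf P * permOf Q = 1) :
    comp P Q = idP := by
  refine pack_ext 24 _ _ fun i hi => ?_
  have := congrArg (fun p : Equiv.Perm GolayPt => idx (p (pt i))) h
  rwa [Equiv.Perm.mul_apply, idx_permOf hP, idx_permOf hQ, Equiv.Perm.one_apply, idx_pt hi] at this

theorem two_checks : inM24 patTwo = true ∧ get patTwo 0 = 1 ∧ get patTwo 1 = 0 ∧ get patTwo 2 = 3 ∧ get patTwo 3 = 2 ∧
    validAll repTwo = true ∧ (repTwo.all inM24) = true ∧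
    classOk (four patTwo) repTwo witTwo (fun P => comp P P) = true := by decide +kernel

theorem three_checks : inM24 patThree = true ∧ get patThree 0 = 1 ∧ get patThree 1 = 2 ∧ get patThree 2 = 0 ∧
    get patThree 3 = 4 ∧ validAll repThree = true ∧ (repThree.all inM24) = true ∧
    classOk (four patThree) repThree witThree (fun P => comp P (comp P P)) = true := by decide +kernel

theorem apply_rep {P i j : ℕ} (hP : inM24 P = true) (hi : i < 24) (h : get P i = j) (hj : j < 24) :
    permOf P (pt i) = pt j := by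
  simp only [inM24, Bool.and_eq_true] at hP
  exact idx_injective (by rw [idx_permOf hP.1, idx_pt hi, h, idx_pt hj])

/-- Every involution is conjugate to a representative. -/
theorem exists_conj_two {g : Equiv.Perm GolayPt} (hg : g ∈ M24) (h2 : orderOf g = 2) :
    ∃ k ∈ M24, ∃ r ∈ repTwo, k * g * k⁻¹ = permOf r := by
  have hgg : g * g = 1 := by rw [← pow_two, ← h2, pow_orderOf_eq_one]
  have hne : g ≠ 1 := fun e => by simp [e] at h2
  have hinv : ∀ p, g (g p) = p := fun p => Equiv.congr_fun hgg p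
  obtain ⟨x, hx⟩ : ∃ x, g x ≠ x := by
    by_contra h
    exact hne (Equiv.ext fun p => not_not.mp ((not_exists.mp h) p))
  have hu : ∃ u, g u ≠ u ∧ u ≠ x ∧ u ≠ g x := by
    by_contra h
    simp only [not_exists, not_and, not_not] at h
    obtain ⟨a, ha, e⟩ := exists_first' (k := 2) (by norm_num)
      ⟨![x, g x], fun i j e => by fin_cases i <;> fin_cases j <;> simp_all [hx.symm]⟩
    have h0 : a (pt 0) = x := e 0
    have h1 : a (pt 1) = g x := e 1
    have := eq_one_of_small (g := a⁻¹ * g * a) (mul_mem (mul_mem (inv_mem ha) hg) ha) triv_checks.1 fun b hb => by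
      have hb' : b < 24 ∧ 2 ≤ b := by
        obtain ⟨i, hi, rfl⟩ := List.getElem_of_mem hb
        simp only [List.length_drop, List.length_range] at hi
        simp only [List.getElem_drop, List.getElem_range]
        omega
      rw [Equiv.Perm.mul_apply, Equiv.Perm.mul_apply, Equiv.Perm.inv_eq_iff_eq]
      by_contra hm
      have hne0 : ∀ c < 2, a (pt b) ≠ a (pt c) := fun c hc e => by
        have := congrArg idx (a.injective e)
        rw [idx_pt hb'.1, idx_pt (by omega)] at this
        omega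
      exact hne0 1 (by norm_num) (by rw [h1]; exact h _ hm (by rw [← h0]; exact hne0 0 (by norm_num)))
    refine hne ?_
    rw [mul_assoc, inv_mul_eq_one, eq_comm] at this
    exact mul_right_cancel (this.trans (one_mul a).symm)
  obtain ⟨u, hu1, hu2, hu3⟩ := hu
  have h4 : g u ≠ x := fun e => hu3 (by rw [← e, hinv])
  have h5 : g u ≠ g x := fun e => hu2 (g.injective e)
  obtain ⟨a, ha, e⟩ := exists_first' (k := 4) (by norm_num)
    ⟨![x, g x, u, g u], fun i j e => by
      fin_cases i <;> fin_cases j <;> simp_all [hx.symm, hu1.symm, hu2.symm, hu3.symm, h4.symm, h5.symm]⟩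
  have e0 : a (pt 0) = x := e 0
  have e1 : a (pt 1) = g x := e 1
  have e2 : a (pt 2) = u := e 2
  have e3 : a (pt 3) = g u := e 3
  obtain ⟨hp, p0, p1, p2, p3, hr, -, hc⟩ := two_checks
  obtain ⟨P, hP, hv, he⟩ := mem_four hp (g := a⁻¹ * g * a) (mul_mem (mul_mem (inv_mem ha) hg) ha) fun i hi => by
    rw [Equiv.Perm.mul_apply, Equiv.Perm.mul_apply, Equiv.Perm.inv_eq_iff_eq]
    interval_cases i
    · rw [apply_rep hp (by norm_num) p0 (by norm_num), e0, e1]
    · rw [apply_rep hp (by norm_num) p1 (by norm_num), e0, e1, hinv]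
    · rw [apply_rep hp (by norm_num) p2 (by norm_num), e2, e3]
    · rw [apply_rep hp (by norm_num) p3 (by norm_num), e2, e3, hinv]
  have hsq : comp P P = idP := comp_eq_idP hv hv (by
    rw [he, show a⁻¹ * g * a * (a⁻¹ * g * a) = a⁻¹ * (g * g) * a by group, hgg]
    simp)
  obtain ⟨k, hk, r, hr', e'⟩ := classOk_spec hr hc hP hv hsq
  exact ⟨k * a⁻¹, mul_mem hk (inv_mem ha), r, hr', by rw [← e', he]; group⟩

/-- Every element of order three is conjugate to a representative. -/
theorem exists_conj_three {g : Equiv.Perm GolayPt} (hg : g ∈ M24) (h3 : orderOf g = 3) :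
    ∃ k ∈ M24, ∃ r ∈ repThree, k * g * k⁻¹ = permOf r := by
  have hggg : g * (g * g) = 1 := by
    have e := pow_orderOf_eq_one g
    rwa [h3, pow_succ', pow_two] at e
  have hne : g ≠ 1 := fun e => by simp [e] at h3
  have hinv : ∀ p, g (g (g p)) = p := fun p => Equiv.congr_fun hggg p
  obtain ⟨x, hx⟩ : ∃ x, g x ≠ x := by
    by_contra h
    exact hne (Equiv.ext fun p => not_not.mp ((not_exists.mp h) p))
  have hx1 : g (g x) ≠ g x := fun e => hx (g.injective e)
  have hx2 : g (g x) ≠ x := fun e => hx (by have := congrArg g e; rw [hinv] at this; exact this.symm)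
  have hu : ∃ u, g u ≠ u ∧ u ≠ x ∧ u ≠ g x ∧ u ≠ g (g x) := by
    by_contra h
    simp only [not_exists, not_and, not_not] at h
    obtain ⟨a, ha, e⟩ := exists_first' (k := 3) (by norm_num)
      ⟨![x, g x, g (g x)], fun i j e => by
        fin_cases i <;> fin_cases j <;> simp_all [hx.symm, hx1.symm, hx2.symm]⟩
    have h0 : a (pt 0) = x := e 0
    have h1 : a (pt 1) = g x := e 1
    have h2 : a (pt 2) = g (g x) := e 2
    have := eq_one_of_small (g := a⁻¹ * g * a) (mul_mem (mul_mem (inv_mem ha) hg) ha) triv_checks.2.1 fun b hb => by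
      have hb' : b < 24 ∧ 3 ≤ b := by
        obtain ⟨i, hi, rfl⟩ := List.getElem_of_mem hb
        simp only [List.length_drop, List.length_range] at hi
        simp only [List.getElem_drop, List.getElem_range]
        omega
      rw [Equiv.Perm.mul_apply, Equiv.Perm.mul_apply, Equiv.Perm.inv_eq_iff_eq]
      by_contra hm
      have hne0 : ∀ c < 3, a (pt b) ≠ a (pt c) := fun c hc e => by
        have := congrArg idx (a.injective e)
        rw [idx_pt hb'.1, idx_pt (by omega)] at this
        omega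
      exact hne0 2 (by norm_num) (by
        rw [h2]
        exact h _ hm (by rw [← h0]; exact hne0 0 (by norm_num)) (by rw [← h1]; exact hne0 1 (by norm_num)))
    refine hne ?_
    rw [mul_assoc, inv_mul_eq_one, eq_comm] at this
    exact mul_right_cancel (this.trans (one_mul a).symm)
  obtain ⟨u, hu1, hu2, hu3, hu4⟩ := hu
  have h4 : g u ≠ x := fun e => hu4 (by rw [← e, hinv])
  have h5 : g u ≠ g x := fun e => hu2 (g.injective e)
  have h6 : g u ≠ g (g x) := fun e => hu3 (g.injective e)
  obtain ⟨a, ha, e⟩ := exists_first ⟨![x, g x, g (g x), u, g u], fun i j e => by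
      fin_cases i <;> fin_cases j <;>
        simp_all [hx.symm, hx1.symm, hx2.symm, hu1.symm, hu2.symm, hu3.symm, hu4.symm, h4.symm, h5.symm, h6.symm]⟩
  have e0 : a (pt 0) = x := e 0
  have e1 : a (pt 1) = g x := e 1
  have e2 : a (pt 2) = g (g x) := e 2
  have e3 : a (pt 3) = u := e 3
  have e4 : a (pt 4) = g u := e 4
  obtain ⟨hp, p0, p1, p2, p3, hr, -, hc⟩ := three_checks
  obtain ⟨P, hP, hv, he⟩ := mem_four hp (g := a⁻¹ * g * a) (mul_mem (mul_mem (inv_mem ha) hg) ha) fun i hi => by
    rw [Equiv.Perm.mul_apply, Equiv.Perm.mul_apply, Equiv.Perm.inv_eq_iff_eq]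
    interval_cases i
    · rw [apply_rep hp (by norm_num) p0 (by norm_num), e0, e1]
    · rw [apply_rep hp (by norm_num) p1 (by norm_num), e1, e2]
    · rw [apply_rep hp (by norm_num) p2 (by norm_num), e0, e2, hinv]
    · rw [apply_rep hp (by norm_num) p3 (by norm_num), e3, e4]
  have hcube : comp P (comp P P) = idP := comp_eq_idP hv (valid_comp hv hv) (by
    rw [permOf_comp hv hv, he,
      show a⁻¹ * g * a * (a⁻¹ * g * a * (a⁻¹ * g * a)) = a⁻¹ * (g * (g * g)) * a by group, hggg]
    simp)
  obtain ⟨k, hk, r, hr', e'⟩ := classOk_spec hr hc hP hv hcube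
  exact ⟨k * a⁻¹, mul_mem hk (inv_mem ha), r, hr', by rw [← e', he]; group⟩

theorem two_reps : repTwo = [repTwo.getD 0 0, repTwo.getD 1 0] ∧ pop (fixMask (repTwo.getD 0 0)) = 8 ∧
    octU.has [fixMask (repTwo.getD 0 0)] = true ∧ pop (fixMask (repTwo.getD 1 0)) = 0 ∧
    comp (repTwo.getD 0 0) (repTwo.getD 0 0) = idP ∧ comp (repTwo.getD 1 0) (repTwo.getD 1 0) = idP := by decide +kernel

theorem three_reps : repThree = [repThree.getD 0 0, repThree.getD 1 0] ∧ pop (fixMask (repThree.getD 0 0)) = 6 ∧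
    pop (fixMask (repThree.getD 1 0)) = 0 ∧
    comp (repThree.getD 0 0) (comp (repThree.getD 0 0) (repThree.getD 0 0)) = idP ∧
    comp (repThree.getD 1 0) (comp (repThree.getD 1 0) (repThree.getD 1 0)) = idP := by decide +kernel

theorem rep_two_ok {r : ℕ} (hr : r ∈ repTwo) : valid r = true ∧ permOf r ∈ M24 ∧ orderOf (permOf r) = 2 := by
  obtain ⟨he, h8, -, h0, q8, q0⟩ := two_reps
  have hin : inM24 r = true := List.all_eq_true.mp two_checks.2.2.2.2.2.2.1 r hr
  have hv : valid r = true := List.all_eq_true.mp two_checks.2.2.2.2.2.1 r hr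
  refine ⟨hv, permOf_mem_M24 hin, orderOf_eq_prime ?_ ?_⟩
  · rw [pow_two, ← permOf_comp hv hv, ← permOf_idP]
    rw [he, List.mem_cons, List.mem_singleton] at hr
    rcases hr with rfl | rfl <;> simp only [q8, q0]
  · intro e
    have hc := fix_card hv
    rw [Finset.filter_true_of_mem (fun p _ => by rw [e]; rfl), Finset.card_univ, card_golayPt] at hc
    rw [he, List.mem_cons, List.mem_singleton] at hr
    rcases hr with rfl | rfl <;> omega

theorem rep_three_ok {r : ℕ} (hr : r ∈ repThree) : valid r = true ∧ permOf r ∈ M24 ∧ orderOf (permOf r) = 3 := by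
  obtain ⟨he, h6, h0, q6, q0⟩ := three_reps
  have hin : inM24 r = true := List.all_eq_true.mp three_checks.2.2.2.2.2.2.1 r hr
  have hv : valid r = true := List.all_eq_true.mp three_checks.2.2.2.2.2.1 r hr
  haveI : Fact (Nat.Prime 3) := ⟨Nat.prime_three⟩
  refine ⟨hv, permOf_mem_M24 hin, orderOf_eq_prime ?_ ?_⟩
  · rw [pow_succ', pow_two, ← permOf_comp hv hv, ← permOf_comp hv (valid_comp hv hv), ← permOf_idP]
    rw [he, List.mem_cons, List.mem_singleton] at hr
    rcases hr with rfl | rfl <;> simp only [q6, q0]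
  · intro e
    have hc := fix_card hv
    rw [Finset.filter_true_of_mem (fun p _ => by rw [e]; rfl), Finset.card_univ, card_golayPt] at hc
    rw [he, List.mem_cons, List.mem_singleton] at hr
    rcases hr with rfl | rfl <;> omega

/-- The two classes of involutions. -/
theorem two_classes {g : Equiv.Perm GolayPt} (hg : g ∈ M24) (h2 : orderOf g = 2) :
    ∃ k ∈ M24, ((Finset.univ.filter fun p => g p = p).card = 8 ∧ k * g * k⁻¹ = permOf (repTwo.getD 0 0)) ∨
      ((Finset.univ.filter fun p => g p = p).card = 0 ∧ k * g * k⁻¹ = permOf (repTwo.getD 1 0)) := by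
  obtain ⟨he, h8, -, h0, -⟩ := two_reps
  obtain ⟨k, hk, r, hr, e⟩ := exists_conj_two hg h2
  have hc := fix_card (rep_two_ok hr).1
  rw [← e, fix_card_conj] at hc
  refine ⟨k, hk, ?_⟩
  rw [he, List.mem_cons, List.mem_singleton] at hr
  rcases hr with rfl | rfl
  · exact Or.inl ⟨hc.trans h8, e⟩
  · exact Or.inr ⟨hc.trans h0, e⟩

/-- The two classes of elements of order three. -/
theorem three_classes {g : Equiv.Perm GolayPt} (hg : g ∈ M24) (h3 : orderOf g = 3) :
    ∃ k ∈ M24, ((Finset.univ.filter fun p => g p = p).card = 6 ∧ k * g * k⁻¹ = permOf (repThree.getD 0 0)) ∨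
      ((Finset.univ.filter fun p => g p = p).card = 0 ∧ k * g * k⁻¹ = permOf (repThree.getD 1 0)) := by
  obtain ⟨he, h6, h0, -⟩ := three_reps
  obtain ⟨k, hk, r, hr, e⟩ := exists_conj_three hg h3
  have hc := fix_card (rep_three_ok hr).1
  rw [← e, fix_card_conj] at hc
  refine ⟨k, hk, ?_⟩
  rw [he, List.mem_cons, List.mem_singleton] at hr
  rcases hr with rfl | rfl
  · exact Or.inl ⟨hc.trans h6, e⟩
  · exact Or.inr ⟨hc.trans h0, e⟩

theorem fix_zero_iff (g : Equiv.Perm GolayPt) :
    (Finset.univ.filter fun p => g p = p).card = 0 ↔ ∀ p, g p ≠ p := by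
  rw [Finset.card_eq_zero, Finset.filter_eq_empty_iff]
  exact ⟨fun h p => h (Finset.mem_univ p), fun h p _ => h p⟩

end Cfsg.Agent.Spor.Golay.Census
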