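import Cfsg.Agent.Lib.Spor.Golay.CensusParts

/-! Stabilisers of several configurations at once. -/

set_option autoImplicit false
set_option maxRecDepth 100000

namespace Cfsg.Agent.Spor.Golay.Census

open scoped Pointwise

/-- The order of the stabiliser of one more family. -/
theorem Stage.card_next {F : List (List ℕ)} {gens : List ℕ} {n : ℕ} (hS : Stage F gens n) {O : Orb}
    (hO : O.ok gens = true) {L : List ℕ} (h0 : O.obj 0 = L) {k m : ℕ} (hk : O.n = k) (hm : m * k = n) (hk0 : 0 < k) :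
    Nat.card (Fx (L :: F)) = m := by
  obtain ⟨h1, h2⟩ := hS.orbit hO
  rw [h0] at h1
  let e : MulAction.stabilizer (Fx F) (fam L) ≃ Fx (L :: F) :=
    { toFun := fun g => ⟨g.1.1, by
        obtain ⟨a, b⟩ := mem_Fx.mp g.1.2
        refine mem_Fx.mpr ⟨a, fun K hK => ?_⟩
        rcases List.mem_cons.mp hK with rfl | hK
        · exact g.2
        · exact b K hK⟩
      invFun := fun g => ⟨⟨g.1, mem_Fx.mpr ⟨(mem_Fx.mp g.2).1,
          fun K hK => (mem_Fx.mp g.2).2 K (List.mem_cons_of_mem _ hK)⟩⟩,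
        (mem_Fx.mp g.2).2 _ (List.mem_cons_self ..)⟩
      left_inv := fun g => rfl
      right_inv := fun g => rfl }
  have h := Nat.card_congr (MulAction.orbitProdStabilizerEquivGroup (Fx F) (fam L))
  rw [Nat.card_prod, Nat.card_congr e, h1, Nat.card_coe_set_eq, h2, hS.card_Fx, hk, ← hm, mul_comm m k] at h
  exact Nat.eq_of_mul_eq_mul_left hk0 h

theorem stabilizer_two (m k : ℕ) (g : M24) :
    g ∈ MulAction.stabilizer M24 (pts m, pts k) ↔ (g : Equiv.Perm GolayPt) ∈ Fx [[m], [k]] := by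
  simp only [MulAction.mem_stabilizer_iff, mem_Fx, List.forall_mem_cons, List.not_mem_nil, false_implies, implies_true, smul_fam_single,
    Prod.smul_mk, Prod.mk.injEq, and_true]
  exact ⟨fun h => ⟨g.2, h⟩, fun h => h.2⟩

theorem stabilizer_three (m k l : ℕ) (g : M24) :
    g ∈ MulAction.stabilizer M24 (pts m, pts k, pts l) ↔ (g : Equiv.Perm GolayPt) ∈ Fx [[m], [k], [l]] := by
  simp only [MulAction.mem_stabilizer_iff, mem_Fx, List.forall_mem_cons, List.not_mem_nil, false_implies, implies_true, smul_fam_single,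
    Prod.smul_mk, Prod.mk.injEq, and_true]
  exact ⟨fun h => ⟨g.2, h⟩, fun h => h.2⟩

theorem card_inf_smul {α : Type*} [MulAction (Equiv.Perm GolayPt) α] {x y : α} {F : List (List ℕ)}
    (hK : ∀ g : M24, g ∈ MulAction.stabilizer M24 (x, y) ↔ (g : Equiv.Perm GolayPt) ∈ Fx F) (a : M24) :
    Nat.card ↥(MulAction.stabilizer M24 (a • x) ⊓ MulAction.stabilizer M24 (a • y)) = Nat.card (Fx F) := by
  have e : MulAction.stabilizer M24 (a • x) ⊓ MulAction.stabilizer M24 (a • y) = MulAction.stabilizer M24 (a • (x, y)) := by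
    ext g; simp [MulAction.mem_stabilizer_iff, Subgroup.mem_inf, Prod.ext_iff]
  rw [e, MulAction.stabilizer_smul_eq_stabilizer_map_conj,
    ← Nat.card_congr (Subgroup.equivMapOfInjective _ _ (MulAut.conj a).injective).toEquiv, card_sub hK]

theorem smul_point_iff {g a : Equiv.Perm GolayPt} {i : ℕ} (hi : i < 24) :
    g • (a • pts (2 ^ i)) = a • pts (2 ^ i) ↔ g (a (pt i)) = a (pt i) := by
  rw [pts_two_pow hi, Finset.smul_finset_singleton, Finset.smul_finset_singleton, Finset.singleton_inj]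
  rfl

theorem exists_two {p q : GolayPt} (h : p ≠ q) : ∃ a ∈ M24, a (pt 0) = p ∧ a (pt 1) = q := by
  classical
  haveI := M24_pretransitive (n := 2) (by norm_num)
  let x : Fin 2 ↪ GolayPt := ⟨![pt 0, pt 1], by decide +kernel⟩
  let y : Fin 2 ↪ GolayPt := ⟨![p, q], by
    intro i j e
    fin_cases i <;> fin_cases j <;> simp_all [eq_comm]⟩
  obtain ⟨g, hg⟩ := MulAction.exists_smul_eq M24 x y
  exact ⟨g, g.2, congrArg (fun e : Fin 2 ↪ GolayPt => e 0) hg, congrArg (fun e : Fin 2 ↪ GolayPt => e 1) hg⟩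

/-- Whether the listed points lie in a universe of points. -/
noncomputable def pointsOk (U : Orb) (cond : ℕ → Bool) : Bool := allLt 24 fun j => !cond j || U.has [2 ^ j]

theorem exists_point {F : List (List ℕ)} {gens : List ℕ} {n : ℕ} (hS : Stage F gens n) {U : Orb}
    (hU : U.ok gens = true) {i : ℕ} (hi : i < 24) (h0 : U.obj 0 = [2 ^ i]) {cond : ℕ → Bool}
    (hc : pointsOk U cond = true) {q : GolayPt} (hq : cond (idx q) = true) : ∃ g ∈ Fx F, g (pt i) = q := by
  obtain ⟨h1, -⟩ := hS.orbit_set hU h0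
  have h2 := allLt_spec hc (idx q) (idx_lt q)
  rw [hq, Bool.not_true, Bool.false_or] at h2
  have hm : pts (2 ^ idx q) ∈ U.setSet := Orb.mem_setSet_of_has h2
  rw [← h1] at hm
  obtain ⟨⟨g, hg⟩, e⟩ := hm
  refine ⟨g, hg, ?_⟩
  have e' : g • pts (2 ^ i) = pts (2 ^ idx q) := e
  rw [pts_two_pow hi, pts_two_pow (idx_lt q), Finset.smul_finset_singleton, Finset.singleton_inj, pt_idx] at e'
  exact e'

/-- Refining a transporter so that it also moves one more set. -/
theorem exists_refine {F : List (List ℕ)} {gens : List ℕ} {n : ℕ} (hS : Stage F gens n) {O : Orb}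
    (hO : O.ok gens = true) {m : ℕ} (h0 : O.obj 0 = [m]) {a : Equiv.Perm GolayPt} (ha : a ∈ M24)
    {z : Finset GolayPt} (hz : a⁻¹ • z ∈ O.setSet) :
    ∃ g ∈ Fx F, a * g ∈ M24 ∧ (a * g) • pts m = z := by
  rw [← (hS.orbit_set hO h0).1] at hz
  obtain ⟨⟨g, hg⟩, e⟩ := hz
  refine ⟨g, hg, mul_mem ha (mem_Fx.mp hg).1, ?_⟩
  have e' : g • pts m = a⁻¹ • z := e
  rw [mul_smul, e', smul_inv_smul]

theorem fix_point {F : List (List ℕ)} {g : Equiv.Perm GolayPt} (hg : g ∈ Fx F) {i : ℕ} (hi : i < 24)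
    (h : [2 ^ i] ∈ F) : g (pt i) = pt i :=
  (smul_pts_point hi).mp ((smul_fam_single _).mp ((mem_Fx.mp hg).2 _ h))

end Cfsg.Agent.Spor.Golay.Census
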