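import Cfsg.Agent.Lib.Spor.Golay.CensusUse

/-! Small normal subgroups given by lists, and transport to the stabiliser of an image configuration. -/

set_option autoImplicit false
set_option maxRecDepth 100000

namespace Cfsg.Agent.Spor.Golay.Census

open scoped Pointwise

/-- Membership in a list, for the kernel. -/
noncomputable def memF (x : ℕ) (L : List ℕ) : Bool := List.rec false (fun a _ r => Nat.beq a x || r) L

theorem memF_spec {x : ℕ} : ∀ {L : List ℕ}, memF x L = true → x ∈ L
  | [], h => absurd (h : false = true) Bool.false_ne_true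
  | a :: L, h => by
    have h' : (Nat.beq a x || memF x L) = true := h
    rw [Bool.or_eq_true] at h'
    rcases h' with h' | h'
    · rw [Nat.eq_of_beq_eq_true h']; exact List.mem_cons_self ..
    · exact List.mem_cons_of_mem _ (memF_spec h')

/-- A list that is a group of exponent two containing the given generators. -/
noncomputable def elemOk (gens L : List ℕ) : Bool :=
  validAll L && validAll gens && memF idP L &&
    (gens.all fun s => memF s L) &&
    (L.all fun P => L.all fun Q => memF (comp P Q) L) && L.all fun P => Nat.beq (comp P P) idP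

theorem elemOk_mem {gens L : List ℕ} (h : elemOk gens L = true) {g : Equiv.Perm GolayPt} (hg : g ∈ grp gens) :
    (∃ P ∈ L, permOf P = g) ∧ g * g = 1 := by
  simp only [elemOk, validAll, Bool.and_eq_true, List.all_eq_true] at h
  obtain ⟨⟨⟨⟨⟨hv, hv'⟩, h1⟩, hs⟩, hc⟩, hsq⟩ := h
  have sq : ∀ P ∈ L, permOf P * permOf P = 1 := fun P hP => by
    rw [← permOf_comp (hv P hP) (hv P hP), Nat.eq_of_beq_eq_true (hsq P hP), permOf_idP]
  suffices ∃ P ∈ L, permOf P = g by
    obtain ⟨P, hP, rfl⟩ := this
    exact ⟨⟨P, hP, rfl⟩, sq P hP⟩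
  induction hg using Subgroup.closure_induction with
  | mem x hx =>
    obtain ⟨P, hP, rfl⟩ := hx
    exact ⟨P, memF_spec (hs P hP), rfl⟩
  | one => exact ⟨idP, memF_spec h1, permOf_idP⟩
  | mul x y _ _ hx hy =>
    obtain ⟨P, hP, rfl⟩ := hx
    obtain ⟨Q, hQ, rfl⟩ := hy
    exact ⟨comp P Q, memF_spec (hc P hP Q hQ), permOf_comp (hv P hP) (hv Q hQ)⟩
  | inv x _ hx =>
    obtain ⟨P, hP, rfl⟩ := hx
    exact ⟨P, hP, eq_inv_of_mul_eq_one_left (sq P hP)⟩

/-- A lower bound on the order makes the list the whole group. -/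
theorem elem_grp {gens L : List ℕ} (h : elemOk gens L = true) {T : ℕ} {prog : List (ℕ × ℕ)} {ls : List Level}
    (hs : sizeOk gens T prog ls = true) (hl : sizeProd ls = L.length) :
    Nat.card (grp gens) = L.length ∧ ∀ P ∈ L, permOf P ∈ grp gens := by
  classical
  have hv : validAll gens = true := by
    simp only [elemOk, Bool.and_eq_true] at h
    exact h.1.1.1.1.2
  have hlo := sizeOk_le hv hs
  have hsub : (grp gens : Set (Equiv.Perm GolayPt)) ⊆ ↑(L.map permOf).toFinset := fun g hg => by
    obtain ⟨P, hP, e⟩ := (elemOk_mem h hg).1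
    exact List.mem_toFinset.mpr (List.mem_map.mpr ⟨P, hP, e⟩)
  have hhi : (L.map permOf).toFinset.card ≤ L.length := (List.toFinset_card_le _).trans (by rw [List.length_map])
  have hle := Set.ncard_le_ncard hsub (Set.toFinite _)
  rw [Set.ncard_coe_finset] at hle
  have e : Nat.card (grp gens) = (grp gens : Set (Equiv.Perm GolayPt)).ncard := (Nat.card_coe_set_eq _).symm ▸ rfl
  have hcard : Nat.card (grp gens) = L.length := by omega
  refine ⟨hcard, fun P hP => ?_⟩
  have heq := Set.eq_of_subset_of_ncard_le hsub (by rw [Set.ncard_coe_finset]; omega) (Set.toFinite _)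
  exact heq.ge (List.mem_toFinset.mpr (List.mem_map_of_mem hP))

/-- The generators of the large group normalise the small one. -/
noncomputable def conjOk (gens small L : List ℕ) : Bool :=
  validAll L && validAll gens && validAll small &&
    gens.all fun s => small.all fun P => L.any fun Q => Nat.beq (comp s P) (comp Q s)

theorem conjOk_spec {gens small L : List ℕ} (h : conjOk gens small L = true)
    (hL : ∀ P ∈ L, permOf P ∈ grp small) : ∀ g ∈ grp gens, ∀ k ∈ grp small, g * k * g⁻¹ ∈ grp small := by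
  simp only [conjOk, validAll, Bool.and_eq_true, List.all_eq_true] at h
  obtain ⟨⟨⟨hvL, hvg⟩, hvs⟩, hall⟩ := h
  have hgen : ∀ s ∈ gens, (grp small).map (MulAut.conj (permOf s)).toMonoidHom ≤ grp small := by
    intro s hs
    rw [grp, MonoidHom.map_closure, Subgroup.closure_le]
    rintro _ ⟨_, ⟨P, hP, rfl⟩, rfl⟩
    have h2 := hall s hs P hP
    have key : ∃ Q ∈ L, comp s P = comp Q s := by
      obtain ⟨Q, hQ, e⟩ := List.any_eq_true.mp h2
      exact ⟨Q, hQ, Nat.eq_of_beq_eq_true e⟩
    obtain ⟨Q, hQ, e⟩ := key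
    have e' : permOf s * permOf P = permOf Q * permOf s := by
      rw [← permOf_comp (hvg s hs) (hvs P hP), e, permOf_comp (hvL Q hQ) (hvg s hs)]
    show permOf s * permOf P * (permOf s)⁻¹ ∈ grp small
    rw [e', mul_inv_cancel_right]
    exact hL Q hQ
  intro g hg
  induction hg using Subgroup.closure_induction with
  | mem x hx =>
    obtain ⟨s, hs, rfl⟩ := hx
    exact fun k hk => hgen s hs ⟨k, hk, rfl⟩
  | one => intro k hk; simpa using hk
  | mul x y _ _ hx hy =>
    intro k hk
    have := hx _ (hy k hk)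
    simpa [mul_assoc] using this
  | inv x _ hx =>
    intro k hk
    have heq : (grp small).map (MulAut.conj x).toMonoidHom = grp small :=
      Subgroup.eq_of_le_of_card_ge (by rintro _ ⟨m, hm, rfl⟩; exact hx m hm)
        (le_of_eq (Nat.card_congr (Subgroup.equivMapOfInjective _ _ (MulAut.conj x).injective).toEquiv))
    obtain ⟨m, hm, rfl⟩ := heq.ge hk
    simpa [mul_assoc] using hm

variable {α : Type*} [MulAction (Equiv.Perm GolayPt) α]

/-- The stabiliser of an image, moved to the standard configuration. -/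
noncomputable def stdEquiv {y : α} {F : List (List ℕ)}
    (hK : ∀ g : M24, g ∈ MulAction.stabilizer M24 y ↔ (g : Equiv.Perm GolayPt) ∈ Fx F) (a : M24) :
    ↥(MulAction.stabilizer M24 (a • y)) ≃* ↥(Fx F) where
  toFun g := ⟨(a : Equiv.Perm GolayPt)⁻¹ * (g.1 : Equiv.Perm GolayPt) * a, (hK (a⁻¹ * g.1 * a)).mp (by
    rw [MulAction.mem_stabilizer_iff, mul_smul, mul_smul, g.2, inv_smul_smul])⟩
  invFun k := ⟨a * ⟨k, (mem_Fx.mp k.2).1⟩ * a⁻¹, by
    rw [MulAction.mem_stabilizer_iff, mul_smul, mul_smul, inv_smul_smul,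
      MulAction.mem_stabilizer_iff.mp ((hK _).mpr k.2)]⟩
  left_inv g := by
    refine Subtype.ext (Subtype.ext ?_)
    simp [mul_assoc]
  right_inv k := by
    refine Subtype.ext ?_
    simp [mul_assoc]
  map_mul' g k := by
    refine Subtype.ext ?_
    simp [mul_assoc]

theorem stdEquiv_val {y : α} {F : List (List ℕ)}
    (hK : ∀ g : M24, g ∈ MulAction.stabilizer M24 y ↔ (g : Equiv.Perm GolayPt) ∈ Fx F) (a : M24)
    (g : ↥(MulAction.stabilizer M24 (a • y))) :
    (stdEquiv hK a g : Equiv.Perm GolayPt) = (a : Equiv.Perm GolayPt)⁻¹ * (g.1 : Equiv.Perm GolayPt) * a := rfl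

theorem stdEquiv_smul {β : Type*} [MulAction (Equiv.Perm GolayPt) β] {y : α} {F : List (List ℕ)}
    (hK : ∀ g : M24, g ∈ MulAction.stabilizer M24 y ↔ (g : Equiv.Perm GolayPt) ∈ Fx F) (a : M24)
    (g : ↥(MulAction.stabilizer M24 (a • y))) (x : β) :
    (stdEquiv hK a g : Equiv.Perm GolayPt) • x = x ↔ (g.1 : Equiv.Perm GolayPt) • (a • x) = a • x := by
  rw [stdEquiv_val, mul_smul, mul_smul, inv_smul_eq_iff]
  rfl

/-- A normal subgroup of exponent two of the standard group gives one in every conjugate. -/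
theorem exists_elem_normal {y : α} {F : List (List ℕ)} {gens : List ℕ} {n : ℕ} (hS : Stage F gens n)
    (hK : ∀ g : M24, g ∈ MulAction.stabilizer M24 y ↔ (g : Equiv.Perm GolayPt) ∈ Fx F) (a : M24)
    {small L : List ℕ} (h : elemOk small L = true) {T : ℕ} {prog : List (ℕ × ℕ)} {ls : List Level}
    (hs : sizeOk small T prog ls = true) (hl : sizeProd ls = L.length) (hf : fixOk F small = true)
    (hc : conjOk gens small L = true) :
    ∃ N : Subgroup ↥(MulAction.stabilizer M24 (a • y)), N.Normal ∧ Nat.card N = L.length ∧ ∀ x ∈ N, x * x = 1 := by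
  obtain ⟨h1, h2⟩ := elem_grp h hs hl
  have hle : grp small ≤ Fx F := (grp_le_Fx hf).2
  refine ⟨((grp small).subgroupOf (Fx F)).comap (stdEquiv hK a).toMonoidHom, ?_, ?_, fun x hx => ?_⟩
  · haveI : ((grp small).subgroupOf (Fx F)).Normal := ⟨fun k hk g => by
      rw [Subgroup.mem_subgroupOf] at hk ⊢
      exact conjOk_spec hc h2 _ (hS.2.1.le g.2) _ hk⟩
    exact Subgroup.Normal.comap inferInstance _
  · rw [Subgroup.comap_equiv_eq_map_symm']
    rw [← Nat.card_congr (Subgroup.equivMapOfInjective _ _ (stdEquiv hK a).symm.injective).toEquiv,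
      Nat.card_congr (Subgroup.subgroupOfEquivOfLe hle).toEquiv, h1]
  · have e := (elemOk_mem h (Subgroup.mem_subgroupOf.mp (Subgroup.mem_comap.mp hx))).2
    refine (stdEquiv hK a).injective (Subtype.ext ?_)
    rw [map_mul, map_one]
    exact e

/-- The action of the stabiliser of a finite family on its members. -/
noncomputable def membersHom (S : Finset (Finset GolayPt)) :
    ↥(MulAction.stabilizer M24 S) →* Equiv.Perm ↥S where
  toFun g := (MulAction.toPerm (g.1 : Equiv.Perm GolayPt) : Equiv.Perm (Finset GolayPt)).subtypePerm fun x => by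
    have hg : (g.1 : Equiv.Perm GolayPt) • S = S := g.2
    show (g.1 : Equiv.Perm GolayPt) • x ∈ S ↔ x ∈ S
    obtain ⟨k, hk⟩ : ∃ k, k = (g.1 : Equiv.Perm GolayPt) := ⟨_, rfl⟩
    rw [← hk] at hg ⊢
    conv_lhs => rw [← hg]
    exact Finset.smul_mem_smul_finset_iff _
  map_one' := by ext x; simp
  map_mul' g k := by
    refine Equiv.ext fun x => Subtype.ext ?_
    exact mul_smul (g.1 : Equiv.Perm GolayPt) (k.1 : Equiv.Perm GolayPt) x.1

theorem mem_ker_membersHom {S : Finset (Finset GolayPt)} (g : ↥(MulAction.stabilizer M24 S)) :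
    g ∈ (membersHom S).ker ↔ ∀ t ∈ S, (g.1 : Equiv.Perm GolayPt) • t = t :=
  ⟨fun h t ht => congrArg Subtype.val (Equiv.congr_fun h ⟨t, ht⟩),
    fun h => Equiv.ext fun x => Subtype.ext (h x.1 x.2)⟩

/-- The kernel on members, from the standard configuration. -/
theorem card_members_fixed {X : List ℕ} {F : List (List ℕ)} (a : M24)
    (h : ∀ k ∈ Fx [X], k ∈ Fx F ↔ ∀ m ∈ X, k • pts m = pts m) (hle : Fx F ≤ Fx [X]) :
    Nat.card {g : ↥(MulAction.stabilizer M24 (a • fam X)) // ∀ t ∈ a • fam X, ((g : M24) : Equiv.Perm GolayPt) • t = t} =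
      Nat.card (Fx F) := by
  refine (Nat.card_congr ((stdEquiv (stabilizer_fam X) a).toEquiv.subtypeEquiv
    (q := fun k : ↥(Fx [X]) => k ∈ (Fx F).subgroupOf (Fx [X])) fun g => ?_)).trans
    (Nat.card_congr (Subgroup.subgroupOfEquivOfLe hle).toEquiv)
  show _ ↔ (stdEquiv (stabilizer_fam X) a g : Equiv.Perm GolayPt) ∈ Fx F
  rw [h _ (stdEquiv (stabilizer_fam X) a g).2]
  constructor
  · intro hg m hm
    exact (stdEquiv_smul _ a g _).mpr (hg _ (Finset.smul_mem_smul_finset (List.mem_toFinset.mpr (List.mem_map_of_mem hm))))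
  · intro hk t ht
    obtain ⟨u, hu, rfl⟩ := Finset.mem_smul_finset.mp ht
    obtain ⟨m, hm, rfl⟩ := List.mem_map.mp (List.mem_toFinset.mp hu)
    exact (stdEquiv_smul _ a g _).mp (hk m hm)

theorem membersHom_surjective {S : Finset (Finset GolayPt)} {n k f : ℕ}
    (hn : Nat.card ↥(MulAction.stabilizer M24 S) = n)
    (hk : Nat.card {g : ↥(MulAction.stabilizer M24 S) // ∀ t ∈ S, ((g : M24) : Equiv.Perm GolayPt) • t = t} = k)
    (hf : S.card.factorial = f) (h : f * k = n) (hk0 : 0 < k) : Function.Surjective (membersHom S) := by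
  have h1 := (membersHom S).ker.card_mul_index
  rw [Subgroup.index_ker, hn, Nat.card_congr (Equiv.subtypeEquivRight fun g => mem_ker_membersHom g), hk] at h1
  refine MonoidHom.range_eq_top.mp (Subgroup.eq_top_of_card_eq _ ?_)
  rw [Nat.card_perm, Nat.card_eq_fintype_card (α := ↥S), Fintype.card_coe, hf]
  refine Nat.eq_of_mul_eq_mul_left hk0 ?_
  rw [h1, mul_comm, h]

end Cfsg.Agent.Spor.Golay.Census
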