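import Cfsg.Agent.Lib.Spor.Golay.CensusSimpleCrit
import Cfsg.Agent.Lib.Spor.Golay.CensusPtThree
import Cfsg.Agent.Lib.Spor.Golay.CensusPairGen
import Cfsg.Agent.Lib.Spor.Golay.CensusDodPt3
import Cfsg.Agent.Lib.Spor.Golay.CensusClasses
import Cfsg.Agent.Lib.Spor.Golay.CensusNested

/-! Simplicity of the five point and dodecad stabilisers. -/

set_option autoImplicit false
set_option maxRecDepth 100000

namespace Cfsg.Agent.Spor.Golay.Census

open scoped Pointwise

/-- A power. -/
def powP (P : ℕ) : ℕ → ℕ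
  | 0 => idP
  | n + 1 => comp P (powP P n)

theorem powP_spec {P : ℕ} (hP : valid P = true) : ∀ n, valid (powP P n) = true ∧ permOf (powP P n) = permOf P ^ n
  | 0 => ⟨valid_idP, by rw [powP, permOf_idP, pow_zero]⟩
  | n + 1 => by
    obtain ⟨h1, h2⟩ := powP_spec hP n
    exact ⟨valid_comp hP h1, by rw [powP, permOf_comp hP h1, h2, pow_succ']⟩

/-- The listed elements are nontrivial of period `p`. -/
def periodOk (L : List ℕ) (p : ℕ) : Bool :=
  L.all fun P => Nat.beq (powP P p) idP && !Nat.beq (comp P idP) idP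

theorem orderOf_of_period {L : List ℕ} {p : ℕ} [Fact p.Prime] (hv : validAll L = true) (h : periodOk L p = true)
    {P : ℕ} (hP : P ∈ L) : orderOf (permOf P) = p := by
  have hvP : valid P = true := List.all_eq_true.mp hv P hP
  have h1 := List.all_eq_true.mp h P hP
  simp only [Bool.and_eq_true, Bool.not_eq_true'] at h1
  refine orderOf_eq_prime ?_ fun e => ?_
  · rw [← (powP_spec hvP p).2, Nat.eq_of_beq_eq_true h1.1, permOf_idP]
  · have h2 := comp_eq_idP hvP valid_idP (by rw [e, permOf_idP, one_mul])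
    simp [h2] at h1

/-- The points satisfying a condition on positions. -/
abbrev SubPts (cond : ℕ → Bool) : Type := {x : GolayPt // cond (idx x) = true}

/-- The action on the points satisfying an invariant condition. -/
@[reducible] def subAction {F : List (List ℕ)} {cond : ℕ → Bool}
    (hinv : ∀ g ∈ Fx F, ∀ x : GolayPt, cond (idx x) = true → cond (idx (g x)) = true) :
    MulAction ↥(Fx F) (SubPts cond) where
  smul g x := ⟨(g : Equiv.Perm GolayPt) x.1, hinv _ g.2 _ x.2⟩
  one_smul x := Subtype.ext rfl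
  mul_smul g h x := Subtype.ext rfl

theorem card_subPts (cond : ℕ → Bool) {d : ℕ} (hd : ((List.range 24).filter cond).length = d) :
    Nat.card (SubPts cond) = d := by
  let e : SubPts cond ≃ {k : ℕ // k ∈ ((List.range 24).filter cond).toFinset} :=
    { toFun := fun x => ⟨idx x.1, List.mem_toFinset.mpr (List.mem_filter.mpr ⟨List.mem_range.mpr (idx_lt _), x.2⟩)⟩
      invFun := fun k => ⟨pt k.1, by
        obtain ⟨h1, h2⟩ := List.mem_filter.mp (List.mem_toFinset.mp k.2)
        rw [idx_pt (List.mem_range.mp h1)]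
        exact h2⟩
      left_inv := fun x => Subtype.ext (pt_idx _)
      right_inv := fun k => Subtype.ext (idx_pt (List.mem_range.mp (List.mem_filter.mp (List.mem_toFinset.mp k.2)).1)) }
  rw [Nat.card_congr e, Nat.card_eq_finsetCard, List.toFinset_card_of_nodup (List.nodup_range.filter _), hd]

theorem simple_stage {F : List (List ℕ)} {gens : List ℕ} {n : ℕ} (hS : Stage F gens n) (cond : ℕ → Bool) {d p : ℕ}
    (hp : p.Prime)
    (hinv : ∀ g ∈ Fx F, ∀ x : GolayPt, cond (idx x) = true → cond (idx (g x)) = true)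
    {i j : ℕ} (hi : i < 24) (hj : j < 24) {U U' : Orb} {gens' : List ℕ} {n' : ℕ}
    (hU : U.ok gens = true) (hU0 : U.obj 0 = [2 ^ i]) (hUc : pointsOk U cond = true)
    (hS' : Stage ([2 ^ i] :: F) gens' n') (hU' : U'.ok gens' = true) (hU'0 : U'.obj 0 = [2 ^ j])
    (hU'c : pointsOk U' (fun k => cond k && !Nat.beq k i) = true) (hci : cond i = true) (hcj : cond j = true)
    (hij : i ≠ j)
    (hbs : trivOk [] ((List.range 24).filter cond) = true)
    (hd : ((List.range 24).filter cond).length = d) (hpd : p ∣ n) (hp2 : ¬ p ^ 2 ∣ n)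
    {els : List ℕ} {T : ℕ} {prog : List (ℕ × ℕ)} {ls : List Level} (hels : fixOk F els = true)
    (hper : periodOk els p = true) (hsize : sizeOk els T prog ls = true) (hfull : sizeProd ls = n)
    (hcase : p ∣ d ∨ (d = p + 1 ∧ ∃ q : ℕ, q.Prime ∧ q ∣ d ∧ ∀ k, d ≠ q ^ k)) :
    IsSimpleGroup ↥(Fx F) := by
  classical
  haveI : Fact p.Prime := ⟨hp⟩
  letI := subAction hinv
  have hcard : Nat.card ↥(Fx F) = n := hS.card_Fx
  obtain ⟨hv, hle⟩ := grp_le_Fx hels
  have heq : grp els = Fx F :=
    Subgroup.eq_of_le_of_card_ge hle ((hcard.trans hfull.symm).le.trans (sizeOk_le hv hsize))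
  haveI : FaithfulSMul ↥(Fx F) (SubPts cond) := ⟨fun {g h} e => by
    have h1 : (h⁻¹ * g : ↥(Fx F)) = 1 := Subtype.ext (eq_one_of_small (mem_Fx.mp (h⁻¹ * g).2).1 hbs fun b hb => by
      rw [List.mem_filter, List.mem_range] at hb
      have e' : (h⁻¹ * g) • (⟨pt b, by rw [idx_pt hb.1]; exact hb.2⟩ : SubPts cond) = ⟨pt b, by rw [idx_pt hb.1]; exact hb.2⟩ := by
        rw [mul_smul, e, inv_smul_smul]
      exact congrArg Subtype.val e')
    exact (inv_mul_eq_one.mp h1).symm⟩
  have h2 : ∀ a b x y : SubPts cond, a ≠ b → x ≠ y → ∃ g : ↥(Fx F), g • a = x ∧ g • b = y := by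
    let base0 : SubPts cond := ⟨pt i, by rw [idx_pt hi]; exact hci⟩
    let base1 : SubPts cond := ⟨pt j, by rw [idx_pt hj]; exact hcj⟩
    have move : ∀ x y : SubPts cond, x ≠ y → ∃ g : ↥(Fx F), g • base0 = x ∧ g • base1 = y := by
      intro x y hxy
      obtain ⟨g, hg, e⟩ := exists_point hS hU hi hU0 hUc x.2
      set y' : SubPts cond := (⟨g, hg⟩ : ↥(Fx F))⁻¹ • y with hy'
      have hne : idx y'.1 ≠ i := by
        intro h
        refine hxy (Subtype.ext ?_)
        have h3 : y' = base0 := Subtype.ext (idx_injective (h.trans (idx_pt hi).symm))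
        rw [hy', inv_smul_eq_iff] at h3
        rw [← e, h3]
        rfl
      obtain ⟨h, hh, e'⟩ := exists_point hS' hU' hj hU'0 hU'c (q := y'.1) (by
        rw [y'.2, Bool.true_and, Bool.not_eq_true', ← Bool.not_eq_true]
        exact fun h => hne (Nat.eq_of_beq_eq_true h))
      have hhF : h ∈ Fx F := mem_Fx.mpr ⟨(mem_Fx.mp hh).1, fun L hL => (mem_Fx.mp hh).2 L (List.mem_cons_of_mem _ hL)⟩
      have hfix : h (pt i) = pt i := fix_point hh hi (List.mem_cons_self ..)
      refine ⟨⟨g, hg⟩ * ⟨h, hhF⟩, Subtype.ext ?_, Subtype.ext ?_⟩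
      · show g (h (pt i)) = x.1
        rw [hfix, e]
      · show g (h (pt j)) = y.1
        rw [e']
        exact congrArg Subtype.val (smul_inv_smul (⟨g, hg⟩ : ↥(Fx F)) y)
    intro a b x y hab hxy
    obtain ⟨g, e1, e2⟩ := move a b hab
    obtain ⟨h, e3, e4⟩ := move x y hxy
    exact ⟨h * g⁻¹, by rw [mul_smul, ← e1, inv_smul_smul, e3], by rw [mul_smul, ← e2, inv_smul_smul, e4]⟩
  have hcΩ : Nat.card (SubPts cond) = d := card_subPts cond hd
  refine SimpleCrit.isSimpleGroup_of h2 hcΩ (hcard ▸ hpd) (hcard ▸ hp2)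
    {g : ↥(Fx F) | ∃ P ∈ els, permOf P = (g : Equiv.Perm GolayPt)} ?_ ?_ hcase
  · rintro g ⟨P, hP, e⟩
    rw [← Subgroup.orderOf_coe, ← e]
    exact orderOf_of_period hv hper hP
  · refine Subgroup.map_injective (Fx F).subtype_injective ?_
    rw [MonoidHom.map_closure, ← MonoidHom.range_eq_map, Subgroup.range_subtype]
    refine (congrArg Subgroup.closure (Set.ext fun g => ⟨?_, ?_⟩)).trans heq
    · rintro ⟨k, ⟨P, hP, e⟩, ek⟩
      exact ⟨P, hP, e.trans ek⟩
    · rintro ⟨P, hP, e⟩
      exact ⟨⟨g, e ▸ hle (mem_grp hP)⟩, ⟨P, hP, e⟩, rfl⟩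

theorem inv_pts {m : ℕ} {g : Equiv.Perm GolayPt} (h : g • pts m = pts m) (x : GolayPt) :
    m.testBit (idx (g x)) = m.testBit (idx x) := by
  refine Bool.eq_iff_iff.mpr ?_
  rw [← mem_pts, ← mem_pts]
  conv_lhs => rw [← h, ← Equiv.Perm.smul_def, Finset.smul_mem_smul_finset_iff]

theorem ne_pos {g : Equiv.Perm GolayPt} {i : ℕ} (hi : i < 24) (h : g (pt i) = pt i) {x : GolayPt}
    (hx : idx x ≠ i) : idx (g x) ≠ i := fun e => by
  have h1 : g x = g (pt i) := by rw [h]; exact idx_injective (by rw [idx_pt hi, e])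
  exact hx (by rw [g.injective h1, idx_pt hi])

theorem not_pow {d q : ℕ} (h : ∀ k ≤ d, d ≠ q ^ k) (hq : 2 ≤ q) : ∀ k, d ≠ q ^ k := fun k e => by
  refine h k ?_ e
  rw [e]
  exact (Nat.lt_pow_self hq).le

theorem simple_M24 : IsSimpleGroup ↥(Fx []) := by
  refine simple_stage stage0 (fun _ => true) (d := 24) (p := 23) (by norm_num) (fun _ _ _ _ => rfl) (i := 0) (j := 1)
    (by norm_num) (by norm_num) ptU_ok ptU_zero.1 (by decide +kernel) stagePt pt2U_ok pt2U_zero.1 (by decide +kernel)
    rfl rfl (by norm_num) (by decide +kernel) (by decide +kernel) (by norm_num) (by norm_num) (els := genTopG)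
    (T := genTopT) (prog := genTopP) (ls := genTopL) (by decide +kernel) (by decide +kernel) (by decide +kernel)
    (by decide +kernel) (Or.inr ⟨rfl, 2, Nat.prime_two, by norm_num, not_pow (by decide +kernel) le_rfl⟩)

theorem simple_M23 : IsSimpleGroup ↥(Fx [[1]]) := by
  refine simple_stage stagePt (fun k => !Nat.beq k 0) (d := 23) (p := 23) (by norm_num) ?_ (i := 1) (j := 2)
    (by norm_num) (by norm_num) pt2U_ok pt2U_zero.1 (by decide +kernel) stagePt2 pt3U_ok pt3U_zero.1 (by decide +kernel)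
    rfl rfl (by norm_num) (by decide +kernel) (by decide +kernel) (by norm_num) (by norm_num) (els := genPtG)
    (T := genPtT) (prog := genPtP) (ls := genPtL) (by decide +kernel) (by decide +kernel) (by decide +kernel)
    (by decide +kernel) (Or.inl dvd_rfl)
  intro g hg x hx
  simp only [Bool.not_eq_true', ← Bool.not_eq_true, Nat.beq_eq] at hx ⊢
  exact ne_pos (by norm_num) (fix_point hg (i := 0) (by norm_num) (by simp)) hx

theorem simple_M22 : IsSimpleGroup ↥(Fx [[2], [1]]) := by
  refine simple_stage stagePt2 (fun k => !Nat.beq k 0 && !Nat.beq k 1) (d := 22) (p := 11) (by norm_num) ?_ (i := 2)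
    (j := 3) (by norm_num) (by norm_num) pt3U_ok pt3U_zero.1 (by decide +kernel) stagePt3 pt4U_ok pt4U_zero.1
    (by decide +kernel) rfl rfl (by norm_num) (by decide +kernel) (by decide +kernel) (by norm_num) (by norm_num)
    (els := genPt2G) (T := genPt2T) (prog := genPt2P) (ls := genPt2L) (by decide +kernel) (by decide +kernel)
    (by decide +kernel) (by decide +kernel) (Or.inl (by norm_num))
  intro g hg x hx
  simp only [Bool.and_eq_true, Bool.not_eq_true', ← Bool.not_eq_true, Nat.beq_eq] at hx ⊢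
  exact ⟨ne_pos (by norm_num) (fix_point hg (i := 0) (by norm_num) (by simp)) hx.1,
    ne_pos (by norm_num) (fix_point hg (i := 1) (by norm_num) (by simp)) hx.2⟩

theorem simple_M12 : IsSimpleGroup ↥(Fx [[499903]]) := by
  refine simple_stage stageDod (fun k => Nat.testBit 499903 k) (d := 12) (p := 11) (by norm_num) ?_ (i := 0) (j := 1)
    (by norm_num) (by norm_num) dodPtU_ok dodPtU_zero.1 (by decide +kernel) stageDodPt dodPt2U_ok dodPt2U_zero.1
    (by decide +kernel) (by decide +kernel) (by decide +kernel) (by norm_num) (by decide +kernel) (by decide +kernel)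
    (by norm_num) (by norm_num) (els := genDodG) (T := genDodT) (prog := genDodP) (ls := genDodL) (by decide +kernel)
    (by decide +kernel) (by decide +kernel) (by decide +kernel)
    (Or.inr ⟨rfl, 2, Nat.prime_two, by norm_num, not_pow (by decide +kernel) le_rfl⟩)
  intro g hg x hx
  rwa [inv_pts ((smul_fam_single _).mp ((mem_Fx.mp hg).2 [499903] (by simp))) x]

theorem simple_M11 : IsSimpleGroup ↥(Fx [[1], [499903]]) := by
  refine simple_stage stageDodPt (fun k => Nat.testBit 499903 k && !Nat.beq k 0) (d := 11) (p := 11) (by norm_num) ?_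
    (i := 1) (j := 2) (by norm_num) (by norm_num) dodPt2U_ok dodPt2U_zero.1 (by decide +kernel) stageDodPt2 dodPt3U_ok
    dodPt3U_zero.1 (by decide +kernel) (by decide +kernel) (by decide +kernel) (by norm_num) (by decide +kernel)
    (by decide +kernel) (by norm_num) (by norm_num) (els := genDodPtG) (T := genDodPtT) (prog := genDodPtP)
    (ls := genDodPtL) (by decide +kernel) (by decide +kernel) (by decide +kernel) (by decide +kernel) (Or.inl dvd_rfl)
  intro g hg x hx
  simp only [Bool.and_eq_true, Bool.not_eq_true', ← Bool.not_eq_true, Nat.beq_eq] at hx ⊢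
  exact ⟨by rw [inv_pts ((smul_fam_single _).mp ((mem_Fx.mp hg).2 [499903] (by simp))) x]; exact hx.1,
    ne_pos (by norm_num) (fix_point hg (i := 0) (by norm_num) (by simp)) hx.2⟩

end Cfsg.Agent.Spor.Golay.Census
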