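import Cfsg.Agent.Lib.Spor.Golay.Psl23Max

/-! Subgroups of index 253 in the point stabiliser of the group of the length-24 code. -/

set_option autoImplicit false
set_option maxRecDepth 100000
set_option maxHeartbeats 1000000

namespace Cfsg.Agent.Spor.Golay.M23Idx

open scoped Pointwise
open Census Psl23Max

/-- Generators of a group of order 64 with orbits of lengths 1, 2, 4, 16. -/
def pSel : List ℕ := [0xbd8eb3506d646095490f9d5c428440, 0xb9e086be3593a6952d94b10a618820, 0xbc92655a2c3b9706cea47d0a818820]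

/-- Its elements. -/
def pRest : List ℕ := [0xbd8eb3506d646095490f9d5c428440, 0xb9e086be3593a6952d94b10a618820, 0xbc92655a2c3b9706cea47d0a818820, 0xbda6aaacb048da8951ec31e2470820, 0xb9eca220734c6ac5be926c1c628440, 0xbc9eda186b845959d887525c828440, 0xbcdaf83067a44c89292bb11d528440, 0xbbd8459e29b39559b606920b418820, 0xbd115958699c54d818e462dcf28440, 0xbd8d23a9cd4160fa2d89acc6488440, 0xb9dab828b560e747a24925a2670820, 0xbc9534b4aca8d64b18f0a3e2870820, 0xbced223ca640ce9531748363570820, 0xbbe534106aac53069cd65b1d428440, 0xbd1905d4aa68d27358939222f70820, 0xb9a0c6a4b358eafa490ab122770820, 0xbb672aa476444947ad8a399d028440, 0xba9676406f34684b4ead921c928440, 0xbb12454c68b4647341b5a3dcb28440, 0xbade7a58a830e506d6644aa2c70820, 0xba29079c6c6c573a92c64a9d228440, 0xb9889b48755466b651e8835c728440, 0xb9c8fb2dd3a16b24292c8346688440, 0xbca967cdcb21587336154a86888440, 0xbce0a6c9c7494cb63e882587588440, 0xbbd6d64ca980d46392d544a3470820, 0xbd246441c939544b566d5b06f88440, 0xb9ad4231d5796689254b6c06788440,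 0xbb4ef348a4a0ecc5a548ace3070820, 0xbaa5641cb420df59c1a662e2970820, 0xbb286790b238d0d84eb65262b70820, 0xbad2d51dd281513ad886a3c6c88440, 0xba135540ab98d9621ccd7d23270820, 0xbd5a9821c6514ec5d1f2b107388440, 0xb92a99b0ad50e1243e8b39a3670820, 0xbc0d43a0b678c8b629329d62d70820, 0xbad564d472245063b6137d1cc28440, 0xba504918afb0e93ab6075b22a70820, 0xba5865b4743c5f625670449ca28440, 0xbc2a89a864946cfa316931dcd28440, 0xba9935d9cfa968d81cc44486988440, 0xb90cc3bc705c5aa4a254acdd628440, 0xbd488b50a790cca4ad8f6c23370820, 0xbcc8cb2a265b8f47c9096c0b518820, 0xbbd07935ca3153624eb062c7488440, 0xbd17661a2a23933ac1a7448af18820, 0xb99b28523343aaa4b16f258a718820, 0xbb6ab9bdd66148a4c91431c7088440, 0xbb150499c869655992c77d06b88440, 0xbae957b6289ba44b1cd0524ac18820, 0xba1e4a55ccb15663c1b35247288440, 0xbd6cb22627638cfa224a834b318820, 0xb90e8325d0915b47b16a9d47688440, 0xbc26cad1c4596c95224f3986d88440, 0xba575611d4995f0698f69206a88440, 0xba91094e346b9e63d8955b0a918820, 0xbd6146ac667c4f24254c259d328440,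 0xbb4c93ae2453ac893e8c9d4b018820, 0xbb1f3a4232ab916218ed4a8ab18820, 0xba1474922b3398d85676a3cb218820, 0xb926faa22da3a0b6255231cb618820, 0xbc0ea332364b892451ebaccad18820, 0xba64d4562f83a87312d362caa18820]

/-- With the identity. -/
def pAll : List ℕ := idP :: pRest

/-- Its orbits of length at least two, as masks. -/
def orb2 : ℕ := 6
/-- The orbit of length four. -/
def orb4 : ℕ := 147496
/-- The orbit of length sixteen. -/
def orb16 : ℕ := 8241104

/-- Each entry is a generator times an earlier one. -/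
def reach : List ℕ → List ℕ → Bool
  | _, [] => true
  | acc, y :: rest => (pSel.any fun s => acc.any fun z => Nat.beq y (comp s z)) && reach (y :: acc) rest

theorem p_checks : validAll pSel = true ∧ validAll pAll = true ∧ (pSel.all inM24) = true ∧
    (pSel.all fun P => Nat.beq (get P 23) 23) = true ∧ (pAll.any fun P => Nat.beq P idP) = true := by
  decide +kernel

theorem p_reach : reach [idP] pRest = true := by decide +kernel

theorem p_closed : (pSel.all fun s => pAll.all fun x => pAll.any fun y => Nat.beq y (comp s x)) = true := by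
  decide +kernel

theorem p_pow : (pAll.all fun x => Nat.beq (comp (comp (comp x x) (comp x x)) (comp (comp x x) (comp x x))) idP) = true := by
  decide +kernel

theorem p_orbits : ([orb2, orb4, orb16].all fun m => (List.range 24).all fun i => !m.testBit i ||
    (List.range 24).all fun j => !m.testBit j || pAll.any fun x => Nat.beq (get x i) j) = true := by
  decide +kernel

theorem orb_sets : (pts 1 : Finset GolayPt) = {pt 0} ∧ pts (2 ^ 23) = {(none : GolayPt)} ∧
    pts orb2 ∪ pts orb4 ∪ pts orb16 ∪ {pt 0} ∪ {none} = (Finset.univ : Finset GolayPt) ∧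
    (pts orb2).card = 2 ∧ (pts orb4).card = 4 ∧ (pts orb16).card = 16 ∧
    pts orb2 ∪ pts orb4 ∪ {pt 0} ∪ {none} = pts octFour ∧
    Disjoint (pts orb2) (pts orb4) ∧ Disjoint (pts orb2) (pts orb16) ∧ Disjoint (pts orb4) (pts orb16) ∧
    pt 0 ∉ pts orb2 ∧ pt 0 ∉ pts orb4 ∧ pt 0 ∉ pts orb16 ∧ (none : GolayPt) ∉ pts orb2 ∧
    (none : GolayPt) ∉ pts orb4 ∧ (none : GolayPt) ∉ pts orb16 := by
  decide +kernel

theorem mask_facts : (pts 0 : Finset GolayPt) = ∅ ∧ (pts (1 ||| orb2)).card = 3 ∧ none ∉ pts (1 ||| orb2) ∧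
    (pts (1 ||| orb4)).card = 5 ∧ (pts (1 ||| orb2 ||| orb4)).card = 7 ∧
    pts (1 ||| orb4) ⊆ pts octFour ∧ pts (1 ||| orb2 ||| orb4) ⊆ pts octFour ∧
    (pts (1 ||| orb16)).card = 17 ∧ (pts (1 ||| orb2 ||| orb16)).card = 19 ∧
    (insert none (pts (1 ||| orb4 ||| orb16)))ᶜ = pts orb2 ∧
    (pts (1 ||| orb2 ||| orb4 ||| orb16)).card = 23 ∧
    (pts (orb2 ||| orb4)).card = 6 ∧ pts (orb2 ||| orb4) ⊆ pts octFour ∧
    insert none (insert none (pts (1 ||| (orb2 ||| orb16))))ᶜ ⊆ pts octFour ∧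
    (insert none (insert none (pts (1 ||| (orb2 ||| orb16))))ᶜ).card = 5 ∧
    (pts (orb2 ||| orb4 ||| orb16)).card = 22 := by
  decide +kernel

theorem octFour_oct : octFour ∈ octList ∧ (octList.filter fun m => m.testBit 23).length = 253 ∧
    (octList.filter fun m => m.testBit 23).Nodup ∧ (octList.all fun m => decide (m < 16777216)) = true := by
  decide +kernel

/-- The group of order 64. -/
noncomputable def pGrp : Subgroup (Equiv.Perm GolayPt) := grp pSel

theorem exists_pAll {g : Equiv.Perm GolayPt} (hg : g ∈ pGrp) : ∃ x ∈ pAll, permOf x = g := by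
  refine closure_sub_of_left (S := {g | ∃ P ∈ pSel, permOf P = g}) (X := {g | ∃ x ∈ pAll, permOf x = g}) ?_ ?_ hg
  · obtain ⟨x, hx, e⟩ := List.any_eq_true.mp p_checks.2.2.2.2
    exact ⟨x, hx, by rw [Nat.eq_of_beq_eq_true e, permOf_idP]⟩
  · rintro _ ⟨s, hs, rfl⟩ _ ⟨x, hx, rfl⟩
    have h := p_closed
    simp only [List.all_eq_true, List.any_eq_true] at h
    obtain ⟨y, hy, e⟩ := h s hs x hx
    refine ⟨y, hy, ?_⟩
    rw [Nat.eq_of_beq_eq_true e, permOf_comp (List.all_eq_true.mp p_checks.1 s hs)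
      (List.all_eq_true.mp p_checks.2.1 x hx)]

theorem reach_sound : ∀ (rest acc : List ℕ),
    (∀ x ∈ acc, valid x = true ∧ permOf x ∈ pGrp) → reach acc rest = true →
      ∀ x ∈ rest, valid x = true ∧ permOf x ∈ pGrp
  | [], _, _, _ => by simp
  | y :: rest, acc, hacc, h => by
    simp only [reach, Bool.and_eq_true, List.any_eq_true] at h
    obtain ⟨⟨s, hs, z, hz, e⟩, hr⟩ := h
    have hy : valid y = true ∧ permOf y ∈ pGrp := by
      obtain ⟨hzv, hzm⟩ := hacc z hz
      have hsv := List.all_eq_true.mp p_checks.1 s hs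
      rw [Nat.eq_of_beq_eq_true e, permOf_comp hsv hzv]
      exact ⟨valid_comp hsv hzv, mul_mem (mem_grp hs) hzm⟩
    intro x hx
    rcases List.mem_cons.mp hx with rfl | hx
    · exact hy
    · exact reach_sound rest (y :: acc) (fun w hw => (List.mem_cons.mp hw).elim (fun e => e ▸ hy) (hacc w)) hr x hx

theorem pAll_mem (x : ℕ) (hx : x ∈ pAll) : permOf x ∈ pGrp := by
  have h0 : valid idP = true ∧ permOf idP ∈ pGrp := ⟨valid_idP, by rw [permOf_idP]; exact one_mem _⟩
  rcases List.mem_cons.mp hx with rfl | hx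
  · exact h0.2
  · exact (reach_sound pRest [idP] (fun w hw => by rw [List.mem_singleton.mp hw]; exact h0) p_reach x hx).2

theorem pGrp_le : pGrp ≤ Spor.M23 := by
  rw [pGrp, grp, Subgroup.closure_le]
  rintro _ ⟨s, hs, rfl⟩
  obtain ⟨hv, -, hM, hf, -⟩ := p_checks
  exact mem_M23.mpr ⟨permOf_mem_M24 (List.all_eq_true.mp hM s hs),
    fix_none (List.all_eq_true.mp hv s hs) (Nat.eq_of_beq_eq_true (List.all_eq_true.mp hf s hs))⟩

theorem pGrp_isPGroup : IsPGroup 2 pGrp := by
  rintro ⟨g, hg⟩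
  obtain ⟨x, hx, rfl⟩ := exists_pAll hg
  refine ⟨3, Subtype.ext ?_⟩
  have hv := List.all_eq_true.mp p_checks.2.1 x hx
  have h2 := valid_comp hv hv
  have h4 := valid_comp h2 h2
  have e := Nat.eq_of_beq_eq_true (List.all_eq_true.mp p_pow x hx)
  show permOf x ^ 2 ^ 3 = 1
  rw [show (2 : ℕ) ^ 3 = 1 + 1 + (1 + 1) + (1 + 1 + (1 + 1)) by norm_num]
  simp only [pow_add, pow_one]
  rw [← permOf_comp hv hv, ← permOf_comp h2 h2, ← permOf_comp h4 h4, e, permOf_idP]

theorem card_M23 : Nat.card Spor.M23 = 10200960 := by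
  rw [← card_stabilizer_point (none : GolayPt)]
  refine Nat.card_congr
    ⟨fun g => ⟨⟨g.1, (mem_M23.mp g.2).1⟩, (mem_M23.mp g.2).2⟩,
     fun g => ⟨g.1.1, mem_M23.mpr ⟨g.1.2, g.2⟩⟩, fun g => rfl, fun g => rfl⟩

theorem exists_conj_sub {K : Subgroup (Equiv.Perm GolayPt)} (hK : K ≤ Spor.M23) (hc : Nat.card K = 40320) :
    ∃ b ∈ Spor.M23, ∀ p ∈ pGrp, b⁻¹ * p * b ∈ K := by
  have : Fact (Nat.Prime 2) := ⟨Nat.prime_two⟩
  let B : Subgroup Spor.M23 := K.subgroupOf Spor.M23
  let P : Subgroup Spor.M23 := pGrp.subgroupOf Spor.M23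
  have hP : IsPGroup 2 P := pGrp_isPGroup.of_equiv (Subgroup.subgroupOfEquivOfLe pGrp_le).symm
  have hB : Nat.card B = 40320 := by
    rw [Nat.card_congr (Subgroup.subgroupOfEquivOfLe hK).toEquiv, hc]
  have hq : Nat.card (Spor.M23 ⧸ B) = 253 := by
    have h := Subgroup.card_eq_card_quotient_mul_card_subgroup B
    rw [card_M23, hB] at h
    omega
  have hmod := hP.card_modEq_card_fixedPoints (Spor.M23 ⧸ B)
  rw [hq] at hmod
  have hne : Nat.card (MulAction.fixedPoints P (Spor.M23 ⧸ B)) ≠ 0 := fun h => by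
    rw [h] at hmod; exact absurd hmod (by decide)
  obtain ⟨⟨⟨q, hq'⟩⟩, -⟩ := Nat.card_ne_zero.mp hne
  induction q using QuotientGroup.induction_on with
  | H b =>
    refine ⟨b, b.2, fun p hp => ?_⟩
    have e : (((⟨p, pGrp_le hp⟩ : Spor.M23) * b : Spor.M23) : Spor.M23 ⧸ B) = (b : Spor.M23 ⧸ B) :=
      hq' ⟨⟨p, pGrp_le hp⟩, hp⟩
    rw [eq_comm, QuotientGroup.eq, ← mul_assoc] at e
    exact e

/-- Moving sets of fixed size avoiding the extra point. -/
theorem exists_move {k : ℕ} (hk : k ≤ 4) {V W : Finset GolayPt} (hV : V.card = k) (hW : W.card = k)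
    (hV0 : none ∉ V) (hW0 : none ∉ W) : ∃ g ∈ Spor.M23, g • V = W := by
  have mk : ∀ V : Finset GolayPt, V.card = k → none ∉ V →
      ∃ x : Fin (k + 1) ↪ GolayPt, x 0 = none ∧ (Finset.univ.image fun i : Fin k => x i.succ) = V := by
    intro V hV h0
    let f : Fin k → GolayPt := fun i => (V.equivFinOfCardEq hV).symm i
    have hf : Function.Injective f := fun i j h => (V.equivFinOfCardEq hV).symm.injective (Subtype.ext h)
    refine ⟨⟨Fin.cons none f, Fin.cons_injective_iff.mpr ⟨?_, hf⟩⟩, rfl, ?_⟩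
    · rintro ⟨i, hi⟩
      exact h0 (hi ▸ ((V.equivFinOfCardEq hV).symm i).2)
    · ext p
      constructor
      · intro hp
        obtain ⟨i, -, rfl⟩ := Finset.mem_image.mp hp
        simp [f]
      · intro hp
        refine Finset.mem_image.mpr ⟨V.equivFinOfCardEq hV ⟨p, hp⟩, Finset.mem_univ _, ?_⟩
        simp [f]
  obtain ⟨x, hx0, hxV⟩ := mk V hV hV0
  obtain ⟨y, hy0, hyW⟩ := mk W hW hW0
  obtain ⟨a, ha, hax⟩ := exists_first' (k := k + 1) (by omega) x
  obtain ⟨b, hb, hby⟩ := exists_first' (k := k + 1) (by omega) y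
  have hg : ∀ i, (b * a⁻¹) (x i) = y i := fun i => by
    rw [Equiv.Perm.mul_apply, ← hax i, Equiv.Perm.inv_def, Equiv.symm_apply_apply, hby i]
  refine ⟨b * a⁻¹, mem_M23.mpr ⟨mul_mem hb (inv_mem ha), ?_⟩, ?_⟩
  · have := hg 0
    rwa [hx0, hy0] at this
  · rw [← hxV, ← hyW, ← Finset.image_smul, Finset.image_image]
    exact Finset.image_congr fun i _ => hg i.succ

/-- A bound for a set stabiliser from a family of its images. -/
theorem card_stab_le {K : Subgroup (Equiv.Perm GolayPt)} (hK : K ≤ Spor.M23) {s : Finset GolayPt}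
    (hs : ∀ g ∈ K, g • s = s) (T : Finset (Finset GolayPt)) (hT : ∀ t ∈ T, ∃ g ∈ Spor.M23, g • s = t) :
    Nat.card K * T.card ≤ 10200960 := by
  have h1 : Nat.card K ≤ Nat.card (MulAction.stabilizer Spor.M23 s) :=
    Nat.card_le_card_of_injective (fun g => ⟨⟨g.1, hK g.2⟩, hs g.1 g.2⟩) fun a b h =>
      Subtype.ext (congrArg (fun z : MulAction.stabilizer Spor.M23 s => (z.1 : Equiv.Perm GolayPt)) h)
  have h2 : T.card ≤ Nat.card (MulAction.orbit Spor.M23 s) := by
    rw [Nat.card_coe_set_eq, ← Set.ncard_coe_finset T]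
    refine Set.ncard_le_ncard (fun t ht => ?_) (Set.toFinite _)
    obtain ⟨g, hg, e⟩ := hT t ht
    exact ⟨⟨g, hg⟩, e⟩
  calc Nat.card K * T.card ≤ Nat.card (MulAction.stabilizer Spor.M23 s) * Nat.card (MulAction.orbit Spor.M23 s) :=
        Nat.mul_le_mul h1 h2
    _ = 10200960 := by
      rw [← Subgroup.index_mul_card (MulAction.stabilizer Spor.M23 s) |>.trans card_M23, mul_comm,
        MulAction.index_stabilizer, Nat.card_coe_set_eq]

/-- A pair avoiding the extra point or an octad through it. -/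
def Good (s : Finset GolayPt) : Prop := (s.card = 2 ∧ none ∉ s) ∨ (s ∈ octads ∧ none ∈ s)

theorem card_stab_good {K : Subgroup (Equiv.Perm GolayPt)} (hK : K ≤ Spor.M23) {s : Finset GolayPt}
    (hs : ∀ g ∈ K, g • s = s) (hg : Good s) : Nat.card K ≤ 40320 := by
  rcases hg with ⟨h2, h0⟩ | ⟨ho, h0⟩
  · have := card_stab_le hK hs (Finset.powersetCard 2 ((Finset.univ : Finset GolayPt).erase none)) fun t ht => by
      rw [Finset.mem_powersetCard] at ht
      exact exists_move (by norm_num) h2 ht.2 h0 fun h => (Finset.mem_erase.mp (ht.1 h)).1 rfl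
    rw [Finset.card_powersetCard, Finset.card_erase_of_mem (Finset.mem_univ _), Finset.card_univ,
      card_golayPt, show Nat.choose (24 - 1) 2 = 253 by decide] at this
    omega
  · obtain ⟨-, hlen, hnd, hlt⟩ := octFour_oct
    obtain ⟨b, hb, hbs⟩ := oct_four_unique ho h0
    have := card_stab_le hK hs ((octList.filter fun m => m.testBit 23).map pts).toFinset fun t ht => by
      rw [List.mem_toFinset, List.mem_map] at ht
      obtain ⟨m, hm, rfl⟩ := ht
      rw [List.mem_filter] at hm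
      obtain ⟨c, hc, hct⟩ := oct_four_unique (mem_octads.mpr ⟨m, hm.1, rfl⟩) (mem_pts.mpr hm.2)
      exact ⟨c⁻¹ * b, mul_mem (inv_mem (affGrp_le hc)) (affGrp_le hb), by
        rw [mul_smul, hbs, inv_smul_eq_iff, hct]⟩
    rw [List.toFinset_card_of_nodup, List.length_map, hlen] at this
    · omega
    · refine hnd.map_on fun a ha b hb e => ?_
      simp only [List.mem_filter] at ha hb
      exact pts_injOn (by simpa using List.all_eq_true.mp hlt a ha.1)
        (by simpa using List.all_eq_true.mp hlt b hb.1) e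

theorem octFour_mem : pts octFour ∈ octads := mem_octads.mpr ⟨_, octFour_oct.1, rfl⟩

/-- An invariant five-subset of the octad makes the octad invariant. -/
theorem oct_invariant {K : Subgroup (Equiv.Perm GolayPt)} (hK : K ≤ Spor.M23) {W : Finset GolayPt}
    (hW : ∀ g ∈ K, g • W = W) (hsub : W ⊆ pts octFour) (h5 : 5 ≤ W.card) :
    ∀ g ∈ K, g • pts octFour = pts octFour := by
  intro g hg
  obtain ⟨u, hu, hu5⟩ := Finset.exists_subset_card_eq h5
  obtain ⟨o, -, huniq⟩ := octads_steiner.2 u hu5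
  have h1 := huniq _ ⟨octFour_mem, hu.trans hsub⟩
  have h2 := huniq _ ⟨smul_octad (mem_M23.mp (hK hg)).1 octFour_mem,
    hu.trans (by rw [← hW g hg]; exact Finset.smul_finset_subset_smul_finset hsub)⟩
  rw [h2, h1]

theorem smul_compl_inter (g : Equiv.Perm GolayPt) (s : Finset GolayPt) : g • sᶜ = (g • s)ᶜ := by
  ext p
  simp [← Finset.inv_smul_mem_iff]

theorem exists_good {K : Subgroup (Equiv.Perm GolayPt)} (hK : K ≤ Spor.M23) (hc : Nat.card K = 40320)
    (hP : pGrp ≤ K) : ∃ s, Good s ∧ ∀ g ∈ K, g • s = s := by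
  classical
  obtain ⟨e1, -, hall, c2, c4, c16, hO, d24, d216, d416, z2, z4, z16, n2, n4, n16⟩ := orb_sets
  let U : GolayPt → Finset GolayPt := fun q => Finset.univ.filter fun p => ∃ g ∈ K, g q = p
  have hU : ∀ q, ∀ g ∈ K, g • U q = U q := by
    intro q g hg
    ext p
    rw [← Finset.inv_smul_mem_iff, Equiv.Perm.smul_def]
    simp only [U, Finset.mem_filter, Finset.mem_univ, true_and]
    constructor
    · rintro ⟨h, hh, e⟩
      exact ⟨g * h, mul_mem hg hh, by rw [Equiv.Perm.mul_apply, e, Equiv.Perm.inv_def, Equiv.apply_symm_apply]⟩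
    · rintro ⟨h, hh, rfl⟩
      exact ⟨g⁻¹ * h, mul_mem (inv_mem hg) hh, rfl⟩
  have hdiv : ∀ q, (U q).card ∣ 40320 := by
    intro q
    have hco : (U q : Set GolayPt) = MulAction.orbit K q := by
      ext p
      simp only [U, Finset.coe_filter, Finset.mem_univ, true_and, Set.mem_setOf_eq]
      exact ⟨fun ⟨g, hg, e⟩ => ⟨⟨g, hg⟩, e⟩, fun ⟨⟨g, hg⟩, e⟩ => ⟨g, hg, e⟩⟩
    rw [← hc, ← Set.ncard_coe_finset, hco, ← MulAction.index_stabilizer]
    exact Subgroup.index_dvd_card _
  have hmem : ∀ q, q ∈ U q := fun q => by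
    simp only [U, Finset.mem_filter, Finset.mem_univ, true_and]
    exact ⟨1, one_mem _, rfl⟩
  have hnone : ∀ q, q ≠ none → none ∉ U q := fun q hq h => by
    simp only [U, Finset.mem_filter, Finset.mem_univ, true_and] at h
    obtain ⟨g, hg, e⟩ := h
    exact hq (g.injective (e.trans (mem_M23.mp (hK hg)).2.symm))
  have hfull : ∀ m ∈ [orb2, orb4, orb16], ∀ q, ∀ p ∈ pts m, p ∈ U q → pts m ⊆ U q := by
    intro m hm q p hp hpU r hr
    have h := p_orbits
    simp only [List.all_eq_true, List.any_eq_true, List.mem_range, Bool.or_eq_true, Bool.not_eq_true'] at h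
    rcases h m hm (idx p) (idx_lt p) with h' | h'
    · rw [mem_pts.mp hp] at h'; exact Bool.noConfusion h'
    rcases h' (idx r) (idx_lt r) with h'' | ⟨x, hx, e⟩
    · rw [mem_pts.mp hr] at h''; exact Bool.noConfusion h''
    have hv := List.all_eq_true.mp p_checks.2.1 x hx
    have hxr : permOf x p = r := idx_injective (by rw [idx_permOf hv, Nat.eq_of_beq_eq_true e])
    simp only [U, Finset.mem_filter, Finset.mem_univ, true_and] at hpU ⊢
    obtain ⟨g, hg, e'⟩ := hpU
    have hxK : permOf x ∈ K := hP (pAll_mem x hx)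
    exact ⟨permOf x * g, mul_mem hxK hg, by rw [Equiv.Perm.mul_apply, e', hxr]⟩
  have split : ∀ q, q ≠ none → U q = pts ((if pt 0 ∈ U q then 1 else 0) |||
      (if (pts orb2 ∩ U q).Nonempty then orb2 else 0) ||| (if (pts orb4 ∩ U q).Nonempty then orb4 else 0) |||
        (if (pts orb16 ∩ U q).Nonempty then orb16 else 0)) := by
    intro q hq
    simp only [← pts_union, apply_ite pts, mask_facts.1, e1]
    refine Finset.ext fun p => ⟨fun hp => ?_, fun hp => ?_⟩
    · have : p ∈ pts orb2 ∪ pts orb4 ∪ pts orb16 ∪ {pt 0} ∪ {none} := by rw [hall]; exact Finset.mem_univ p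
      simp only [Finset.mem_union, Finset.mem_singleton] at this
      rcases this with (((h | h) | h) | rfl) | rfl
      · rw [if_pos (c := (pts orb2 ∩ U q).Nonempty) ⟨p, Finset.mem_inter.mpr ⟨h, hp⟩⟩]; simp [h]
      · rw [if_pos (c := (pts orb4 ∩ U q).Nonempty) ⟨p, Finset.mem_inter.mpr ⟨h, hp⟩⟩]; simp [h]
      · rw [if_pos (c := (pts orb16 ∩ U q).Nonempty) ⟨p, Finset.mem_inter.mpr ⟨h, hp⟩⟩]; simp [h]
      · rw [if_pos hp]; simp
      · exact absurd hp (hnone q hq)
    · simp only [Finset.mem_union] at hp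
      rcases hp with ((h | h) | h) | h
      all_goals split_ifs at h with hc'
      all_goals first
        | exact absurd h (Finset.notMem_empty _)
        | (rw [Finset.mem_singleton] at h; rwa [h])
        | (obtain ⟨r, hr⟩ := hc'
           rw [Finset.mem_inter] at hr
           exact hfull _ (by simp) q r hr.1 hr.2 h)
  have compl_inv : ∀ S : Finset GolayPt, (∀ g ∈ K, g • S = S) → ∀ g ∈ K, g • (insert none S)ᶜ = (insert none S)ᶜ := by
    intro S hS g hg
    rw [smul_compl_inter, Finset.insert_eq, Finset.smul_finset_union, hS g hg, Finset.smul_finset_singleton,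
      Equiv.Perm.smul_def, (mem_M23.mp (hK hg)).2]
  have ins_inv : ∀ S : Finset GolayPt, (∀ g ∈ K, g • S = S) → ∀ g ∈ K, g • insert none S = insert none S := by
    intro S hS g hg
    rw [Finset.insert_eq, Finset.smul_finset_union, hS g hg, Finset.smul_finset_singleton,
      Equiv.Perm.smul_def, (mem_M23.mp (hK hg)).2]
  have good_oct : ∀ W : Finset GolayPt, (∀ g ∈ K, g • W = W) → W ⊆ pts octFour → 5 ≤ W.card →
      ∃ s, Good s ∧ ∀ g ∈ K, g • s = s := fun W hW hsub h5 =>
    ⟨pts octFour, Or.inr ⟨octFour_mem, by rw [← hO]; simp⟩, oct_invariant hK hW hsub h5⟩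
  have hsub : ∀ S : Finset GolayPt, S ⊆ pts orb2 ∪ pts orb4 ∪ {pt 0} ∪ {none} → S ⊆ pts octFour :=
    fun S h => hO ▸ h
  have hz0 : pt 0 ≠ (none : GolayPt) := by decide +kernel
  obtain ⟨r, hr⟩ : (pts orb2).Nonempty := Finset.card_pos.mp (by omega)
  have hrn : r ≠ none := fun h => n2 (h ▸ hr)
  obtain ⟨-, f3, f3n, f5, f7, f5s, f7s, f17, f19, f21, f23, f6, f6s, f18s, f18, f22⟩ := mask_facts
  have s0 := split _ hz0
  rw [if_pos (hmem (pt 0))] at s0
  have hd0 := hdiv (pt 0)
  have hinv := hU (pt 0)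
  by_cases a2 : (pts orb2 ∩ U (pt 0)).Nonempty <;> by_cases a4 : (pts orb4 ∩ U (pt 0)).Nonempty <;>
    by_cases a16 : (pts orb16 ∩ U (pt 0)).Nonempty <;>
    simp only [if_pos, if_neg, a2, a4, a16, not_false_eq_true, Nat.or_zero] at s0 <;> rw [s0] at hd0 hinv
  · rw [f23] at hd0; omega
  · exact good_oct _ hinv f7s (by omega)
  · rw [f19] at hd0; omega
  · exfalso
    have := card_stab_le hK hinv (Finset.powersetCard 3 ((Finset.univ : Finset GolayPt).erase none)) fun t ht => by
      rw [Finset.mem_powersetCard] at ht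
      exact exists_move (by norm_num) f3 ht.2 f3n fun h => (Finset.mem_erase.mp (ht.1 h)).1 rfl
    rw [Finset.card_powersetCard, Finset.card_erase_of_mem (Finset.mem_univ _), Finset.card_univ,
      card_golayPt, show Nat.choose (24 - 1) 3 = 1771 by decide, hc] at this
    omega
  · refine ⟨pts orb2, Or.inl ⟨c2, n2⟩, ?_⟩
    rw [← f21]
    exact compl_inv _ hinv
  · exact good_oct _ hinv f5s (by omega)
  · rw [f17] at hd0; omega
  · have sr := split r hrn
    have h0r : pt 0 ∉ U r := fun h => a2 ⟨r, Finset.mem_inter.mpr ⟨hr, by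
      simp only [U, Finset.mem_filter, Finset.mem_univ, true_and] at h ⊢
      obtain ⟨g, hg, e⟩ := h
      exact ⟨g⁻¹, inv_mem hg, by rw [Equiv.Perm.inv_eq_iff_eq, e]⟩⟩⟩
    have h2r : (pts orb2 ∩ U r).Nonempty := ⟨r, Finset.mem_inter.mpr ⟨hr, hmem r⟩⟩
    have hdr := hdiv r
    have hinr := hU r
    by_cases b4 : (pts orb4 ∩ U r).Nonempty <;> by_cases b16 : (pts orb16 ∩ U r).Nonempty <;>
      simp only [if_pos, if_neg, h0r, h2r, b4, b16, not_false_eq_true, Nat.or_zero, Nat.zero_or] at sr <;>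
      rw [sr] at hdr hinr
    · rw [f22] at hdr; omega
    · exact good_oct _ hinr f6s (by omega)
    · have hun : ∀ g ∈ K, g • pts (1 ||| (orb2 ||| orb16)) = pts (1 ||| (orb2 ||| orb16)) := fun g hg => by
        rw [← pts_union, Finset.smul_finset_union, hinv g hg, hinr g hg]
      exact good_oct _ (ins_inv _ (compl_inv _ hun)) f18s (by omega)
    · exact ⟨pts orb2, Or.inl ⟨c2, n2⟩, hinr⟩

/-- Subgroups of index 253 of the point stabiliser. -/
theorem exists_good_of_card {K : Subgroup (Equiv.Perm GolayPt)} (hK : K ≤ Spor.M23) (hc : Nat.card K = 40320) :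
    ∃ s, Good s ∧ ∀ g ∈ K, g • s = s := by
  obtain ⟨b, hb, hbK⟩ := exists_conj_sub hK hc
  have h1 : K.map (MulAut.conj b).toMonoidHom ≤ Spor.M23 := by
    rintro _ ⟨g, hg, rfl⟩
    exact mul_mem (mul_mem hb (hK hg)) (inv_mem hb)
  have h2 : Nat.card (K.map (MulAut.conj b).toMonoidHom) = 40320 := by
    rw [Subgroup.card_map_of_injective (MulAut.conj b).injective, hc]
  have h3 : pGrp ≤ K.map (MulAut.conj b).toMonoidHom := fun p hp =>
    ⟨b⁻¹ * p * b, hbK p hp, by simp [mul_assoc]⟩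
  obtain ⟨s, hs, hinv⟩ := exists_good h1 h2 h3
  refine ⟨b⁻¹ • s, ?_, fun g hg => ?_⟩
  · obtain ⟨hbM, hbn⟩ := mem_M23.mp (inv_mem hb)
    have hn : none ∈ b⁻¹ • s ↔ none ∈ s := by
      conv_lhs => rw [← hbn, ← Equiv.Perm.smul_def, Finset.smul_mem_smul_finset_iff]
    rcases hs with ⟨h2, h0⟩ | ⟨ho, h0⟩
    · exact Or.inl ⟨by rw [Finset.card_smul_finset, h2], fun h => h0 (hn.mp h)⟩
    · exact Or.inr ⟨smul_octad hbM ho, hn.mpr h0⟩
  · have := hinv _ ⟨g, hg, rfl⟩
    change (b * g * b⁻¹) • s = s at this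
    rw [mul_smul, mul_smul, ← eq_inv_smul_iff] at this
    exact this

/-- The subgroups of index 253 of any point stabiliser. -/
theorem index253 (x : GolayPt) (H : Subgroup ↥(MulAction.stabilizer M24 x)) (hH : H.index = 253) :
    (∃ s : Finset GolayPt, s.card = 2 ∧ x ∉ s ∧
      H = (MulAction.stabilizer M24 s).subgroupOf (MulAction.stabilizer M24 x)) ∨
    ∃ o ∈ octads, x ∈ o ∧ H = (MulAction.stabilizer M24 o).subgroupOf (MulAction.stabilizer M24 x) := by
  have := M24_pretransitive1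
  obtain ⟨⟨a, ha⟩, hax⟩ := MulAction.exists_smul_eq M24 (none : GolayPt) x
  replace hax : a none = x := hax
  have hcard : Nat.card H = 40320 := by
    have h := H.card_mul_index
    rw [hH, card_stabilizer_point] at h
    omega
  let f : MulAction.stabilizer M24 x →* Equiv.Perm GolayPt :=
    M24.subtype.comp (MulAction.stabilizer M24 x).subtype
  have hf : Function.Injective f := M24.subtype_injective.comp (Subgroup.subtype_injective _)
  let K : Subgroup (Equiv.Perm GolayPt) := (H.map f).map (MulAut.conj a⁻¹).toMonoidHom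
  have hK : K ≤ Spor.M23 := by
    rintro _ ⟨_, ⟨y, -, rfl⟩, rfl⟩
    refine mem_M23.mpr ⟨mul_mem (mul_mem (inv_mem ha) y.1.2) (inv_mem (inv_mem ha)), ?_⟩
    show (a⁻¹ * f y * a⁻¹⁻¹) none = none
    rw [inv_inv, Equiv.Perm.mul_apply, Equiv.Perm.mul_apply, hax, Equiv.Perm.inv_eq_iff_eq, hax]
    exact y.2
  have hKc : Nat.card K = 40320 := by
    rw [Subgroup.card_map_of_injective (MulAut.conj a⁻¹).injective, Subgroup.card_map_of_injective hf, hcard]
  obtain ⟨s, hs, hinv⟩ := exists_good_of_card hK hKc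
  have hKe : ∀ g ∈ Spor.M23, g • s = s → g ∈ K := by
    let L : Subgroup (Equiv.Perm GolayPt) := Spor.M23 ⊓ MulAction.stabilizer (Equiv.Perm GolayPt) s
    have hle : K ≤ L := fun g hg => ⟨hK hg, hinv g hg⟩
    have hLc := card_stab_good (inf_le_left : L ≤ Spor.M23) (fun g hg => hg.2) hs
    have heq : K = L := Subgroup.eq_of_le_of_card_ge hle (hKc ▸ hLc)
    exact fun g hg h => heq ▸ ⟨hg, h⟩
  have hH' : H = (MulAction.stabilizer M24 (a • s)).subgroupOf (MulAction.stabilizer M24 x) := by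
    ext y
    rw [Subgroup.mem_subgroupOf]
    show y ∈ H ↔ f y • (a • s) = a • s
    constructor
    · intro hy
      have := hinv _ ⟨f y, ⟨y, hy, rfl⟩, rfl⟩
      change (a⁻¹ * f y * a⁻¹⁻¹) • s = s at this
      rwa [inv_inv, mul_smul, mul_smul, inv_smul_eq_iff] at this
    · intro hy
      have hm : a⁻¹ * f y * a ∈ Spor.M23 := by
        refine mem_M23.mpr ⟨mul_mem (mul_mem (inv_mem ha) y.1.2) ha, ?_⟩
        rw [Equiv.Perm.mul_apply, Equiv.Perm.mul_apply, hax, Equiv.Perm.inv_eq_iff_eq, hax]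
        exact y.2
      obtain ⟨_, ⟨z, hz, rfl⟩, e⟩ := hKe _ hm (by rw [mul_smul, mul_smul, hy, inv_smul_smul])
      change a⁻¹ * f z * a⁻¹⁻¹ = a⁻¹ * f y * a at e
      rw [inv_inv, mul_left_inj, mul_right_inj] at e
      exact hf e ▸ hz
  have hx : x ∈ a • s ↔ none ∈ s := by
    rw [← hax, ← Equiv.Perm.smul_def, Finset.smul_mem_smul_finset_iff]
  rcases hs with ⟨h2, h0⟩ | ⟨ho, h0⟩
  · exact Or.inl ⟨a • s, by rw [Finset.card_smul_finset, h2], fun h => h0 (hx.mp h), hH'⟩
  · exact Or.inr ⟨a • s, smul_octad ha ho, hx.mpr h0, hH'⟩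

end Cfsg.Agent.Spor.Golay.M23Idx
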