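import Cfsg.Agent.Lib.Spor.Golay.AutTable

/-! Automorphisms: case 24. -/

set_option autoImplicit false
set_option maxRecDepth 100000
set_option Elab.async false

namespace Cfsg.Agent.Spor.Golay.Aut

theorem up24 : upOk g24Sets [] g24Chain = true := by decide +kernel

theorem gen24 : c24.grp ≤ Subgroup.closure {permOf c24.A, permOf c24.C, permOf c24.T} :=
  fun g hg => mem_of_chain tab24_ok _ (fun i hi => (tab24_mem i hi).2) g24Chain [] low24
    up24 idx24 g hg

theorem ln24_0 : normCheck (part g24ChainLits 0) c24.M c24.A c24.PA c24.LN = true := by decide +kernel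

theorem ln24_1 : normCheck (part g24ChainLits 1) c24.M c24.A c24.PA c24.LN = true := by decide +kernel

theorem ln24_2 : normCheck (part g24ChainLits 2) c24.M c24.A c24.PA c24.LN = true := by decide +kernel

theorem ln24_3 : normCheck (part g24ChainLits 3) c24.M c24.A c24.PA c24.LN = true := by decide +kernel

theorem ln24_4 : normCheck (part g24ChainLits 4) c24.M c24.A c24.PA c24.LN = true := by decide +kernel

theorem ln24_5 : normCheck (part g24ChainLits 5) c24.M c24.A c24.PA c24.LN = true := by decide +kernel

theorem ln24 : normCheck g24ChainLits c24.M c24.A c24.PA c24.LN = true :=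
  normCheck_of_parts (by decide +kernel) fun j hj => by
    interval_cases j
    · exact ln24_0
    · exact ln24_1
    · exact ln24_2
    · exact ln24_3
    · exact ln24_4
    · exact ln24_5


theorem lc24_0 : normCheck (part g24B11Lits 0) c24.M c24.C c24.PC c24.LC = true := by decide +kernel

theorem lc24_1 : normCheck (part g24B11Lits 1) c24.M c24.C c24.PC c24.LC = true := by decide +kernel

theorem lc24_2 : normCheck (part g24B11Lits 2) c24.M c24.C c24.PC c24.LC = true := by decide +kernel

theorem lc24_3 : normCheck (part g24B11Lits 3) c24.M c24.C c24.PC c24.LC = true := by decide +kernel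

theorem lc24_4 : normCheck (part g24B11Lits 4) c24.M c24.C c24.PC c24.LC = true := by decide +kernel

theorem lc24_5 : normCheck (part g24B11Lits 5) c24.M c24.C c24.PC c24.LC = true := by decide +kernel

theorem lc24 : normCheck g24B11Lits c24.M c24.C c24.PC c24.LC = true :=
  normCheck_of_parts (by decide +kernel) fun j hj => by
    interval_cases j
    · exact lc24_0
    · exact lc24_1
    · exact lc24_2
    · exact lc24_3
    · exact lc24_4
    · exact lc24_5


theorem n24_check : c24.nCheck = true := by decide +kernel

theorem m24_check : c24.mCheck = true := by decide +kernel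

/-- All automorphisms are conjugations by elements normalizing the group. -/
theorem aut24 (α : MulAut c24.grp) : ∃ s ∈ c24.adj, ∃ h ∈ c24.grp,
    ∀ x : c24.grp, (α x : Equiv.Perm GolayPt) = h * permOf s * x * (h * permOf s)⁻¹ :=
  c24.exists_conj_of_checks (show Nat.Prime 23 by norm_num) (show Nat.Prime 11 by norm_num)
    tab24_ok chains24.1.1 chains24.1.2 idxs24.1 chains24.2.1.1 chains24.2.1.2 idxs24.2.1 lits24.1 lits24.2.1 ln24 lc24 gen24_check n24_check m24_check gen24
    (show ¬ 23 ^ 2 ∣ 244823040 by norm_num) α

end Cfsg.Agent.Spor.Golay.Aut
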