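import Cfsg.Agent.Lib.Spor.Golay.AutCheck
import Cfsg.Prelude.Def_KGroupFacts

/-! The order of the outer automorphism group from the description of all automorphisms. -/

set_option autoImplicit false
set_option maxRecDepth 100000

namespace Cfsg.Agent.Spor.Golay.Aut

open scoped Pointwise

variable {Γ : Type} [Group Γ]

/-- Conjugation by an element mapping a finite subgroup into itself. -/
noncomputable def conjAutOf (H : Subgroup Γ) [Finite H] (σ : Γ)
    (h : ∀ x ∈ H, σ * x * σ⁻¹ ∈ H) : MulAut H :=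
  MulEquiv.ofBijective
    ({ toFun := fun x => ⟨σ * x * σ⁻¹, h x x.2⟩
       map_one' := Subtype.ext (by simp)
       map_mul' := fun x y => Subtype.ext (by simp [mul_assoc]) } : H →* H)
    (Finite.injective_iff_bijective.mp fun x y e => by
      have := congrArg Subtype.val e
      simpa using this)

theorem conjAutOf_apply (H : Subgroup Γ) [Finite H] (σ : Γ) (h : ∀ x ∈ H, σ * x * σ⁻¹ ∈ H)
    (x : H) : (conjAutOf H σ h x : Γ) = σ * x * σ⁻¹ := rfl

/-- All automorphisms are inner. -/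
theorem out_eq_one (H : Subgroup Γ)
    (hα : ∀ α : MulAut H, ∃ h ∈ H, ∀ x : H, (α x : Γ) = h * x * h⁻¹) :
    Nat.card (Cfsg.Out H) = 1 := by
  have htop : Cfsg.Inn H = ⊤ := by
    refine eq_top_iff.mpr fun α _ => ?_
    obtain ⟨h, hh, e⟩ := hα α
    exact ⟨⟨h, hh⟩, MulEquiv.ext fun x => Subtype.ext (by simp [e x])⟩
  have : Subsingleton (MulAut H ⧸ Cfsg.Inn H) := QuotientGroup.subsingleton_iff.mpr htop
  exact Nat.card_eq_one_iff_unique.mpr ⟨this, inferInstance⟩

/-- The inner automorphisms have index two. -/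
theorem out_eq_two (H : Subgroup Γ) [Finite H] (σ : Γ) (hσ : ∀ x ∈ H, σ * x * σ⁻¹ ∈ H)
    (hout : ∀ h ∈ H, ∃ x ∈ H, σ * x * σ⁻¹ ≠ h * x * h⁻¹)
    (hα : ∀ α : MulAut H,
      ∃ h ∈ H, (∀ x : H, (α x : Γ) = h * x * h⁻¹) ∨ ∀ x : H, (α x : Γ) = h * σ * x * (h * σ)⁻¹) :
    Nat.card (Cfsg.Out H) = 2 := by
  set β := conjAutOf H σ hσ with hβ
  have hne : (QuotientGroup.mk β : MulAut H ⧸ Cfsg.Inn H) ≠ 1 := by
    rw [Ne, QuotientGroup.eq_one_iff]
    rintro ⟨h, e⟩
    obtain ⟨x, hx, hxe⟩ := hout h h.2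
    have := congrArg (fun γ : MulAut H => (γ ⟨x, hx⟩ : Γ)) e
    simp only [MulAut.conj_apply, Subgroup.coe_mul, Subgroup.coe_inv, hβ] at this
    exact hxe this.symm
  rw [Nat.card_eq_two_iff]
  refine ⟨QuotientGroup.mk β, 1, hne, Set.eq_univ_of_forall fun q => ?_⟩
  induction q using QuotientGroup.induction_on with
  | _ α =>
    obtain ⟨h, hh, e | e⟩ := hα α
    · right
      rw [Set.mem_singleton_iff, QuotientGroup.eq_one_iff]
      exact ⟨⟨h, hh⟩, MulEquiv.ext fun x => Subtype.ext (by simp [e x])⟩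
    · left
      have hαe : α = MulAut.conj ⟨h, hh⟩ * β := MulEquiv.ext fun x => Subtype.ext (by
        rw [e x, hβ]
        simp [conjAutOf_apply, mul_assoc])
      have hinn : MulAut.conj (⟨h, hh⟩ : H) ∈ Cfsg.Inn H := ⟨⟨h, hh⟩, rfl⟩
      rw [hαe, QuotientGroup.mk_mul, (QuotientGroup.eq_one_iff _).mpr hinn, one_mul]

namespace Case

variable (S : Case)

/-- All adjusting elements lie in the group. -/
def innerCheck : Bool := S.adj.all fun s => inM24 s && preserves S.M s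

/-- The given element induces an outer automorphism and covers the adjusting elements. -/
def outerCheck (σ : ℕ) : Bool :=
  inM24 σ &&
    S.adj.all (fun s => inM24 s && (preserves S.M s ||
      S.M.all fun m => imgMask (get s) m == imgMask (get σ) m)) &&
    S.PA.any fun Ka => eqComp σ S.A Ka σ && S.PC.any fun Kc => eqComp σ S.C Kc σ &&
      S.LC.any fun X => eqComp σ S.T X σ && inM24 X && preserves S.M X &&
        S.LN.all fun Q => !(eqComp Q S.A Ka Q) || !(eqComp Q S.C Kc Q) || !(eqComp Q S.T X Q)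

theorem valid_of_inM24 {P : ℕ} (h : inM24 P = true) : valid P = true := by
  rw [inM24, Bool.and_eq_true] at h
  exact h.1

theorem out_one (hg : S.genCheck = true) (hi : S.innerCheck = true)
    (hα : ∀ α : MulAut S.grp, ∃ s ∈ S.adj, ∃ h ∈ S.grp,
      ∀ x : S.grp, (α x : Equiv.Perm GolayPt) = h * permOf s * x * (h * permOf s)⁻¹) :
    Nat.card (Cfsg.Out S.grp) = 1 := by
  obtain ⟨-, hM⟩ := S.gen_facts hg
  simp only [innerCheck, List.all_eq_true, Bool.and_eq_true] at hi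
  refine out_eq_one _ fun α => ?_
  obtain ⟨s, hs, h, hh, e⟩ := hα α
  obtain ⟨h1, h2⟩ := hi s hs
  exact ⟨h * permOf s, mul_mem hh (mem_Fix.mpr
    ⟨permOf_mem_M24 h1, (preserves_iff (valid_of_inM24 h1) hM).mp h2, by simp⟩), e⟩

theorem out_two (hg : S.genCheck = true) (σ : ℕ) (ho : S.outerCheck σ = true)
    (hgen : S.grp ≤ Subgroup.closure {permOf S.A, permOf S.C, permOf S.T})
    (hLN : ∀ g ∈ S.grp, g * permOf S.A * g⁻¹ ∈ Subgroup.zpowers (permOf S.A) →
      ∃ Q ∈ S.LN, valid Q = true ∧ permOf Q = g)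
    (hα : ∀ α : MulAut S.grp, ∃ s ∈ S.adj, ∃ h ∈ S.grp,
      ∀ x : S.grp, (α x : Equiv.Perm GolayPt) = h * permOf s * x * (h * permOf s)⁻¹) :
    Nat.card (Cfsg.Out S.grp) = 2 := by
  obtain ⟨hgens, hM⟩ := S.gen_facts hg
  obtain ⟨hvA, hA⟩ := hgens S.A (by simp)
  obtain ⟨hvC, hC⟩ := hgens S.C (by simp)
  obtain ⟨hvT, hT⟩ := hgens S.T (by simp)
  simp only [genCheck, Bool.and_eq_true] at hg
  obtain ⟨⟨⟨⟨⟨⟨⟨⟨⟨⟨⟨-, -⟩, -⟩, -⟩, -⟩, -⟩, hPA⟩, hPC⟩, -⟩, -⟩, -⟩, -⟩ := hg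
  obtain ⟨hPA', -⟩ := powsOk_spec hvA hPA
  obtain ⟨hPC', -⟩ := powsOk_spec hvC hPC
  simp only [outerCheck, Bool.and_eq_true, List.all_eq_true, List.any_eq_true,
    Bool.or_eq_true, Bool.not_eq_true', beq_iff_eq] at ho
  obtain ⟨⟨hσ, hadj⟩, Ka, hKa, hea, Kc, hKc, hec, X, hX, ⟨⟨het, hX1⟩, hX2⟩, hall⟩ := ho
  have hvσ := valid_of_inM24 hσ
  obtain ⟨hvKa, hKa'⟩ := hPA' Ka hKa
  obtain ⟨hvKc, hKc'⟩ := hPC' Kc hKc
  have hvX := valid_of_inM24 hX1
  have ea := (eqComp_iff hvσ hvA hvKa hvσ).mp hea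
  have ec := (eqComp_iff hvσ hvC hvKc hvσ).mp hec
  have et := (eqComp_iff hvσ hvT hvX hvσ).mp het
  have hmap : ∀ x ∈ S.grp, permOf σ * x * (permOf σ)⁻¹ ∈ S.grp := by
    intro x hx
    have hle : Subgroup.closure {permOf S.A, permOf S.C, permOf S.T} ≤
        S.grp.comap (MulAut.conj (permOf σ)).toMonoidHom := by
      rw [Subgroup.closure_le]
      rintro y (rfl | rfl | rfl) <;>
        rw [SetLike.mem_coe, Subgroup.mem_comap] <;>
        simp only [MulEquiv.coe_toMonoidHom, MulAut.conj_apply]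
      · rw [ea, mul_inv_cancel_right]; exact Subgroup.zpowers_le.mpr hA hKa'
      · rw [ec, mul_inv_cancel_right]; exact Subgroup.zpowers_le.mpr hC hKc'
      · rw [et, mul_inv_cancel_right]
        exact mem_Fix.mpr ⟨permOf_mem_M24 hX1, (preserves_iff hvX hM).mp hX2, by simp⟩
    exact hle (hgen hx)
  refine out_eq_two _ (permOf σ) hmap (fun h hh => ?_) fun α => ?_
  · by_contra hcon
    push Not at hcon
    have eA : h * permOf S.A * h⁻¹ = permOf Ka := by
      rw [← hcon _ hA, ea, mul_inv_cancel_right]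
    have eC : h * permOf S.C * h⁻¹ = permOf Kc := by
      rw [← hcon _ hC, ec, mul_inv_cancel_right]
    have eT : h * permOf S.T * h⁻¹ = permOf X := by
      rw [← hcon _ hT, et, mul_inv_cancel_right]
    obtain ⟨Q, hQ, hQv, rfl⟩ := hLN h hh (eA ▸ hKa')
    rcases hall Q hQ with (e | e) | e
    · rw [(eqComp_iff hQv hvA hvKa hQv).mpr (by rw [← eA]; simp)] at e; simp at e
    · rw [(eqComp_iff hQv hvC hvKc hQv).mpr (by rw [← eC]; simp)] at e; simp at e
    · rw [(eqComp_iff hQv hvT hvX hQv).mpr (by rw [← eT]; simp)] at e; simp at e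
  · obtain ⟨s, hs, h, hh, e⟩ := hα α
    obtain ⟨h1, h2⟩ := hadj s hs
    have hvs := valid_of_inM24 h1
    rcases h2 with h2 | h2
    · exact ⟨h * permOf s, mul_mem hh (mem_Fix.mpr
        ⟨permOf_mem_M24 h1, (preserves_iff hvs hM).mp h2, by simp⟩), Or.inl e⟩
    · have hin : permOf s * (permOf σ)⁻¹ ∈ M24 :=
        mul_mem (permOf_mem_M24 h1) (inv_mem (permOf_mem_M24 hσ))
      have hk : (permOf σ)⁻¹ * permOf s ∈ S.grp := by
        refine mem_Fix.mpr ⟨mul_mem (inv_mem (permOf_mem_M24 hσ)) (permOf_mem_M24 h1),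
          fun m hm => ?_, by simp⟩
        rw [mul_smul, inv_smul_eq_iff, permOf_smul_pts hvσ, permOf_smul_pts hvs, h2 m hm]
      have hk' := hmap _ hk
      rw [mul_inv_cancel_left] at hk'
      refine ⟨h * (permOf s * (permOf σ)⁻¹), mul_mem hh hk', Or.inr fun x => ?_⟩
      rw [e x]
      simp [mul_assoc]

end Case

end Cfsg.Agent.Spor.Golay.Aut
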