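import Cfsg.Agent.Lib.Spor.Golay.Basic

/-! Permutations of the 24 points packed in natural numbers, five bits per position. -/

set_option autoImplicit false
set_option maxRecDepth 100000

namespace Cfsg.Agent.Spor.Golay

open scoped Pointwise

/-- The image of position `i`. -/
def get (P i : ℕ) : ℕ := (P >>> (5 * i)) % 32

/-- Pack the values `f 0, …, f (n-1)`. -/
def pack : ℕ → (ℕ → ℕ) → ℕ
  | 0, _ => 0
  | n + 1, f => f 0 + 32 * pack n (fun i => f (i + 1))

theorem get_pack : ∀ (n : ℕ) (f : ℕ → ℕ) (i : ℕ), i < n → (∀ j, j < n → f j < 32) →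
    get (pack n f) i = f i
  | 0, _, _, h, _ => absurd h (Nat.not_lt_zero _)
  | n + 1, f, 0, _, hf => by
    simp [get, pack, Nat.add_mul_mod_self_left, Nat.mod_eq_of_lt (hf 0 (Nat.succ_pos n))]
  | n + 1, f, i + 1, h, hf => by
    have ih := get_pack n (fun j => f (j + 1)) i (by omega) (fun j hj => hf (j + 1) (by omega))
    rw [← ih]
    have h0 := hf 0 (Nat.succ_pos n)
    simp only [get, pack, Nat.shiftRight_eq_div_pow]
    rw [show 2 ^ (5 * (i + 1)) = 32 * 2 ^ (5 * i) from by ring, ← Nat.div_div_eq_div_mul,
      Nat.add_mul_div_left _ _ (by norm_num : 0 < 32), Nat.div_eq_of_lt h0, Nat.zero_add]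

/-- Composition, the right factor first. -/
def comp (P Q : ℕ) : ℕ := pack 24 fun i => get P (get Q i)

/-- The packed identity. -/
def idP : ℕ := pack 24 fun i => i

theorem get_idP {i : ℕ} (h : i < 24) : get idP i = i := get_pack 24 _ i h (fun j hj => by omega)

theorem get_comp (P Q : ℕ) {i : ℕ} (h : i < 24) : get (comp P Q) i = get P (get Q i) :=
  get_pack 24 _ i h fun _ _ => Nat.mod_lt _ (by norm_num)

/-- Whether a number packs a permutation of the 24 positions. -/
def valid (P : ℕ) : Bool :=
  imgMask (get P) 16777215 == 16777215 && (List.range 24).all fun i => decide (get P i < 24)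

theorem valid_iff {P : ℕ} :
    valid P = true ↔ (∀ j < 24, ∃ i < 24, get P i = j) ∧ ∀ i < 24, get P i < 24 := by
  have hfull : ∀ i, i < 24 → Nat.testBit 16777215 i = true := by decide +kernel
  simp only [valid, Bool.and_eq_true, beq_iff_eq, List.all_eq_true, List.mem_range,
    decide_eq_true_eq]
  constructor
  · rintro ⟨h, hlt⟩
    refine ⟨fun j hj => ?_, hlt⟩
    have : (imgMask (get P) 16777215).testBit j = true := by rw [h]; exact hfull j hj
    obtain ⟨i, hi, -, he⟩ := (testBit_imgMask _ _ _).mp this
    exact ⟨i, hi, he⟩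
  · rintro ⟨hs, hlt⟩
    refine ⟨Nat.eq_of_testBit_eq fun j => Bool.eq_iff_iff.mpr ?_, hlt⟩
    rw [testBit_imgMask]
    constructor
    · rintro ⟨i, hi, -, rfl⟩; exact hfull _ (hlt i hi)
    · intro hj
      have hj' : j < 24 := by
        by_contra hc
        rw [testBit_eq_false (by norm_num) (by omega)] at hj
        exact Bool.false_ne_true hj
      obtain ⟨i, hi, he⟩ := hs j hj'
      exact ⟨i, hi, hfull i hi, he⟩

theorem valid_idP : valid idP = true := by decide +kernel

/-- The map of points of a packed number. -/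
def app (P : ℕ) (p : GolayPt) : GolayPt := pt (get P (idx p))

theorem app_bijective {P : ℕ} (h : valid P = true) : Function.Bijective (app P) := by
  obtain ⟨hs, -⟩ := valid_iff.mp h
  refine Finite.surjective_iff_bijective.mp fun q => ?_
  obtain ⟨i, hi, he⟩ := hs (idx q) (idx_lt q)
  exact ⟨pt i, by rw [app, idx_pt hi, he, pt_idx]⟩

/-- The permutation of a packed number, `1` if it packs none. -/
noncomputable def permOf (P : ℕ) : Equiv.Perm GolayPt :=
  if h : valid P = true then Equiv.ofBijective _ (app_bijective h) else 1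

theorem permOf_apply {P : ℕ} (h : valid P = true) (p : GolayPt) : permOf P p = app P p := by
  simp [permOf, h]

theorem idx_permOf {P : ℕ} (h : valid P = true) (p : GolayPt) :
    idx (permOf P p) = get P (idx p) := by
  rw [permOf_apply h, app, idx_pt ((valid_iff.mp h).2 _ (idx_lt p))]

theorem eq_permOf {σ : Equiv.Perm GolayPt} {P : ℕ} (h : valid P = true)
    (hf : ∀ i < 24, idx (σ (pt i)) = get P i) : σ = permOf P :=
  Equiv.ext fun p => idx_injective (by rw [idx_permOf h, ← hf _ (idx_lt p), pt_idx])

theorem permOf_idP : permOf idP = 1 :=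
  (eq_permOf valid_idP fun i hi => by rw [Equiv.Perm.one_apply, idx_pt hi, get_idP hi]).symm

theorem valid_comp {P Q : ℕ} (hP : valid P = true) (hQ : valid Q = true) :
    valid (comp P Q) = true := by
  rw [valid_iff] at *
  refine ⟨fun j hj => ?_, fun i hi => ?_⟩
  · obtain ⟨k, hk, rfl⟩ := hP.1 j hj
    obtain ⟨i, hi, rfl⟩ := hQ.1 k hk
    exact ⟨i, hi, get_comp P Q hi⟩
  · rw [get_comp P Q hi]; exact hP.2 _ (hQ.2 i hi)

theorem permOf_comp {P Q : ℕ} (hP : valid P = true) (hQ : valid Q = true) :
    permOf (comp P Q) = permOf P * permOf Q :=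
  (eq_permOf (valid_comp hP hQ) fun i hi => by
    rw [Equiv.Perm.mul_apply, idx_permOf hP, idx_permOf hQ, idx_pt hi, get_comp P Q hi]).symm

theorem permOf_smul_pts {P : ℕ} (h : valid P = true) (m : ℕ) :
    permOf P • pts m = pts (imgMask (get P) m) :=
  smul_pts _ _ (idx_permOf h) m

/-- Whether a packed number is a permutation preserving the code. -/
def inM24 (P : ℕ) : Bool := valid P && basis.all fun b => isCode (imgMask (get P) b)

theorem permOf_mem_M24 {P : ℕ} (h : inM24 P = true) : permOf P ∈ M24 := by
  rw [inM24, Bool.and_eq_true] at h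
  rw [mem_M24_iff]
  intro b hb
  rw [permOf_smul_pts h.1]
  exact mem_supports.mpr ⟨_, mem_codeList.mpr (List.all_eq_true.mp h.2 b hb), rfl⟩

/-- Read entry `i` of a table with entries of `w` bits. -/
def tab (w T i : ℕ) : ℕ := (T >>> (w * i)) % 2 ^ w

/-- A straight-line program step: entry `i` is the product of entries `a`, `b`, or (when `b = i`)
the inverse of entry `a`. -/
def stepOk (T i : ℕ) (ab : ℕ × ℕ) : Bool :=
  decide (ab.1 < i) &&
    if ab.2 = i then valid (tab 120 T i) && (comp (tab 120 T i) (tab 120 T ab.1) == idP)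
    else decide (ab.2 < i) && (comp (tab 120 T ab.1) (tab 120 T ab.2) == tab 120 T i)

/-- Whether the table follows the program after its first `k` entries. -/
def progOk (T : ℕ) : ℕ → List (ℕ × ℕ) → Bool
  | _, [] => true
  | k, ab :: rest => stepOk T k ab && progOk T (k + 1) rest

theorem progOk_sound (H : Subgroup (Equiv.Perm GolayPt)) (T : ℕ) :
    ∀ (prog : List (ℕ × ℕ)) (k : ℕ),
      (∀ i < k, valid (tab 120 T i) = true ∧ permOf (tab 120 T i) ∈ H) →
      progOk T k prog = true →
      ∀ i < k + prog.length, valid (tab 120 T i) = true ∧ permOf (tab 120 T i) ∈ H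
  | [], k, h, _ => by simpa using h
  | ab :: rest, k, h, hok => by
    simp only [progOk, Bool.and_eq_true, stepOk, decide_eq_true_eq] at hok
    obtain ⟨⟨ha, hstep⟩, hrest⟩ := hok
    obtain ⟨hva, hma⟩ := h _ ha
    have hk : valid (tab 120 T k) = true ∧ permOf (tab 120 T k) ∈ H := by
      split at hstep
      · simp only [Bool.and_eq_true, beq_iff_eq] at hstep
        refine ⟨hstep.1, ?_⟩
        have he := permOf_comp hstep.1 hva
        rw [hstep.2, permOf_idP] at he
        rw [eq_inv_of_mul_eq_one_left he.symm]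
        exact H.inv_mem hma
      · simp only [Bool.and_eq_true, beq_iff_eq, decide_eq_true_eq] at hstep
        obtain ⟨hvb, hmb⟩ := h _ hstep.1
        rw [← hstep.2]
        exact ⟨valid_comp hva hvb, by rw [permOf_comp hva hvb]; exact H.mul_mem hma hmb⟩
    intro i hi
    refine progOk_sound H T rest (k + 1) (fun j hj => ?_) hrest i (by simp at hi ⊢; omega)
    rcases Nat.lt_succ_iff_lt_or_eq.mp hj with hj | rfl
    · exact h j hj
    · exact hk

/-- A packed permutation as a point map agreeing with a given one. -/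
theorem eq_permOf_of_fun {σ : Equiv.Perm GolayPt} (g : GolayPt → GolayPt) (hg : ∀ p, σ p = g p)
    {P : ℕ} (h : (valid P && (List.range 24).all fun i => idx (g (pt i)) == get P i) = true) :
    σ = permOf P := by
  simp only [Bool.and_eq_true, List.all_eq_true, List.mem_range, beq_iff_eq] at h
  exact eq_permOf h.1 fun i hi => by rw [hg]; exact h.2 i hi

end Cfsg.Agent.Spor.Golay
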