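import Cfsg.Agent.Lib.Spor.Golay.CensusUse

/-! Orbits singled out by an invariant. -/

set_option autoImplicit false
set_option maxRecDepth 100000

namespace Cfsg.Agent.Spor.Golay.Census

open scoped Pointwise

/-- The members of `U` satisfying a condition fall into the listed orbits, on each of which the invariant
has the listed value. -/
noncomputable def partSetOk (U : Orb) (cond : ℕ → Bool) (inv : ℕ → ℕ) (l : List (Orb × ℕ)) : Bool :=
  (allLt U.n fun i => eqL (U.obj i) [(U.obj i).headD 0] &&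
    (!cond ((U.obj i).headD 0) || List.rec false (fun p _ r => p.1.has (U.obj i) || r) l)) &&
    l.all fun p => allLt p.1.n fun j =>
      eqL (p.1.obj j) [(p.1.obj j).headD 0] && cond ((p.1.obj j).headD 0) &&
        Nat.beq (inv ((p.1.obj j).headD 0)) p.2 && U.has (p.1.obj j)

/-- The same for families. -/
noncomputable def partFamOk (U : Orb) (inv : List ℕ → ℕ) (l : List (Orb × ℕ)) : Bool :=
  (allLt U.n fun i => List.rec false (fun p _ r => p.1.has (U.obj i) || r) l) &&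
    l.all fun p => allLt p.1.n fun j => Nat.beq (inv (p.1.obj j)) p.2 && U.has (p.1.obj j)

theorem exists_has {L : List ℕ} : ∀ {l : List (Orb × ℕ)},
    List.rec false (fun p _ r => p.1.has L || r) l = true → ∃ p ∈ l, p.1.has L = true
  | [], h => absurd (h : false = true) Bool.false_ne_true
  | p :: l, h => by
    have h' : (p.1.has L || List.rec false (fun p _ r => p.1.has L || r) l) = true := h
    rw [Bool.or_eq_true] at h'
    rcases h' with h' | h'
    · exact ⟨p, List.mem_cons_self .., h'⟩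
    · obtain ⟨q, hq, hq'⟩ := exists_has h'
      exact ⟨q, List.mem_cons_of_mem _ hq, hq'⟩

theorem dec_small (k n : ℕ) : ∀ a ∈ dec k n, a < 2 ^ 24 := by
  have key : ∀ k n (acc : List ℕ), (∀ a ∈ acc, a < 2 ^ 24) →
      ∀ a ∈ (Nat.rec (motive := fun _ => ℕ → List ℕ → List ℕ) (fun _ acc => acc)
        (fun _ r n acc => r (Nat.shiftRight n 24) (Nat.land n 16777215 :: acc)) k n acc), a < 2 ^ 24 := by
    intro k
    induction k with
    | zero => exact fun n acc h => h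
    | succ k ih =>
      intro n acc h
      refine ih _ _ fun a ha => ?_
      rcases List.mem_cons.mp ha with rfl | ha
      · exact lt_of_le_of_lt Nat.and_le_right (by norm_num)
      · exact h a ha
  exact key k n [] (by simp)

theorem Orb.small_objs {O : Orb} {L : List ℕ} (h : L ∈ O.objs) : ∀ a ∈ L, a < 2 ^ 24 := by
  obtain ⟨i, -, rfl⟩ := List.mem_map.mp h
  exact dec_small _ _

theorem headD_small {L : List ℕ} (h : ∀ a ∈ L, a < 2 ^ 24) : L.headD 0 < 2 ^ 24 := by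
  cases L with
  | nil => norm_num
  | cons a L => exact h a (List.mem_cons_self ..)

/-- Checked parts, before any distinctness of the values. -/
theorem parts_raw {U : Orb} {cond : ℕ → Bool} {inv : ℕ → ℕ} {l : List (Orb × ℕ)}
    (h : partSetOk U cond inv l = true) (P : Finset GolayPt → Prop)
    (I : Finset GolayPt → ℕ) (hP : ∀ m < 2 ^ 24, cond m = true ↔ P (pts m))
    (hI : ∀ m < 2 ^ 24, inv m = I (pts m)) :
    (∀ p ∈ l, ∀ z ∈ p.1.setSet, z ∈ U.setSet ∧ P z ∧ I z = p.2) ∧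
      ∀ z ∈ U.setSet, P z → ∃ p ∈ l, z ∈ p.1.setSet := by
  simp only [partSetOk, Bool.and_eq_true, List.all_eq_true] at h
  obtain ⟨h1, h2⟩ := h
  have hmem : ∀ p ∈ l, ∀ z ∈ p.1.setSet, z ∈ U.setSet ∧ P z ∧ I z = p.2 := by
    rintro p hp z ⟨L, hL, hz⟩
    have hsm := Orb.small_objs hL
    obtain ⟨j, hj, rfl⟩ := List.mem_map.mp hL
    have h3 := allLt_spec (h2 p hp) j (List.mem_range.mp hj)
    simp only [Bool.and_eq_true] at h3
    obtain ⟨⟨⟨e1, e2⟩, e3⟩, e4⟩ := h3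
    have e1' := eqL_spec e1
    have hz' : z = pts ((p.1.obj j).headD 0) := by
      rw [e1', fam_single] at hz
      exact (Finset.singleton_inj.mp hz).symm
    have hlt := headD_small hsm
    refine ⟨?_, hz' ▸ (hP _ hlt).mp e2, ?_⟩
    · rw [e1'] at e4
      rw [hz']; exact Orb.mem_setSet_of_has e4
    · rw [hz', ← hI _ hlt, Nat.eq_of_beq_eq_true e3]
  have hcov : ∀ z ∈ U.setSet, P z → ∃ p ∈ l, z ∈ p.1.setSet := by
    rintro z ⟨L, hL, hz⟩ hPz
    have hsm := Orb.small_objs hL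
    obtain ⟨i, hi, rfl⟩ := List.mem_map.mp hL
    have h3 := allLt_spec h1 i (List.mem_range.mp hi)
    simp only [Bool.and_eq_true, Bool.or_eq_true, Bool.not_eq_true'] at h3
    obtain ⟨e1, e2⟩ := h3
    have e1' := eqL_spec e1
    have hz' : z = pts ((U.obj i).headD 0) := by
      rw [e1', fam_single] at hz
      exact (Finset.singleton_inj.mp hz).symm
    rcases e2 with e2 | e2
    · exact absurd ((hP _ (headD_small hsm)).mpr (hz' ▸ hPz)) (by simpa using e2)
    · obtain ⟨p, hp, hp'⟩ := exists_has e2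
      rw [e1'] at hp'
      have hm : z ∈ p.1.setSet := hz' ▸ Orb.mem_setSet_of_has hp'
      exact ⟨p, hp, hm⟩
  exact ⟨hmem, hcov⟩

/-- Parts with distinct values are cut out by the invariant. -/
theorem parts_of {β : Type*} {U : Set β} {P : β → Prop} {I : β → ℕ} {S : Orb → Set β} {l : List (Orb × ℕ)}
    (hnd : (l.map Prod.snd).Nodup) (hmem : ∀ p ∈ l, ∀ z ∈ S p.1, z ∈ U ∧ P z ∧ I z = p.2)
    (hcov : ∀ z ∈ U, P z → ∃ p ∈ l, z ∈ S p.1) :
    (∀ p ∈ l, {z | z ∈ U ∧ P z ∧ I z = p.2} = S p.1) ∧ ∀ z ∈ U, P z → ∃ p ∈ l, z ∈ S p.1 ∧ I z = p.2 := by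
  have hcov' : ∀ z ∈ U, P z → ∃ p ∈ l, z ∈ S p.1 ∧ I z = p.2 := fun z hz hP => by
    obtain ⟨p, hp, h⟩ := hcov z hz hP
    exact ⟨p, hp, h, (hmem p hp z h).2.2⟩
  refine ⟨fun p hp => Set.ext fun z => ⟨fun ⟨hz, hPz, hIz⟩ => ?_, fun hz => hmem p hp z hz⟩, hcov'⟩
  obtain ⟨q, hq, hzq, hIq⟩ := hcov' z hz hPz
  rwa [List.inj_on_of_nodup_map hnd hp hq (hIz.symm.trans hIq)]

/-- The parts cut out by an invariant. -/
theorem parts_set {U : Orb} {cond : ℕ → Bool} {inv : ℕ → ℕ} {l : List (Orb × ℕ)}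
    (h : partSetOk U cond inv l = true) (hnd : (l.map Prod.snd).Nodup) (P : Finset GolayPt → Prop)
    (I : Finset GolayPt → ℕ) (hP : ∀ m < 2 ^ 24, cond m = true ↔ P (pts m))
    (hI : ∀ m < 2 ^ 24, inv m = I (pts m)) :
    (∀ p ∈ l, {z | z ∈ U.setSet ∧ P z ∧ I z = p.2} = p.1.setSet) ∧
      ∀ z ∈ U.setSet, P z → ∃ p ∈ l, z ∈ p.1.setSet ∧ I z = p.2 :=
  parts_of (S := Orb.setSet) hnd (parts_raw h P I hP hI).1 (parts_raw h P I hP hI).2

/-- The parts of families cut out by an invariant. -/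
theorem parts_fam {U : Orb} {inv : List ℕ → ℕ} {l : List (Orb × ℕ)} (h : partFamOk U inv l = true)
    (hU : U.nodupOk = true) (hnd : (l.map Prod.snd).Nodup) (I : Finset (Finset GolayPt) → ℕ)
    (hI : ∀ L : List ℕ, incr L = true → (∀ a ∈ L, a < 2 ^ 24) → inv L = I (fam L))
    (hl : ∀ p ∈ l, p.1.nodupOk = true) :
    (∀ p ∈ l, {X | X ∈ U.famSet ∧ I X = p.2} = p.1.famSet) ∧
      ∀ X ∈ U.famSet, ∃ p ∈ l, X ∈ p.1.famSet ∧ I X = p.2 := by
  simp only [partFamOk, Bool.and_eq_true, List.all_eq_true] at h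
  obtain ⟨h1, h2⟩ := h
  have hmem : ∀ p ∈ l, ∀ X ∈ p.1.famSet, X ∈ U.famSet ∧ I X = p.2 := by
    rintro p hp _ ⟨L, hL, rfl⟩
    obtain ⟨hi1, hi2⟩ := (Orb.nodup_objs (hl p hp)).2 L hL
    obtain ⟨j, hj, rfl⟩ := List.mem_map.mp hL
    have h3 := allLt_spec (h2 p hp) j (List.mem_range.mp hj)
    simp only [Bool.and_eq_true] at h3
    exact ⟨Orb.mem_famSet_of_has h3.2, by rw [← hI _ hi1 hi2, Nat.eq_of_beq_eq_true h3.1]⟩
  have hcov : ∀ X ∈ U.famSet, ∃ p ∈ l, X ∈ p.1.famSet ∧ I X = p.2 := by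
    rintro _ ⟨L, hL, rfl⟩
    obtain ⟨i, hi, rfl⟩ := List.mem_map.mp hL
    obtain ⟨p, hp, hp'⟩ := exists_has (allLt_spec h1 i (List.mem_range.mp hi))
    exact ⟨p, hp, Orb.mem_famSet_of_has hp', (hmem p hp _ (Orb.mem_famSet_of_has hp')).2⟩
  refine ⟨fun p hp => Set.ext fun X => ⟨fun ⟨hX, hIX⟩ => ?_, fun hX => hmem p hp X hX⟩, hcov⟩
  obtain ⟨q, hq, hXq, hIq⟩ := hcov X hX
  rwa [List.inj_on_of_nodup_map hnd hp hq (hIX.symm.trans hIq)]

/-- Transport of a count. -/
theorem ncard_transport {β : Type*} [MulAction (Equiv.Perm GolayPt) β] (a : Equiv.Perm GolayPt) {S T : Set β}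
    (h : ∀ z, z ∈ T ↔ a⁻¹ • z ∈ S) : T.ncard = S.ncard := by
  rw [show T = a • S from Set.ext fun z => (h z).trans Set.mem_smul_set_iff_inv_smul_mem.symm, Set.ncard_smul_set]

theorem card_inter_smul (a : Equiv.Perm GolayPt) (s z : Finset GolayPt) :
    ((a • s) ∩ z).card = (s ∩ a⁻¹ • z).card := by
  conv_lhs => rw [show z = a • (a⁻¹ • z) from (smul_inv_smul a z).symm, ← Finset.smul_finset_inter]
  rw [Finset.card_smul_finset]

theorem mem_inv_smul {a : Equiv.Perm GolayPt} {z : Finset GolayPt} {p : GolayPt} :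
    a p ∈ z ↔ p ∈ a⁻¹ • z := by
  rw [Finset.mem_inv_smul_finset_iff, Equiv.Perm.smul_def]

theorem octads_smul {a : Equiv.Perm GolayPt} (ha : a ∈ M24) {z : Finset GolayPt} :
    z ∈ octads ↔ a⁻¹ • z ∈ octads :=
  ⟨fun h => smul_octad (inv_mem ha) h, fun h => by simpa using smul_octad ha h⟩

theorem dodecads_smul {a : Equiv.Perm GolayPt} (ha : a ∈ M24) {z : Finset GolayPt} :
    z ∈ dodecads ↔ a⁻¹ • z ∈ dodecads :=
  ⟨fun h => smul_dodecad (inv_mem ha) h, fun h => by simpa using smul_dodecad ha h⟩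

theorem pt_mem_pts {i m : ℕ} (hi : i < 24) : pt i ∈ pts m ↔ m.testBit i = true := by
  rw [mem_pts, idx_pt hi]

/-- Two members with the same invariant lie in the same part. -/
theorem exists_same_part {β : Type*} {S : Orb → Set β} {l : List (Orb × ℕ)} (hnd : (l.map Prod.snd).Nodup)
    {z w : β} {i j : ℕ} (hz : ∃ p ∈ l, z ∈ S p.1 ∧ i = p.2) (hw : ∃ p ∈ l, w ∈ S p.1 ∧ j = p.2) (h : i = j) :
    ∃ p ∈ l, z ∈ S p.1 ∧ w ∈ S p.1 := by
  obtain ⟨p, hp, h1, rfl⟩ := hz
  obtain ⟨q, hq, h2, rfl⟩ := hw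
  exact ⟨p, hp, h1, by rwa [List.inj_on_of_nodup_map hnd hp hq h]⟩

theorem card_inter_pts (a b : ℕ) : pop (a &&& b) = (pts a ∩ pts b).card := by rw [pts_inter, card_pts]

theorem nonempty_inter_pts (a b : ℕ) : (pts a ∩ pts b).Nonempty ↔ pop (a &&& b) ≠ 0 := by
  rw [card_inter_pts, Finset.card_ne_zero]

/-- Whether six or fewer given points lie in an oct. -/
noncomputable def inOct (m : ℕ) : Bool :=
  !allLt octU.n fun i => !Nat.beq (Nat.land ((octU.obj i).headD 0) m) m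

theorem not_allLt {f : ℕ → Bool} : ∀ {n : ℕ}, allLt n f = false → ∃ i < n, f i = false
  | 0, h => Bool.noConfusion (h : true = false)
  | n + 1, h => by
    have h' : (f n && allLt n f) = false := h
    rcases Bool.and_eq_false_iff.mp h' with h' | h'
    · exact ⟨n, Nat.lt_succ_self n, h'⟩
    · obtain ⟨i, hi, e⟩ := not_allLt h'
      exact ⟨i, hi.trans (Nat.lt_succ_self n), e⟩

theorem octU_single : (allLt octU.n fun i => eqL (octU.obj i) [(octU.obj i).headD 0]) = true := by decide +kernel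

theorem inOct_iff {m : ℕ} (hm : m < 2 ^ 24) : inOct m = true ↔ ∃ o ∈ octads, pts m ⊆ o := by
  have key : ∀ s, s ∈ octads ↔ ∃ i < octU.n, pts ((octU.obj i).headD 0) = s := by
    intro s
    rw [← octU_setSet]
    constructor
    · rintro ⟨L, hL, e⟩
      obtain ⟨i, hi, rfl⟩ := List.mem_map.mp hL
      refine ⟨i, List.mem_range.mp hi, ?_⟩
      rw [eqL_spec (allLt_spec octU_single i (List.mem_range.mp hi)), fam_single] at e
      exact Finset.singleton_inj.mp e
    · rintro ⟨i, hi, rfl⟩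
      refine ⟨_, List.mem_map.mpr ⟨i, List.mem_range.mpr hi, rfl⟩, ?_⟩
      conv_lhs => rw [eqL_spec (allLt_spec octU_single i hi), fam_single]
  rw [inOct, Bool.not_eq_true']
  constructor
  · intro h
    obtain ⟨i, hi, e⟩ := not_allLt h
    refine ⟨_, (key _).mpr ⟨i, hi, rfl⟩, (pts_subset_iff hm).mpr ?_⟩
    rw [Bool.not_eq_false'] at e
    rw [Nat.land_comm]
    exact Nat.eq_of_beq_eq_true e
  · rintro ⟨o, ho, hs⟩
    obtain ⟨i, hi, rfl⟩ := (key o).mp ho
    by_contra hne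
    have := allLt_spec (Bool.eq_true_of_not_eq_false hne) i hi
    have e := (pts_subset_iff hm).mp hs
    rw [Nat.land_comm] at e
    have e' : Nat.land ((octU.obj i).headD 0) m = m := e
    rw [e'] at this
    simp at this

theorem exists_octad_smul {a : Equiv.Perm GolayPt} (ha : a ∈ M24) (s : Finset GolayPt) :
    (∃ o ∈ octads, s ⊆ o) ↔ ∃ o ∈ octads, a⁻¹ • s ⊆ o := by
  constructor
  · rintro ⟨o, ho, hs⟩
    exact ⟨a⁻¹ • o, (octads_smul ha).mp ho, Finset.smul_finset_subset_smul_finset hs⟩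
  · rintro ⟨o, ho, hs⟩
    refine ⟨a • o, smul_octad ha ho, ?_⟩
    have := Finset.smul_finset_subset_smul_finset (a := a) hs
    rwa [smul_inv_smul] at this

/-- The number of members meeting a set. -/
noncomputable def meetCount (Y : ℕ) (L : List ℕ) : ℕ :=
  List.rec 0 (fun a _ r => Bool.rec (r + 1) r (Nat.beq (Nat.land a Y) 0)) L

theorem meetCount_eq {Y : ℕ} (hY : Y < 2 ^ 24) {L : List ℕ} (hL : incr L = true) (hb : ∀ a ∈ L, a < 2 ^ 24) :
    meetCount Y L = ((fam L).filter fun t => (t ∩ pts Y).Nonempty).card := by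
  have hn : ∀ a : ℕ, (pts a ∩ pts Y).Nonempty ↔ a &&& Y ≠ 0 := by
    intro a
    rw [pts_inter, Finset.nonempty_iff_ne_empty, not_iff_not]
    constructor
    · intro h
      refine pts_injOn (lt_of_le_of_lt Nat.and_le_right hY) (by norm_num) (h.trans ?_)
      ext p; simp [mem_pts]
    · rintro h; ext p; simp [mem_pts, h]
  have hnd : L.Nodup := (incr_pairwise hL).imp fun h => h.ne
  have e1 : ((fam L).filter fun t => (t ∩ pts Y).Nonempty) =
      (L.toFinset.filter fun a => a &&& Y ≠ 0).image pts := by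
    ext t
    simp only [fam, Finset.mem_filter, List.mem_toFinset, List.mem_map, Finset.mem_image]
    constructor
    · rintro ⟨⟨a, ha, rfl⟩, h⟩; exact ⟨a, ⟨ha, (hn a).mp h⟩, rfl⟩
    · rintro ⟨a, ⟨ha, h⟩, rfl⟩; exact ⟨⟨a, ha, rfl⟩, (hn a).mpr h⟩
  rw [e1, Finset.card_image_of_injOn fun a ha b hb' e => pts_injOn
    (hb a (List.mem_toFinset.mp (Finset.mem_filter.mp ha).1)) (hb b (List.mem_toFinset.mp (Finset.mem_filter.mp hb').1)) e]
  clear e1 hL hb
  induction L with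
  | nil => rfl
  | cons a L ih =>
    rw [List.nodup_cons] at hnd
    have e : meetCount Y (a :: L) = Bool.rec (meetCount Y L + 1) (meetCount Y L) (Nat.beq (Nat.land a Y) 0) := rfl
    rw [e, List.toFinset_cons, Finset.filter_insert, ih hnd.2]
    by_cases h : a &&& Y = 0
    · rw [if_neg (not_not.mpr h)]
      rw [show Nat.land a Y = 0 from h]
      rfl
    · rw [if_pos h, Finset.card_insert_of_notMem fun hm => hnd.1 (List.mem_toFinset.mp (Finset.mem_filter.mp hm).1)]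
      cases hb : Nat.beq (Nat.land a Y) 0
      · rfl
      · exact absurd (Nat.eq_of_beq_eq_true hb) h

theorem card_filter_smul (a : Equiv.Perm GolayPt) (S : Finset (Finset GolayPt)) (Y : Finset GolayPt) :
    (S.filter fun t => (t ∩ a • Y).Nonempty).card = ((a⁻¹ • S).filter fun t => (t ∩ Y).Nonempty).card := by
  have e : S.filter (fun t => (t ∩ a • Y).Nonempty) = a • ((a⁻¹ • S).filter fun t => (t ∩ Y).Nonempty) := by
    ext t
    rw [← Finset.inv_smul_mem_iff, Finset.mem_filter, Finset.mem_filter, Finset.smul_mem_smul_finset_iff]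
    refine and_congr_right fun _ => ?_
    conv_lhs => rw [show t = a • (a⁻¹ • t) from (smul_inv_smul a t).symm, ← Finset.smul_finset_inter, Finset.smul_finset_nonempty]
  rw [e, Finset.card_smul_finset]

theorem sextets_smul {a : Equiv.Perm GolayPt} (ha : a ∈ M24) {S : Finset (Finset GolayPt)} :
    S ∈ sextets ↔ a⁻¹ • S ∈ sextets :=
  ⟨fun h => smul_sextet (inv_mem ha) h, fun h => by simpa using smul_sextet ha h⟩

theorem trios_smul {a : Equiv.Perm GolayPt} (ha : a ∈ M24) {S : Finset (Finset GolayPt)} :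
    S ∈ trios ↔ a⁻¹ • S ∈ trios :=
  ⟨fun h => smul_trio (inv_mem ha) h, fun h => by simpa using smul_trio ha h⟩

/-- Moving inside a part of sets. -/
theorem move_set {α : Type*} [MulAction (Equiv.Perm GolayPt) α] {y : α} {F : List (List ℕ)} {gens : List ℕ} {n : ℕ}
    (hS : Stage F gens n) (hK : ∀ g : M24, g ∈ MulAction.stabilizer M24 y ↔ (g : Equiv.Perm GolayPt) ∈ Fx F)
    {l : List (Orb × ℕ)} (hl : ∀ p ∈ l, p.1.ok gens = true ∧ eqL (p.1.obj 0) [(p.1.obj 0).headD 0] = true)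
    {a : Equiv.Perm GolayPt} (ha : a ∈ M24) {z w : Finset GolayPt}
    (h : ∃ p ∈ l, a⁻¹ • z ∈ p.1.setSet ∧ a⁻¹ • w ∈ p.1.setSet) :
    ∃ g ∈ M24, g • (a • y) = a • y ∧ g • z = w := by
  obtain ⟨p, hp, h1, h2⟩ := h
  exact exists_move hK (hS.orbit_set (hl p hp).1 (eqL_spec (hl p hp).2)).1 ha h1 h2

/-- Moving inside a part of families. -/
theorem move_fam {α : Type*} [MulAction (Equiv.Perm GolayPt) α] {y : α} {F : List (List ℕ)} {gens : List ℕ} {n : ℕ}
    (hS : Stage F gens n) (hK : ∀ g : M24, g ∈ MulAction.stabilizer M24 y ↔ (g : Equiv.Perm GolayPt) ∈ Fx F)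
    {l : List (Orb × ℕ)} (hl : ∀ p ∈ l, p.1.ok gens = true)
    {a : Equiv.Perm GolayPt} (ha : a ∈ M24) {z w : Finset (Finset GolayPt)}
    (h : ∃ p ∈ l, a⁻¹ • z ∈ p.1.famSet ∧ a⁻¹ • w ∈ p.1.famSet) :
    ∃ g ∈ M24, g • (a • y) = a • y ∧ g • z = w := by
  obtain ⟨p, hp, h1, h2⟩ := h
  exact exists_move hK (hS.orbit (hl p hp)).1 ha h1 h2

/-- The size of a part. -/
theorem count_set {F : List (List ℕ)} {gens : List ℕ} {n : ℕ} (hS : Stage F gens n) {U : Orb}
    {P : Finset GolayPt → Prop} {I : Finset GolayPt → ℕ} {l : List (Orb × ℕ)}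
    (h : ∀ p ∈ l, {z | z ∈ U.setSet ∧ P z ∧ I z = p.2} = p.1.setSet)
    (hl : ∀ p ∈ l, p.1.ok gens = true ∧ eqL (p.1.obj 0) [(p.1.obj 0).headD 0] = true)
    (O : Orb) (c N : ℕ) (hp : (O, c) ∈ l) (hN : O.n = N) (a : Equiv.Perm GolayPt) (T : Set (Finset GolayPt))
    (hT : ∀ z, z ∈ T ↔ a⁻¹ • z ∈ U.setSet ∧ P (a⁻¹ • z) ∧ I (a⁻¹ • z) = c) : T.ncard = N := by
  have e : {z | z ∈ U.setSet ∧ P z ∧ I z = c} = O.setSet := h (O, c) hp
  have hO : O.ok gens = true := (hl (O, c) hp).1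
  have h0 : O.obj 0 = [(O.obj 0).headD 0] := eqL_spec (hl (O, c) hp).2
  rw [ncard_transport (S := {z | z ∈ U.setSet ∧ P z ∧ I z = c}) a hT, e, (hS.orbit_set hO h0).2, hN]

/-- The size of a part of families. -/
theorem count_fam {F : List (List ℕ)} {gens : List ℕ} {n : ℕ} (hS : Stage F gens n) {U : Orb}
    {I : Finset (Finset GolayPt) → ℕ} {l : List (Orb × ℕ)}
    (h : ∀ p ∈ l, {z | z ∈ U.famSet ∧ I z = p.2} = p.1.famSet) (hl : ∀ p ∈ l, p.1.ok gens = true)
    (O : Orb) (c N : ℕ) (hp : (O, c) ∈ l) (hN : O.n = N) (a : Equiv.Perm GolayPt)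
    (T : Set (Finset (Finset GolayPt))) (hT : ∀ z, z ∈ T ↔ a⁻¹ • z ∈ U.famSet ∧ I (a⁻¹ • z) = c) : T.ncard = N := by
  have e : {z | z ∈ U.famSet ∧ I z = c} = O.famSet := h (O, c) hp
  have hO : O.ok gens = true := hl (O, c) hp
  rw [ncard_transport (S := {z | z ∈ U.famSet ∧ I z = c}) a hT, e, (hS.orbit hO).2, hN]

end Cfsg.Agent.Spor.Golay.Census
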