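import Cfsg.Agent.Lib.Spor.Golay.CensusClasses
import Cfsg.Agent.Lib.Spor.Golay.CensusParts

/-! Configurations fixed by an element, and the centraliser of a free involution. -/

set_option autoImplicit false
set_option maxRecDepth 100000

namespace Cfsg.Agent.Spor.Golay.Census

open scoped Pointwise

/-- Image table of a representative. -/
def tabTwo0 : ℕ := 0x7000206000205000204000203000202000201000200000207000006000005000004000003000002000001000000000000d40000540000d00000500000940000140000900000100000c40000440000c0000040000084000004000080000000000022500022100020500020100002500002100000500000100022400022000020400020000002400002000000400000000009a00001a00009800001800008a00000a000088000008000092000012000090000010000082000002000080000000008000d08000500000d00000508000908000100000900000108000c08000400000c000004080008080000000008000000000000f00000d00000e00000c00000700000500000600000400000b00000900000a000008000003000001000002000000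

/-- Image table of a representative. -/
def tabTwo1 : ℕ := 0x62040060040022040020040062000060000022000020000042040040040002040000040042000040000002000000000a08100a00100208100200100808100800100008100000100a08000a00000208000200000808000800000008000000000110420110020010420010020110400110000010400010000100420100020000420000020100400100000000400000000081a00001a00081200001200080a00000a0008020000020008180000180008100000100008080000080008000000000040409040401040009040001000409000401000009000001040408040400040008040000000408000400000008000000000000f00000d00000e00000c00000700000500000600000400000b00000900000a000008000003000001000002000000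

/-- Image table of a representative. -/
def tabThree0 : ℕ := 0x818040808040018040008040810040800040010040000040818000808000018000008000810000800000010000000000480120480100480020480000080120080100080020080000400120400100400020400000000120000100000020000000046008046000044008044000042008042000040008040000006008006000004008004000002008002000000008000000020e00020c00000e00000c00020a00020800000a00000800020600020400000600000400020200020000000200000000301080300080201080200080101080100080001080000080301000300000201000200000101000100000001000000000000017000015000013000011000016000014000012000010000007000005000003000001000006000004000002000000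

/-- Image table of a representative. -/
def tabThree1 : ℕ := 0x18c00018800008c00008800010c00010800000c000008000184000180000084000080000104000100000004000000000000c48000c40000448000440000c08000c00000408000400000848000840000048000040000808000800000008000000202180200180202080200080002180000180002080000080202100200100202000200000002100000100002000000000441020440020401020400020041020040020001020000020441000440000401000400000041000040000001000000000830200820200810200800200830000820000810000800000030200020200010200000200030000020000010000000000000017000015000013000011000016000014000012000010000007000005000003000001000006000004000002000000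

/-- Each member is fixed or moved to another member, and exactly `n` are fixed. -/
noncomputable def fixedOk (T : ℕ) (U : Orb) (n : ℕ) : Bool :=
  (allLt U.n fun i => eqL (imgF T (U.obj i)) (U.obj i) || U.has (imgF T (U.obj i))) &&
    Nat.beq ((List.range U.n).filter fun i => eqL (imgF T (U.obj i)) (U.obj i)).length n

theorem eqL_refl : ∀ L : List ℕ, eqL L L = true
  | [] => rfl
  | a :: L => by
    show (Nat.beq a a && eqL L L) = true
    rw [eqL_refl L]; simp

theorem ncard_fixed {P T : ℕ} (hP : valid P = true) (hT : tableFits P T = true) {U : Orb}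
    (hU : U.nodupOk = true) {n : ℕ} (h : fixedOk T U n = true) :
    {X | X ∈ U.famSet ∧ permOf P • X = X}.ncard = n := by
  classical
  simp only [fixedOk, Bool.and_eq_true] at h
  obtain ⟨h1, h2⟩ := h
  obtain ⟨hnd, hL⟩ := Orb.nodup_objs hU
  have hobj : ∀ i < U.n, U.obj i ∈ U.objs := fun i hi => List.mem_map.mpr ⟨i, List.mem_range.mpr hi, rfl⟩
  have key : ∀ i < U.n, permOf P • fam (U.obj i) = fam (U.obj i) ↔ eqL (imgF T (U.obj i)) (U.obj i) = true := by
    intro i hi
    rw [← fam_imgF hP hT]
    refine ⟨fun e => ?_, fun e => by rw [eqL_spec e]⟩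
    rcases Bool.or_eq_true _ _ ▸ allLt_spec h1 i hi with h3 | h3
    · exact h3
    · have h4 := Orb.mem_of_has U h3
      rw [fam_inj (hL _ h4).1 (hL _ (hobj i hi)).1 (hL _ h4).2 (hL _ (hobj i hi)).2 e]
      exact eqL_refl _
  have e : {X | X ∈ U.famSet ∧ permOf P • X = X} =
      ↑(((List.range U.n).filter fun i => eqL (imgF T (U.obj i)) (U.obj i)).toFinset.image fun i => fam (U.obj i)) := by
    ext X
    simp only [Set.mem_setOf_eq, Finset.coe_image, Set.mem_image, Finset.mem_coe, List.mem_toFinset, List.mem_filter,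
      List.mem_range]
    constructor
    · rintro ⟨⟨L, hL', rfl⟩, hX⟩
      obtain ⟨i, hi, rfl⟩ := List.mem_map.mp hL'
      rw [List.mem_range] at hi
      exact ⟨i, ⟨hi, (key i hi).mp hX⟩, rfl⟩
    · rintro ⟨i, ⟨hi, hf⟩, rfl⟩
      exact ⟨⟨_, hobj i hi, rfl⟩, (key i hi).mpr hf⟩
  rw [e, Set.ncard_coe_finset, Finset.card_image_of_injOn ?_,
    List.toFinset_card_of_nodup (List.nodup_range.filter _), Nat.eq_of_beq_eq_true h2]
  intro i hi j hj e'
  simp only [Finset.mem_coe, List.mem_toFinset, List.mem_filter, List.mem_range] at hi hj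
  have := fam_inj (hL _ (hobj i hi.1)).1 (hL _ (hobj j hj.1)).1 (hL _ (hobj i hi.1)).2 (hL _ (hobj j hj.1)).2 e'
  exact (List.nodup_map_iff_inj_on List.nodup_range).mp hnd _ (List.mem_range.mpr hi.1) _ (List.mem_range.mpr hj.1) this

theorem ncard_fixed_set {P T : ℕ} (hP : valid P = true) (hT : tableFits P T = true) {U : Orb}
    (hU : U.nodupOk = true) {n : ℕ} (h : fixedOk T U n = true)
    (hone : ∀ L ∈ U.objs, ∃ m, L = [m]) : {s | s ∈ U.setSet ∧ permOf P • s = s}.ncard = n := by
  rw [← ncard_fixed hP hT hU h, ← Set.ncard_image_of_injective _ Finset.singleton_injective]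
  congr 1
  ext X
  constructor
  · rintro ⟨s, ⟨hs, he⟩, rfl⟩
    exact ⟨hs, by rw [Finset.smul_finset_singleton, he]⟩
  · rintro ⟨⟨L, hL, rfl⟩, he⟩
    obtain ⟨m, rfl⟩ := hone L hL
    rw [fam_single] at he ⊢
    rw [Finset.smul_finset_singleton, Finset.singleton_inj] at he
    exact ⟨pts m, ⟨⟨[m], hL, fam_single m⟩, he⟩, rfl⟩

theorem ncard_fixed_conj {β : Type*} [MulAction (Equiv.Perm GolayPt) β] {k g h : Equiv.Perm GolayPt}
    (e : k * g * k⁻¹ = h) (U : Set β) (hU : ∀ z, z ∈ U ↔ k • z ∈ U) :
    {z | z ∈ U ∧ g • z = z}.ncard = {z | z ∈ U ∧ h • z = z}.ncard := by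
  refine ncard_transport k⁻¹ fun z => ?_
  simp only [Set.mem_setOf_eq, inv_inv, ← hU z]
  rw [← e, mul_smul, mul_smul, inv_smul_smul, smul_left_cancel_iff]

theorem single_objs {U : Orb} (h : (allLt U.n fun i => eqL (U.obj i) [(U.obj i).headD 0]) = true) :
    ∀ L ∈ U.objs, ∃ m, L = [m] := by
  intro L hL
  obtain ⟨i, hi, rfl⟩ := List.mem_map.mp hL
  exact ⟨_, eqL_spec (allLt_spec h i (List.mem_range.mp hi))⟩

theorem nodupOk_of_ok {U : Orb} {gens : List ℕ} (h : U.ok gens = true) : U.nodupOk = true := by
  simp only [Orb.ok, Bool.and_eq_true] at h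
  exact h.2

theorem dodU_single : (allLt dodU.n fun i => eqL (dodU.obj i) [(dodU.obj i).headD 0]) = true := by decide +kernel

/-- The count of fixed octs. -/
theorem fixed_octads {P T n : ℕ} (hP : valid P = true) (hT : tableFits P T = true) (h : fixedOk T octU n = true)
    {k g : Equiv.Perm GolayPt} (hk : k ∈ M24) (e : k * g * k⁻¹ = permOf P) :
    {o : Finset GolayPt | o ∈ octads ∧ g • o = o}.ncard = n := by
  have h1 := ncard_fixed_set hP hT (nodupOk_of_ok octU_ok) h (single_objs octU_single)
  rw [octU_setSet] at h1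
  exact (ncard_fixed_conj e octads fun z => by simpa using octads_smul (inv_mem hk) (z := z)).trans h1

theorem fixed_dodecads {P T n : ℕ} (hP : valid P = true) (hT : tableFits P T = true) (h : fixedOk T dodU n = true)
    {k g : Equiv.Perm GolayPt} (hk : k ∈ M24) (e : k * g * k⁻¹ = permOf P) :
    {d : Finset GolayPt | d ∈ dodecads ∧ g • d = d}.ncard = n := by
  have h1 := ncard_fixed_set hP hT (nodupOk_of_ok dodU_ok) h (single_objs dodU_single)
  rw [dodU_setSet] at h1
  exact (ncard_fixed_conj e dodecads fun z => by simpa using dodecads_smul (inv_mem hk) (z := z)).trans h1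

theorem fixed_trios {P T n : ℕ} (hP : valid P = true) (hT : tableFits P T = true) (h : fixedOk T trioU n = true)
    {k g : Equiv.Perm GolayPt} (hk : k ∈ M24) (e : k * g * k⁻¹ = permOf P) :
    {X : Finset (Finset GolayPt) | X ∈ trios ∧ g • X = X}.ncard = n := by
  have h1 := ncard_fixed hP hT (nodupOk_of_ok trioU_ok) h
  rw [trioU_famSet] at h1
  exact (ncard_fixed_conj e trios fun z => by simpa using trios_smul (inv_mem hk) (S := z)).trans h1

theorem fixed_sextets {P T n : ℕ} (hP : valid P = true) (hT : tableFits P T = true) (h : fixedOk T sextU n = true)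
    {k g : Equiv.Perm GolayPt} (hk : k ∈ M24) (e : k * g * k⁻¹ = permOf P) :
    {X : Finset (Finset GolayPt) | X ∈ sextets ∧ g • X = X}.ncard = n := by
  have h1 := ncard_fixed hP hT (nodupOk_of_ok sextU_ok) h
  rw [sextU_famSet] at h1
  exact (ncard_fixed_conj e sextets fun z => by simpa using sextets_smul (inv_mem hk) (S := z)).trans h1

theorem counts_two8 : tableFits (repTwo.getD 0 0) tabTwo0 = true ∧ fixedOk tabTwo0 octU 71 = true ∧
    fixedOk tabTwo0 trioU 99 = true ∧ fixedOk tabTwo0 sextU 91 = true := by decide +kernel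

theorem counts_two0 : tableFits (repTwo.getD 1 0) tabTwo1 = true ∧ fixedOk tabTwo1 octU 15 = true ∧
    fixedOk tabTwo1 trioU 75 = true ∧ fixedOk tabTwo1 sextU 51 = true := by decide +kernel

theorem counts_three6 : tableFits (repThree.getD 0 0) tabThree0 = true ∧ fixedOk tabThree0 octU 21 = true ∧
    fixedOk tabThree0 trioU 15 = true ∧ fixedOk tabThree0 sextU 16 = true ∧
    fixedOk tabThree0 dodU 20 = true := by decide +kernel

theorem counts_three0 : tableFits (repThree.getD 1 0) tabThree1 = true ∧ fixedOk tabThree1 sextU 7 = true ∧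
    fixedOk tabThree1 trioU 15 = true := by decide +kernel

/-! ### The centraliser of a free involution -/

/-- Compatibility with a permutation on the positions fixed so far. -/
def commTest (t Q : ℕ) (cs : List ℕ) : Bool :=
  cs.all fun b => !Nat.blt b 24 || !(cs.any fun c => Nat.beq c (get t b)) || Nat.beq (get Q (get t b)) (get t (get Q b))

/-- The elements fixing the first two positions and commuting with `t`. -/
def centList (t : ℕ) : List ℕ :=
  (cands table (commTest t) idP [1, 0] (chainA.drop 2)).filter fun R => Nat.beq (comp R t) (comp t R)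

theorem cent_checks : lowOk table [] [1, 0] (chainA.drop 2) = true ∧ upOk [] [1, 0] (chainA.drop 2) = true ∧
    idxOk tableLen (chainA.drop 2) = true ∧ (centList (repTwo.getD 1 0)).length = 320 ∧
    get (repTwo.getD 1 0) 0 = 1 ∧ fixOk [sextU.obj 0] centG = true ∧
    sizeOk centG centT centP centL = true ∧ sizeProd centL = 7680 ∧ imgF tabTwo1 (sextU.obj 0) = sextU.obj 0 ∧
    ((List.range centG.length).all fun i =>
      Nat.beq (comp (centG.getD i 0) (repTwo.getD 1 0)) (comp (repTwo.getD 1 0) (centG.getD i 0))) = true := by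
  decide +kernel

/-- The representative of the free involutions. -/
noncomputable def tf : Equiv.Perm GolayPt := permOf (repTwo.getD 1 0)

/-- Its centraliser in the code group. -/
noncomputable def centTf : Subgroup (Equiv.Perm GolayPt) := M24 ⊓ Subgroup.centralizer {tf}

theorem mem_centTf {c : Equiv.Perm GolayPt} : c ∈ centTf ↔ c ∈ M24 ∧ c * tf = tf * c := by
  rw [centTf, Subgroup.mem_inf, Subgroup.mem_centralizer_singleton_iff]

theorem valid_tf : valid (repTwo.getD 1 0) = true := List.all_eq_true.mp two_checks.2.2.2.2.2.1 _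
  (by decide +kernel)

theorem mem_centTf_list {c : Equiv.Perm GolayPt} (hc : c ∈ centTf) (h0 : c (pt 0) = pt 0) :
    ∃ R ∈ centList (repTwo.getD 1 0), permOf R = c := by
  obtain ⟨h1, h2, h3, -, ht0, -⟩ := cent_checks
  obtain ⟨hM, hcom⟩ := mem_centTf.mp hc
  have hvt := valid_tf
  have hap : ∀ p, c (tf p) = tf (c p) := fun p => Equiv.congr_fun hcom p
  have e1 : tf (pt 0) = pt 1 := idx_injective (by
    rw [tf, idx_permOf hvt, idx_pt (by norm_num), ht0, idx_pt (by norm_num)])
  have hb : (permOf idP)⁻¹ * c ∈ Fix [] [1, 0] := by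
    rw [permOf_idP, inv_one, one_mul]
    refine mem_Fix.mpr ⟨hM, fun x hx => absurd hx List.not_mem_nil, fun b hb => ?_⟩
    simp only [List.mem_cons, List.not_mem_nil, or_false] at hb
    rcases hb with rfl | rfl
    · rw [← e1, hap, h0]
    · exact h0
  obtain ⟨R, hR, hv, e⟩ := mem_cands tableOk (commTest (repTwo.getD 1 0)) (fun Q cs hQ hag => by
      simp only [commTest, List.all_eq_true, Bool.or_eq_true, Bool.not_eq_true', List.any_eq_false]
      intro b hb
      by_cases hb24 : b < 24
      · by_cases hm : get (repTwo.getD 1 0) b ∈ cs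
        · refine Or.inr ?_
          have e2 := hag b hb
          have e3 := hag _ hm
          have hlt : get (repTwo.getD 1 0) b < 24 := (valid_iff.mp hvt).2 b hb24
          have e5 : tf (pt b) = pt (get (repTwo.getD 1 0) b) :=
            idx_injective (by rw [tf, idx_permOf hvt, idx_pt hlt, idx_pt hb24])
          have e4 := congrArg idx (hap (pt b))
          rw [e5, ← e3, ← e2, idx_permOf hQ, idx_pt hlt, tf, idx_permOf hvt, idx_permOf hQ, idx_pt hb24] at e4
          rw [e4]
          exact Nat.beq_refl _
        · exact Or.inl (Or.inr fun x hx e => hm (Nat.eq_of_beq_eq_true e ▸ hx))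
      · refine Or.inl (Or.inl ?_)
        cases hbl : Nat.blt b 24
        · rfl
        · exact absurd (lt_of_blt hbl) hb24) _ _ _ valid_idP h1 h2 h3 hb
  refine ⟨R, List.mem_filter.mpr ⟨hR, ?_⟩, e⟩
  have h4 : permOf (comp R (repTwo.getD 1 0)) = permOf (comp (repTwo.getD 1 0) R) := by
    rw [permOf_comp hv hvt, permOf_comp hvt hv, e]; exact hcom
  have h5 : comp R (repTwo.getD 1 0) = comp (repTwo.getD 1 0) R := pack_ext 24 _ _ fun i hi => by
    have := congrArg (fun p : Equiv.Perm GolayPt => idx (p (pt i))) h4
    rwa [idx_permOf (valid_comp hv hvt), idx_permOf (valid_comp hvt hv), idx_pt hi, get_comp _ _ hi, get_comp _ _ hi]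
      at this
  rw [h5]
  exact Nat.beq_refl _

theorem tf_mem : tf ∈ M24 := permOf_mem_M24 (List.all_eq_true.mp two_checks.2.2.2.2.2.2.1 _ (by decide +kernel))

/-- The stabiliser of the first position in the centraliser. -/
noncomputable def centTf0 : Subgroup ↥centTf := MulAction.stabilizer ↥centTf (pt 0)

theorem card_centTf0 : Nat.card centTf0 ≤ 320 := by
  classical
  have h : ∀ c : centTf0, ∃ R ∈ centList (repTwo.getD 1 0), permOf R = (c.1.1 : Equiv.Perm GolayPt) :=
    fun c => mem_centTf_list c.1.2 c.2
  choose f hf1 hf2 using h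
  have := Nat.card_le_card_of_injective (fun c => (⟨f c, List.mem_toFinset.mpr (hf1 c)⟩ : (centList (repTwo.getD 1 0)).toFinset))
    fun a b e => by
      have e' : f a = f b := congrArg Subtype.val e
      exact Subtype.ext (Subtype.ext (by rw [← hf2 a, ← hf2 b, e']))
  refine this.trans ?_
  rw [Nat.card_eq_fintype_card, Fintype.card_coe]
  exact (List.toFinset_card_le _).trans cent_checks.2.2.2.1.le

theorem grp_centG : validAll centG = true ∧ grp centG ≤ centTf ∧ 7680 ≤ Nat.card (grp centG) := by
  obtain ⟨-, -, -, -, -, hf, hs, hp, -, hc⟩ := cent_checks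
  obtain ⟨hv, -⟩ := grp_le_Fx hf
  refine ⟨hv, (Subgroup.closure_le _).mpr ?_, hp.symm.le.trans (sizeOk_le hv hs)⟩
  rintro _ ⟨P, hP, rfl⟩
  have hM : permOf P ∈ M24 := (mem_Fx.mp ((grp_le_Fx hf).2 (mem_grp hP))).1
  obtain ⟨i, hi, rfl⟩ := List.getElem_of_mem hP
  have h2 := List.all_eq_true.mp hc i (List.mem_range.mpr hi)
  rw [List.getD_eq_getElem _ _ hi] at h2
  refine mem_centTf.mpr ⟨hM, ?_⟩
  have hv' := List.all_eq_true.mp hv _ (List.getElem_mem hi)
  rw [tf, ← permOf_comp hv' valid_tf, ← permOf_comp valid_tf hv', Nat.eq_of_beq_eq_true h2]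

/-- The centraliser has order 7680, is generated by the listed elements and is transitive. -/
theorem centTf_facts : Nat.card centTf = 7680 ∧ centTf = grp centG ∧ Nat.card centTf0 = 320 ∧
    MulAction.orbit ↥centTf (pt 0) = Set.univ := by
  classical
  obtain ⟨-, hle, hlo⟩ := grp_centG
  have h1 := Nat.card_congr (MulAction.orbitProdStabilizerEquivGroup ↥centTf (pt 0))
  rw [Nat.card_prod] at h1
  have h2 : Nat.card (MulAction.orbit ↥centTf (pt 0)) ≤ 24 := by
    refine (Finite.card_subtype_le _).trans ?_
    rw [Nat.card_eq_fintype_card, card_golayPt]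
  have h3 := card_centTf0
  have h4 : 7680 ≤ Nat.card centTf :=
    hlo.trans (Nat.card_le_card_of_injective _ (Subgroup.inclusion_injective hle))
  have h5 : Nat.card (MulAction.orbit ↥centTf (pt 0)) * Nat.card centTf0 = Nat.card centTf := h1
  have h6 := Nat.mul_le_mul h2 h3
  have hcard : Nat.card centTf = 7680 := by omega
  have horb : Nat.card (MulAction.orbit ↥centTf (pt 0)) = 24 ∧ Nat.card centTf0 = 320 := by
    have h7 : Nat.card centTf0 = 320 := by
      by_contra hne
      have := Nat.mul_le_mul h2 (show Nat.card centTf0 ≤ 319 by omega)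
      omega
    rw [h7] at h5
    exact ⟨by omega, h7⟩
  refine ⟨hcard, (Subgroup.eq_of_le_of_card_ge hle (hcard.le.trans hlo)).symm, horb.2, ?_⟩
  refine Set.eq_of_subset_of_ncard_le (Set.subset_univ _) ?_ (Set.toFinite _)
  rw [Set.ncard_univ, ← Nat.card_coe_set_eq, horb.1, Nat.card_eq_fintype_card, card_golayPt]

theorem centTf_transitive (p q : GolayPt) : ∃ c ∈ centTf, c p = q := by
  have h := centTf_facts.2.2.2
  obtain ⟨a, ha⟩ : p ∈ MulAction.orbit ↥centTf (pt 0) := h ▸ Set.mem_univ p
  obtain ⟨b, hb⟩ : q ∈ MulAction.orbit ↥centTf (pt 0) := h ▸ Set.mem_univ q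
  refine ⟨(b * a⁻¹ : ↥centTf), (b * a⁻¹).2, ?_⟩
  show (b * a⁻¹) • p = q
  rw [← ha, ← hb, mul_smul, inv_smul_smul]

theorem centTf_sextet : fam (sextU.obj 0) ∈ sextets ∧ tf • fam (sextU.obj 0) = fam (sextU.obj 0) ∧
    ∀ c ∈ centTf, c • fam (sextU.obj 0) = fam (sextU.obj 0) := by
  obtain ⟨-, -, -, -, -, hf, -, -, ht, -⟩ := cent_checks
  have hK : ∀ c ∈ centTf, c • fam (sextU.obj 0) = fam (sextU.obj 0) := fun c hc => by
    rw [centTf_facts.2.1] at hc
    exact (mem_Fx.mp ((grp_le_Fx hf).2 hc)).2 _ (List.mem_cons_self ..)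
  refine ⟨?_, hK _ (mem_centTf.mpr ⟨tf_mem, rfl⟩), hK⟩
  rw [← sextU_famSet]
  refine ⟨_, List.mem_map.mpr ⟨0, List.mem_range.mpr ?_, rfl⟩, rfl⟩
  rw [sext_base.1]; norm_num

/-- A free involution and a commuting element of order three leave no point fixed. -/
theorem no_fixed {x s : Equiv.Perm GolayPt} (hx : x ∈ M24) (hs : s ∈ M24) (h3 : orderOf x = 3) (h2 : orderOf s = 2)
    (hs0 : ∀ p, s p ≠ p) (hc : Commute x s) : ∀ p, x p ≠ p := by
  intro p hp
  obtain ⟨k, hk, ⟨h8, -⟩ | ⟨-, e⟩⟩ := two_classes hs h2
  · rw [(fix_zero_iff s).mpr hs0] at h8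
    omega
  · obtain ⟨c, hc', hcp⟩ := centTf_transitive (k p) (pt 0)
    obtain ⟨hcM, hct⟩ := mem_centTf.mp hc'
    have hy : c * (k * x * k⁻¹) * c⁻¹ ∈ centTf := by
      refine mul_mem (mul_mem hc' (mem_centTf.mpr ⟨mul_mem (mul_mem hk hx) (inv_mem hk), ?_⟩)) (inv_mem hc')
      rw [tf, ← e, show k * x * k⁻¹ * (k * s * k⁻¹) = k * (x * s) * k⁻¹ by group, hc.eq]
      group
    have h0 : (c * (k * x * k⁻¹) * c⁻¹) (pt 0) = pt 0 := by
      rw [← hcp]
      simp [hp]
    have hord : orderOf (c * (k * x * k⁻¹) * c⁻¹) = 3 := by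
      rw [show c * (k * x * k⁻¹) * c⁻¹ = MulAut.conj (c * k) x by rw [MulAut.conj_apply]; group,
        (MulAut.conj (c * k)).orderOf_eq, h3]
    obtain ⟨z, hz⟩ : ∃ z : centTf0, (z.1.1 : Equiv.Perm GolayPt) = c * (k * x * k⁻¹) * c⁻¹ := ⟨⟨⟨_, hy⟩, h0⟩, rfl⟩
    have hd := orderOf_dvd_natCard z
    rw [centTf_facts.2.2.1, ← Subgroup.orderOf_coe, ← Subgroup.orderOf_coe, hz, hord] at hd
    norm_num at hd

end Cfsg.Agent.Spor.Golay.Census
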