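import Mathlib
import Cfsg.Prelude.Def_Sporadic_a

/-! The length-24 binary code `golayCode` as a list of 4096 bit masks, for evaluation by `decide`.
Point `some x` is bit `x.val`, the extra point is bit 23. -/

set_option autoImplicit false
set_option maxRecDepth 100000

namespace Cfsg.Agent.Spor.Golay

/-- The bit position of a point. -/
def idx : GolayPt → ℕ
  | none => 23
  | some x => x.val

/-- The point at a bit position. -/
def pt (i : ℕ) : GolayPt := if i < 23 then some (i : ZMod 23) else none

theorem idx_lt (p : GolayPt) : idx p < 24 := by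
  revert p; decide +kernel

theorem pt_idx (p : GolayPt) : pt (idx p) = p := by
  revert p; decide +kernel

theorem idx_pt {i : ℕ} (h : i < 24) : idx (pt i) = i := by
  revert i; decide +kernel

theorem idx_injective : Function.Injective idx :=
  Function.LeftInverse.injective pt_idx

/-- The word with a given mask. -/
def vec (m : ℕ) : GolayPt → ZMod 2 := fun p => if m.testBit (idx p) then 1 else 0

/-- The set of points of a mask. -/
def pts (m : ℕ) : Finset GolayPt := Finset.univ.filter fun p => m.testBit (idx p) = true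

theorem mem_pts {m : ℕ} {p : GolayPt} : p ∈ pts m ↔ m.testBit (idx p) = true := by
  simp [pts]

theorem support_vec (m : ℕ) : support₂ (vec m) = pts m := by
  ext p
  by_cases h : m.testBit (idx p) <;> simp [support₂, vec, pts, h]

theorem vec_zero : vec 0 = 0 := by funext p; simp [vec]

theorem vec_xor (a b : ℕ) : vec (a ^^^ b) = vec a + vec b := by
  funext p
  simp only [vec, Nat.testBit_xor, Pi.add_apply]
  cases a.testBit (idx p) <;> cases b.testBit (idx p) <;> decide

theorem pts_inter (a b : ℕ) : pts a ∩ pts b = pts (a &&& b) := by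
  ext p; simp [mem_pts]

theorem pts_union (a b : ℕ) : pts a ∪ pts b = pts (a ||| b) := by
  ext p; simp [mem_pts]

theorem pts_symmDiff (a b : ℕ) : symmDiff (pts a) (pts b) = pts (a ^^^ b) := by
  ext p
  simp only [Finset.mem_symmDiff, mem_pts, Nat.testBit_xor]
  cases a.testBit (idx p) <;> cases b.testBit (idx p) <;> simp

theorem pts_compl (a : ℕ) : (pts a)ᶜ = pts (16777215 ^^^ a) := by
  ext p
  have hall : ∀ q : GolayPt, Nat.testBit 16777215 (idx q) = true := by decide +kernel
  simp only [Finset.mem_compl, mem_pts, Nat.testBit_xor, hall p]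
  cases a.testBit (idx p) <;> simp

theorem testBit_eq_false {m i : ℕ} (hm : m < 2 ^ 24) (hi : 24 ≤ i) : m.testBit i = false :=
  Nat.testBit_lt_two_pow (hm.trans_le (Nat.pow_le_pow_right two_pos hi))

theorem pts_injOn {a b : ℕ} (ha : a < 2 ^ 24) (hb : b < 2 ^ 24) (h : pts a = pts b) : a = b := by
  refine Nat.eq_of_testBit_eq fun i => ?_
  by_cases hi : i < 24
  · have := congrArg (fun s : Finset GolayPt => pt i ∈ s) h
    simp only [mem_pts, idx_pt hi, eq_iff_iff] at this
    exact Bool.eq_iff_iff.mpr this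
  · rw [testBit_eq_false ha (by omega), testBit_eq_false hb (by omega)]

theorem pts_subset_iff {a b : ℕ} (ha : a < 2 ^ 24) : pts a ⊆ pts b ↔ a &&& b = a := by
  constructor
  · intro h
    refine Nat.eq_of_testBit_eq fun i => ?_
    rw [Nat.testBit_and]
    by_cases hai : a.testBit i = true
    · have hi : i < 24 := by
        by_contra hi
        rw [testBit_eq_false ha (by omega)] at hai
        exact Bool.false_ne_true hai
      have := h (mem_pts.mpr (by rwa [idx_pt hi]) : pt i ∈ pts a)
      rw [mem_pts, idx_pt hi] at this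
      rw [hai, this]; rfl
    · simp [Bool.not_eq_true _ ▸ hai]
  · intro h p hp
    rw [mem_pts] at hp ⊢
    rw [← h, Nat.testBit_and, Bool.and_eq_true] at hp
    exact hp.2

/-- Number of points of a mask. -/
def pop (m : ℕ) : ℕ :=
  Nat.rec 0 (fun i acc => (m >>> i) % 2 + acc) 24

theorem sum_bits (m : ℕ) : ∀ n : ℕ, (∑ i ∈ Finset.range n, if m.testBit i = true then 1 else 0) =
    Nat.rec (motive := fun _ => ℕ) 0 (fun i acc => (m >>> i) % 2 + acc) n
  | 0 => rfl
  | k + 1 => by
    rw [Finset.sum_range_succ, sum_bits m k]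
    show _ = (m >>> k) % 2 + _
    rw [Nat.testBit_eq_decide_div_mod_eq, Nat.shiftRight_eq_div_pow, add_comm]
    rcases Nat.mod_two_eq_zero_or_one (m / 2 ^ k) with h | h <;> simp [h]

theorem card_pts (m : ℕ) : (pts m).card = pop m := by
  have hbij : (pts m).card = ((Finset.range 24).filter fun i => m.testBit i = true).card := by
    refine Finset.card_bij (fun p _ => idx p) ?_ ?_ ?_
    · intro p hp
      simp [Finset.mem_filter, idx_lt, mem_pts.mp hp]
    · intro p _ q _ h
      exact idx_injective h
    · intro i hi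
      rw [Finset.mem_filter, Finset.mem_range] at hi
      exact ⟨pt i, mem_pts.mpr (by rw [idx_pt hi.1]; exact hi.2), idx_pt hi.1⟩
  rw [hbij, Finset.card_filter, sum_bits]
  rfl

theorem hammingNorm_vec (m : ℕ) : hammingNorm (vec m) = pop m := by
  rw [← card_pts, ← support_vec]
  rfl

/-- A systematic basis: the `j`th mask has bit `i < 12` exactly when `i = j`. -/
def basis : List ℕ :=
  [13062145, 4845570, 13938692, 7221256, 10170384, 11952160, 15515712, 2019456, 4038912,
    8077824, 11654144, 14919680]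

/-- Encode the twelve low bits `k` with the basis. -/
def encAux (k : ℕ) : ℕ → List ℕ → ℕ
  | _, [] => 0
  | i, b :: L => (if k.testBit i then b else 0) ^^^ encAux k (i + 1) L

/-- The code word with low bits `k`. -/
def enc (k : ℕ) : ℕ := encAux k 0 basis

/-- Whether a mask is a code word. -/
def isCode (m : ℕ) : Bool := enc (m % 4096) == m

theorem encAux_xor (a b : ℕ) : ∀ (L : List ℕ) (i : ℕ),
    encAux (a ^^^ b) i L = encAux a i L ^^^ encAux b i L
  | [], _ => by simp [encAux]
  | c :: L, i => by
    simp only [encAux, encAux_xor a b L (i + 1), Nat.testBit_xor]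
    generalize encAux a (i + 1) L = x
    generalize encAux b (i + 1) L = y
    cases a.testBit i <;> cases b.testBit i <;> simp [Nat.xor_assoc, Nat.xor_comm, Nat.xor_left_comm]

theorem enc_xor (a b : ℕ) : enc (a ^^^ b) = enc a ^^^ enc b := encAux_xor a b _ _

theorem mod_xor (a b : ℕ) : (a ^^^ b) % 4096 = (a % 4096) ^^^ (b % 4096) := by
  refine Nat.eq_of_testBit_eq fun i => ?_
  have e : (4096 : ℕ) = 2 ^ 12 := rfl
  rw [e]
  simp only [Nat.testBit_mod_two_pow, Nat.testBit_xor]
  cases decide (i < 12) <;> rfl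

theorem isCode_xor {a b : ℕ} (ha : isCode a) (hb : isCode b) : isCode (a ^^^ b) := by
  simp only [isCode, beq_iff_eq] at *
  rw [mod_xor, enc_xor, ha, hb]

theorem encAux_mem (S : Submodule (ZMod 2) (GolayPt → ZMod 2)) (k : ℕ) :
    ∀ (L : List ℕ), (∀ b ∈ L, vec b ∈ S) → ∀ i, vec (encAux k i L) ∈ S
  | [], _, _ => by simp [encAux, vec_zero]
  | c :: L, h, i => by
    simp only [encAux, vec_xor]
    refine S.add_mem ?_ (encAux_mem S k L (fun b hb => h b (List.mem_cons_of_mem _ hb)) _)
    split
    · exact h c (List.mem_cons_self ..)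
    · simp [vec_zero]

/-- The mask of a word. -/
def maskOf (w : GolayPt → ZMod 2) : ℕ :=
  (List.range 24).foldl (fun acc i => if w (pt i) = 1 then acc ||| 2 ^ i else acc) 0

/-- Mask of the translate by `t` of the squares. -/
def qrMask (t : ℕ) : ℕ :=
  ([0, 1, 2, 3, 4, 6, 8, 9, 12, 13, 16, 18].map fun s => 2 ^ ((s + t) % 23)).sum

theorem qrWord_eq (t : ZMod 23) : qrWord t = vec (qrMask t.val) := by
  have h : ∀ (t x : ZMod 23), qrWord t (some x) = vec (qrMask t.val) (some x) := by decide +kernel
  have h' : ∀ t : ZMod 23, qrWord t none = vec (qrMask t.val) none := by decide +kernel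
  funext p
  cases p with
  | none => exact h' t
  | some x => exact h t x

theorem one_eq_vec : (1 : GolayPt → ZMod 2) = vec 16777215 := by
  funext p; revert p; decide +kernel

/-- The basis as sums of the spanning words. -/
def basisCert : List (List ℕ) :=
  [[0, 3, 5, 7, 9, 10, 23],
    [3, 4, 8],
    [0, 3, 4, 7, 10, 23],
    [3, 4, 5, 6, 8, 10],
    [1, 3, 4, 5, 7, 9, 10, 23],
    [0, 1, 2, 4, 7, 8, 9, 10, 23],
    [0, 2, 3, 6, 7, 8, 10, 23],
    [4, 6, 7, 8, 9, 10],
    [0, 1, 6, 8, 10],
    [0, 2, 5, 6],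
    [0, 1, 5, 6, 9, 10, 23],
    [0, 2, 5, 9, 10, 23]]

theorem forall₂_exists {α β : Type} {R : α → β → Prop} {l : List α} {l' : List β}
    (h : List.Forall₂ R l l') {a : α} (ha : a ∈ l) : ∃ b, R a b := by
  induction h with
  | nil => cases ha
  | cons hr _ ih =>
    rcases List.mem_cons.mp ha with rfl | h
    · exact ⟨_, hr⟩
    · exact ih h

theorem vec_mem {m : ℕ} (h : isCode m) : vec m ∈ golayCode := by
  simp only [isCode, beq_iff_eq] at h
  rw [← h]
  refine encAux_mem _ _ _ (fun b hb => ?_) _
  have hz : List.Forall₂ (fun b (ts : List ℕ) => b = ts.foldr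
      (fun t acc => (if t = 23 then 16777215 else qrMask t) ^^^ acc) 0 ∧ ts.all (· ≤ 23)) basis
      basisCert := by decide +kernel
  obtain ⟨ts, hb'⟩ := forall₂_exists hz hb
  obtain ⟨rfl, hts⟩ := hb'
  clear hb h
  induction ts with
  | nil => simp [vec_zero]
  | cons t ts ih =>
    simp only [List.all_cons, Bool.and_eq_true, decide_eq_true_eq] at hts
    simp only [List.foldr_cons, vec_xor]
    refine Submodule.add_mem _ ?_ (ih hts.2)
    split
    · rw [← one_eq_vec]; exact Submodule.subset_span (Set.mem_union_right _ rfl)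
    · have ht : t < 23 := by omega
      refine Submodule.subset_span (Set.mem_union_left _ ⟨(t : ZMod 23), ?_⟩)
      rw [qrWord_eq, ZMod.val_natCast, Nat.mod_eq_of_lt ht]

theorem exists_of_mem {w : GolayPt → ZMod 2} (h : w ∈ golayCode) :
    ∃ m, isCode m ∧ w = vec m := by
  induction h using Submodule.span_induction with
  | mem w hw =>
    rcases hw with ⟨t, rfl⟩ | hw
    · refine ⟨_, ?_, qrWord_eq t⟩
      revert t; decide +kernel
    · exact ⟨16777215, by decide +kernel, by rw [Set.mem_singleton_iff.mp hw, one_eq_vec]⟩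
  | zero => exact ⟨0, by decide +kernel, vec_zero.symm⟩
  | add x y _ _ hx hy =>
    obtain ⟨a, ha, rfl⟩ := hx
    obtain ⟨b, hb, rfl⟩ := hy
    exact ⟨_, isCode_xor ha hb, (vec_xor a b).symm⟩
  | smul c x _ hx =>
    obtain ⟨a, ha, rfl⟩ := hx
    rcases (show c = 0 ∨ c = 1 by revert c; decide) with rfl | rfl
    · exact ⟨0, by decide +kernel, by rw [zero_smul, vec_zero]⟩
    · exact ⟨a, ha, by rw [one_smul]⟩

/-- All code words as masks. -/
def codeList : List ℕ := (List.range 4096).map enc

theorem codeList_check :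
    (codeList.all fun m => decide (m < 16777216)) = true ∧
      codeList.map (fun m => m % 4096) = List.range 4096 := by decide +kernel

theorem mem_codeList {m : ℕ} : m ∈ codeList ↔ isCode m = true := by
  simp only [codeList, List.mem_map, List.mem_range, isCode, beq_iff_eq]
  constructor
  · rintro ⟨k, hk, rfl⟩
    have h := codeList_check.2
    simp only [codeList, List.map_map] at h
    have := List.map_eq_map_iff.mp (h.trans (List.map_id _).symm) k (List.mem_range.mpr hk)
    simp only [Function.comp_apply, id_eq] at this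
    rw [this]
  · intro h
    exact ⟨m % 4096, Nat.mod_lt _ (by norm_num), h⟩

theorem codeList_lt {m : ℕ} (h : m ∈ codeList) : m < 2 ^ 24 := by
  have := List.all_eq_true.mp codeList_check.1 m h
  simpa using this

theorem codeList_nodup : codeList.Nodup :=
  List.Nodup.of_map (fun m => m % 4096) (codeList_check.2 ▸ List.nodup_range)

theorem mem_golayCode {w : GolayPt → ZMod 2} :
    w ∈ golayCode ↔ ∃ m ∈ codeList, w = vec m :=
  ⟨fun h => by
    obtain ⟨m, hm, he⟩ := exists_of_mem h
    exact ⟨m, mem_codeList.mpr hm, he⟩,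
  fun ⟨_, hm, he⟩ => he ▸ vec_mem (mem_codeList.mp hm)⟩

theorem mem_supports {s : Finset GolayPt} :
    s ∈ supports (golayCode : Set (GolayPt → ZMod 2)) ↔ ∃ m ∈ codeList, s = pts m := by
  constructor
  · rintro ⟨w, hw, rfl⟩
    obtain ⟨m, hm, rfl⟩ := mem_golayCode.mp hw
    exact ⟨m, hm, support_vec m⟩
  · rintro ⟨m, hm, rfl⟩
    exact ⟨vec m, mem_golayCode.mpr ⟨m, hm, rfl⟩, support_vec m⟩

/-- Code words of weight `n`. -/
def weightList (n : ℕ) : List ℕ := codeList.filter fun m => pop m == n

theorem mem_weightList {n m : ℕ} : m ∈ weightList n ↔ m ∈ codeList ∧ pop m = n := by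
  simp [weightList]

theorem mem_wordsOfWeight {n : ℕ} {s : Finset GolayPt} :
    s ∈ wordsOfWeight (golayCode : Set (GolayPt → ZMod 2)) n ↔ ∃ m ∈ weightList n, s = pts m := by
  constructor
  · rintro ⟨hs, hc⟩
    obtain ⟨m, hm, rfl⟩ := mem_supports.mp hs
    exact ⟨m, mem_weightList.mpr ⟨hm, by rwa [card_pts] at hc⟩, rfl⟩
  · rintro ⟨m, hm, rfl⟩
    obtain ⟨hm, hp⟩ := mem_weightList.mp hm
    exact ⟨mem_supports.mpr ⟨m, hm, rfl⟩, by rw [card_pts, hp]⟩

theorem weightList_lt {n m : ℕ} (h : m ∈ weightList n) : m < 2 ^ 24 :=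
  codeList_lt (mem_weightList.mp h).1

theorem weightList_nodup (n : ℕ) : (weightList n).Nodup := codeList_nodup.filter _

/-- The octads as masks. -/
abbrev octList : List ℕ := weightList 8

/-- The dodecads as masks. -/
abbrev dodList : List ℕ := weightList 12

theorem mem_octads {s : Finset GolayPt} : s ∈ octads ↔ ∃ m ∈ octList, s = pts m := mem_wordsOfWeight

theorem mem_dodecads {s : Finset GolayPt} : s ∈ dodecads ↔ ∃ m ∈ dodList, s = pts m :=
  mem_wordsOfWeight

/-- Counting a family of sets given by a list of masks. -/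
theorem ncard_eq_countP {S : Set (Finset GolayPt)} {L : List ℕ} (hL : ∀ m ∈ L, m < 2 ^ 24)
    (hN : L.Nodup) (hS : ∀ s, s ∈ S ↔ ∃ m ∈ L, s = pts m) (P : Finset GolayPt → Prop)
    (p : ℕ → Bool) (hp : ∀ m ∈ L, (P (pts m) ↔ p m = true)) :
    {s | s ∈ S ∧ P s}.ncard = L.countP p := by
  have h1 : {s | s ∈ S ∧ P s} = (((L.filter p).toFinset.image pts : Finset _) : Set _) := by
    ext s
    simp only [Set.mem_setOf_eq, hS, Finset.coe_image, Set.mem_image, Finset.mem_coe,
      List.mem_toFinset, List.mem_filter]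
    constructor
    · rintro ⟨⟨m, hm, rfl⟩, hP⟩
      exact ⟨m, ⟨hm, (hp m hm).mp hP⟩, rfl⟩
    · rintro ⟨m, ⟨hm, hpm⟩, rfl⟩
      exact ⟨⟨m, hm, rfl⟩, (hp m hm).mpr hpm⟩
  rw [h1, Set.ncard_coe_finset, Finset.card_image_of_injOn, List.toFinset_card_of_nodup (hN.filter _),
    List.countP_eq_length_filter]
  intro a ha b hb h
  simp only [Finset.mem_coe, List.mem_toFinset, List.mem_filter] at ha hb
  exact pts_injOn (hL a ha.1) (hL b hb.1) h

theorem ncard_eq_length {S : Set (Finset GolayPt)} {L : List ℕ} (hL : ∀ m ∈ L, m < 2 ^ 24)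
    (hN : L.Nodup) (hS : ∀ s, s ∈ S ↔ ∃ m ∈ L, s = pts m) : S.ncard = L.length := by
  have := ncard_eq_countP hL hN hS (fun _ => True) (fun _ => true) (by simp)
  simpa using this

theorem octads_ncard : octads.ncard = 759 := by
  rw [ncard_eq_length (fun _ => weightList_lt) (weightList_nodup 8) (fun _ => mem_octads)]
  decide +kernel

theorem dodecads_ncard : dodecads.ncard = 2576 := by
  rw [ncard_eq_length (fun _ => weightList_lt) (weightList_nodup 12) (fun _ => mem_dodecads)]
  decide +kernel

theorem weights_check : (codeList.all fun m =>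
    let w := pop m; w == 0 || w == 8 || w == 12 || w == 16 || w == 24) = true := by decide +kernel

theorem pop_code {m : ℕ} (h : m ∈ codeList) :
    pop m = 0 ∨ pop m = 8 ∨ pop m = 12 ∨ pop m = 16 ∨ pop m = 24 := by
  simpa [or_assoc] using List.all_eq_true.mp weights_check m h

theorem card_golayCode : Nat.card golayCode = 4096 := by
  have hinj : ∀ a ∈ codeList, ∀ b ∈ codeList, vec a = vec b → a = b := fun a ha b hb h =>
    pts_injOn (codeList_lt ha) (codeList_lt hb) (by rw [← support_vec, ← support_vec, h])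
  have h1 : (golayCode : Set (GolayPt → ZMod 2)) = ((codeList.toFinset.image vec : Finset _) : Set _) := by
    ext w
    simp only [SetLike.mem_coe, mem_golayCode, Finset.coe_image, Set.mem_image, List.mem_toFinset]
    exact ⟨fun ⟨m, hm, he⟩ => ⟨m, hm, he.symm⟩, fun ⟨m, hm, he⟩ => ⟨m, hm, he.symm⟩⟩
  have : (golayCode : Set (GolayPt → ZMod 2)).ncard = 4096 := by
    rw [h1, Set.ncard_coe_finset, Finset.card_image_of_injOn (fun a ha b hb h => hinj a (by simpa using ha) b (by simpa using hb) h),
      List.toFinset_card_of_nodup codeList_nodup]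
    simp [codeList]
  rw [← this]
  exact Nat.card_coe_set_eq _

end Cfsg.Agent.Spor.Golay
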