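import Cfsg.Agent.Lib.Spor.Golay.Basic
import Cfsg.Prelude.Def_SporadicCombinatorics

/-! Cosets of the length-24 code among all subsets: coset leaders and sextets. -/

set_option autoImplicit false
set_option maxRecDepth 100000

namespace Cfsg.Agent.Spor.Golay

open scoped symmDiff

/-- Two sets lie in one coset of the code. -/
def Cls (s t : Finset GolayPt) : Prop :=
  s ∆ t ∈ supports (golayCode : Set (GolayPt → ZMod 2))

theorem Cls.refl (s : Finset GolayPt) : Cls s s := by
  rw [Cls, symmDiff_self]; exact zero_mem_supports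

theorem Cls.symm {s t : Finset GolayPt} (h : Cls s t) : Cls t s := by
  rw [Cls, symmDiff_comm]; exact h

theorem Cls.trans {s t u : Finset GolayPt} (h : Cls s t) (h' : Cls t u) : Cls s u := by
  have := symmDiff_mem_supports h h'
  rwa [symmDiff_assoc, ← symmDiff_assoc t, symmDiff_self, bot_symmDiff] at this

theorem card_code {s : Finset GolayPt} (hs : s ∈ supports (golayCode : Set (GolayPt → ZMod 2))) :
    s.card = 0 ∨ s.card = 8 ∨ s.card = 12 ∨ s.card = 16 ∨ s.card = 24 := by
  obtain ⟨m, hm, rfl⟩ := mem_supports.mp hs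
  rw [card_pts]
  exact pop_code hm

theorem card_symmDiff_add {α : Type*} [DecidableEq α] (s t : Finset α) :
    (s ∆ t).card + 2 * (s ∩ t).card = s.card + t.card := by
  have e1 : s ∆ t = s \ t ∪ t \ s := rfl
  have e2 : Disjoint (s \ t) (t \ s) :=
    Finset.disjoint_left.mpr fun x h1 h2 => (Finset.mem_sdiff.mp h2).2 (Finset.mem_sdiff.mp h1).1
  have f1 := Finset.card_sdiff_add_card_inter s t
  have f2 := Finset.card_sdiff_add_card_inter t s
  rw [Finset.inter_comm t] at f2
  rw [e1, Finset.card_union_of_disjoint e2]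
  omega

/-- A light coset leader is the only leader. -/
theorem light_unique {s t : Finset GolayPt} (hs : s.card ≤ 3) (ht : t.card ≤ 4) (h : Cls s t) :
    s = t := by
  have h1 := card_symmDiff_add s t
  have h0 : (s ∆ t).card = 0 := by rcases card_code h with e | e | e | e | e <;> omega
  exact symmDiff_eq_bot.mp (Finset.card_eq_zero.mp h0)

theorem tetrad_disjoint {s t : Finset GolayPt} (hs : s.card = 4) (ht : t.card = 4) (h : Cls s t)
    (hne : s ≠ t) : Disjoint s t ∧ s ∪ t ∈ octads := by
  have h1 := card_symmDiff_add s t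
  have hne0 : (s ∆ t).card ≠ 0 := fun e => hne (symmDiff_eq_bot.mp (Finset.card_eq_zero.mp e))
  have h8 : (s ∆ t).card = 8 := by rcases card_code h with e | e | e | e | e <;> omega
  have hd : Disjoint s t := by
    rw [Finset.disjoint_iff_inter_eq_empty, ← Finset.card_eq_zero]; omega
  refine ⟨hd, ?_⟩
  have : s ∪ t = s ∆ t := by rw [hd.symmDiff_eq_sup]; rfl
  rw [this]
  exact ⟨h, h8⟩

theorem tetrad_of_union {s t : Finset GolayPt} (hs : s.card = 4) (ht : t.card = 4)
    (h : s ∪ t ∈ octads) : Disjoint s t ∧ Cls s t := by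
  have hd : Disjoint s t := by
    rw [← Finset.card_union_eq_card_add_card, octad_card h, hs, ht]
  refine ⟨hd, ?_⟩
  rw [Cls, hd.symmDiff_eq_sup]
  exact h.1

theorem exists_tetrad {s : Finset GolayPt} (hs : s.card = 4) {p : GolayPt} (hp : p ∉ s) :
    ∃ t, t.card = 4 ∧ Cls s t ∧ p ∈ t := by
  obtain ⟨o, ⟨ho, hsub⟩, -⟩ :=
    octads_steiner.2 (insert p s) (by rw [Finset.card_insert_of_notMem hp, hs])
  have hso : s ⊆ o := (Finset.subset_insert _ _).trans hsub
  refine ⟨o \ s, ?_, ?_, ?_⟩
  · rw [Finset.card_sdiff_of_subset hso, octad_card ho, hs]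
  · rw [Cls, (Finset.disjoint_sdiff : Disjoint s (o \ s)).symmDiff_eq_sup]
    show s ∪ o \ s ∈ _
    rw [Finset.union_sdiff_of_subset hso]
    exact ho.1
  · exact Finset.mem_sdiff.mpr ⟨hsub (Finset.mem_insert_self _ _), hp⟩

/-- The leaders of the coset of a set. -/
noncomputable def leaders (s : Finset GolayPt) : Finset (Finset GolayPt) := by
  classical exact Finset.univ.filter fun t => t.card ≤ 4 ∧ Cls s t

theorem mem_leaders {s t : Finset GolayPt} : t ∈ leaders s ↔ t.card ≤ 4 ∧ Cls s t := by
  simp [leaders]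

theorem leaders_eq {s t : Finset GolayPt} (h : Cls s t) : leaders s = leaders t := by
  ext u
  simp only [mem_leaders]
  exact and_congr_right fun _ => ⟨fun h' => h.symm.trans h', fun h' => h.trans h'⟩

theorem leader_card {s t : Finset GolayPt} (hs : s.card = 4) (ht : t ∈ leaders s) : t.card = 4 := by
  rw [mem_leaders] at ht
  by_contra hne
  have := light_unique (by omega) hs.le ht.2.symm
  rw [this] at hne
  exact hne hs

theorem card_leaders {s : Finset GolayPt} (hs : s.card = 4) : (leaders s).card = 6 := by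
  have hcov : (leaders s).biUnion id = Finset.univ := by
    ext p
    simp only [Finset.mem_biUnion, Finset.mem_univ, iff_true, id]
    by_cases hp : p ∈ s
    · exact ⟨s, mem_leaders.mpr ⟨hs.le, Cls.refl s⟩, hp⟩
    · obtain ⟨t, ht, hc, hpt⟩ := exists_tetrad hs hp
      exact ⟨t, mem_leaders.mpr ⟨ht.le, hc⟩, hpt⟩
  have h := congrArg Finset.card hcov
  rw [Finset.card_biUnion, Finset.sum_congr rfl (fun t ht => (leader_card hs ht : (id t).card = 4)),
    Finset.sum_const, Finset.card_univ, card_golayPt, smul_eq_mul] at h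
  · omega
  · intro t ht u hu hne
    have ht' := mem_leaders.mp (Finset.mem_coe.mp ht)
    have hu' := mem_leaders.mp (Finset.mem_coe.mp hu)
    exact (tetrad_disjoint (leader_card hs (Finset.mem_coe.mp ht))
      (leader_card hs (Finset.mem_coe.mp hu)) (ht'.2.symm.trans hu'.2) hne).1

/-- Masks with exactly `k` bits among the low `n`. -/
def subsK : ℕ → ℕ → List ℕ
  | 0, 0 => [0]
  | 0, _ + 1 => []
  | n + 1, 0 => subsK n 0
  | n + 1, k + 1 => subsK n (k + 1) ++ (subsK n k).map (fun m => m ||| 2 ^ n)

/-- Masks with at most four bits. -/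
def lightList : List ℕ :=
  ([0, 1, 2, 3, 4].flatMap (subsK 24)).filter fun m => decide (pop m ≤ 4) && decide (m < 16777216)

/-- The syndrome of a mask: zero exactly on code words. -/
def syn (m : ℕ) : ℕ := (m ^^^ enc (m % 4096)) >>> 12

/-- Syndromes reached by the light masks, as a bit set. -/
def reached (L : List ℕ) : ℕ := L.foldl (fun acc m => acc ||| 2 ^ syn m) 0

theorem testBit_reached (L : List ℕ) : ∀ (acc j : ℕ),
    (L.foldl (fun acc m => acc ||| 2 ^ syn m) acc).testBit j = true →
      acc.testBit j = true ∨ ∃ m ∈ L, syn m = j := by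
  induction L with
  | nil => exact fun acc j h => Or.inl h
  | cons m L ih =>
    intro acc j h
    rcases ih _ _ h with h | ⟨x, hx, e⟩
    · rw [Nat.testBit_or, Bool.or_eq_true] at h
      rcases h with h | h
      · exact Or.inl h
      · rw [Nat.testBit_two_pow, decide_eq_true_eq] at h
        exact Or.inr ⟨m, List.mem_cons_self .., h⟩
    · exact Or.inr ⟨x, List.mem_cons_of_mem _ hx, e⟩

theorem reached_check : reached lightList = 2 ^ 4096 - 1 := by decide +kernel

theorem syn_eq {a b : ℕ} (ha : a < 2 ^ 24) (hb : b < 2 ^ 24) (h : syn a = syn b) :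
    a ^^^ b ∈ codeList := by
  have hlow : ∀ m, m < 2 ^ 24 → (m ^^^ enc (m % 4096)) % 4096 = 0 := by
    intro m _
    have hk : enc (m % 4096) % 4096 = m % 4096 := by
      have h := codeList_check.2
      simp only [codeList, List.map_map] at h
      have := List.map_eq_map_iff.mp (h.trans (List.map_id _).symm) (m % 4096)
        (List.mem_range.mpr (Nat.mod_lt _ (by norm_num)))
      simpa using this
    rw [mod_xor, hk, Nat.xor_self]
  have key : ∀ m, m < 2 ^ 24 → m ^^^ enc (m % 4096) = syn m * 4096 := by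
    intro m hm
    have := hlow m hm
    rw [syn, Nat.shiftRight_eq_div_pow]
    have := Nat.div_add_mod (m ^^^ enc (m % 4096)) 4096
    norm_num
    omega
  have hx : a ^^^ b = enc ((a ^^^ b) % 4096) := by
    have e1 := key a ha
    have e2 := key b hb
    rw [h, ← e2] at e1
    rw [mod_xor, enc_xor]
    have e3 : a = b ^^^ enc (b % 4096) ^^^ enc (a % 4096) := by
      rw [← e1, Nat.xor_assoc, Nat.xor_self, Nat.xor_zero]
    conv_lhs => rw [e3]
    simp [Nat.xor_assoc, Nat.xor_comm, Nat.xor_left_comm]
  rw [mem_codeList, isCode, beq_iff_eq]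
  exact hx.symm

/-- Every coset has a leader of weight at most four. -/
theorem exists_leader (s : Finset GolayPt) : ∃ t, t.card ≤ 4 ∧ Cls s t := by
  obtain ⟨a, ha, rfl⟩ := exists_mask s
  have hlt : syn a < 4096 := by
    rw [syn, Nat.shiftRight_eq_div_pow, Nat.div_lt_iff_lt_mul (by norm_num)]
    refine Nat.xor_lt_two_pow (n := 24) ha ?_
    exact codeList_lt (List.mem_map.mpr ⟨a % 4096, List.mem_range.mpr (Nat.mod_lt _ (by norm_num)), rfl⟩)
  have hb : (reached lightList).testBit (syn a) = true := by
    rw [reached_check, Nat.testBit_two_pow_sub_one]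
    exact decide_eq_true hlt
  rcases testBit_reached _ _ _ hb with h | ⟨m, hm, e⟩
  · simp at h
  · simp only [lightList, List.mem_filter, Bool.and_eq_true, decide_eq_true_eq] at hm
    refine ⟨pts m, by rw [card_pts]; exact hm.2.1, ?_⟩
    exact mem_supports.mpr ⟨_, syn_eq ha (by simpa using hm.2.2) e.symm, pts_symmDiff a m⟩

/-- The sextets are the leader sets of the cosets with four-point leaders. -/
theorem mem_sextets_iff {S : Finset (Finset GolayPt)} :
    S ∈ sextets ↔ ∃ t, t.card = 4 ∧ S = leaders t := by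
  constructor
  · rintro ⟨hS, h4, hu⟩
    obtain ⟨t, ht⟩ := Finset.card_pos.mp (by omega : 0 < S.card)
    refine ⟨t, h4 t ht, Finset.eq_of_subset_of_card_le (fun u hu' => ?_) ?_⟩
    · refine mem_leaders.mpr ⟨(h4 u hu').le, ?_⟩
      by_cases e : t = u
      · exact e ▸ Cls.refl t
      · exact (tetrad_of_union (h4 t ht) (h4 u hu') (hu t ht u hu' e)).2
    · rw [card_leaders (h4 t ht), hS]
  · rintro ⟨t, ht, rfl⟩
    refine ⟨card_leaders ht, fun u hu => leader_card ht hu, fun u hu v hv hne => ?_⟩
    exact (tetrad_disjoint (leader_card ht hu) (leader_card ht hv)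
      ((mem_leaders.mp hu).2.symm.trans (mem_leaders.mp hv).2) hne).2

theorem sextet_unique {S : Finset (Finset GolayPt)} (hS : S ∈ sextets) {t : Finset GolayPt}
    (ht : t ∈ S) : S = leaders t := by
  obtain ⟨u, hu, rfl⟩ := mem_sextets_iff.mp hS
  exact leaders_eq (mem_leaders.mp ht).2

end Cfsg.Agent.Spor.Golay
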