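import Cfsg.Agent.Lib.Spor.Golay.CensusTop
import Cfsg.Agent.Lib.Spor.Golay.Cosets
import Cfsg.Agent.S1550
import Cfsg.Agent.S1557

/-! The universes of configurations, transport between a configuration and its standard one, and the
translation of orbit certificates. -/

set_option autoImplicit false
set_option maxRecDepth 100000

namespace Cfsg.Agent.Spor.Golay.Census

open scoped Pointwise

theorem fam_single (m : ℕ) : fam [m] = {pts m} := by simp [fam]

theorem fam_pair (a b : ℕ) : fam [a, b] = {pts a, pts b} := by simp [fam]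

theorem smul_fam_single {g : Equiv.Perm GolayPt} (m : ℕ) : g • fam [m] = fam [m] ↔ g • pts m = pts m := by
  rw [fam_single, Finset.smul_finset_singleton, Finset.singleton_inj]

theorem smul_pts_point {g : Equiv.Perm GolayPt} {i : ℕ} (hi : i < 24) :
    g • pts (2 ^ i) = pts (2 ^ i) ↔ g (pt i) = pt i := by
  rw [pts_two_pow hi, Finset.smul_finset_singleton, Finset.singleton_inj, Equiv.Perm.smul_def]

theorem mem_Fx_nil {g : Equiv.Perm GolayPt} : g ∈ Fx [] ↔ g ∈ M24 := by simp [mem_Fx]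

theorem mem_Fx_one {L : List ℕ} {g : Equiv.Perm GolayPt} : g ∈ Fx [L] ↔ g ∈ M24 ∧ g • fam L = fam L := by
  simp [mem_Fx]

/-- The members, as sets, of an orbit of singleton families. -/
def Orb.setSet (O : Orb) : Set (Finset GolayPt) := {s | ({s} : Finset (Finset GolayPt)) ∈ O.famSet}

theorem orbit_single {K : Subgroup (Equiv.Perm GolayPt)} {S : Set (Finset (Finset GolayPt))} (m : ℕ)
    (h : MulAction.orbit K (fam [m]) = S) :
    MulAction.orbit K (pts m) = {s | ({s} : Finset (Finset GolayPt)) ∈ S} := by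
  subst h
  ext s
  simp only [Set.mem_setOf_eq, MulAction.mem_orbit_iff]
  constructor
  · rintro ⟨g, rfl⟩
    exact ⟨g, by rw [fam_single]; exact Finset.smul_finset_singleton _⟩
  · rintro ⟨g, hg⟩
    refine ⟨g, ?_⟩
    rw [fam_single, show g • ({pts m} : Finset (Finset GolayPt)) = {g • pts m} from Finset.smul_finset_singleton _,
      Finset.singleton_inj] at hg
    exact hg

theorem Stage.orbit_set {F : List (List ℕ)} {gens : List ℕ} {n : ℕ} (hS : Stage F gens n) {O : Orb}
    (hO : O.ok gens = true) {m : ℕ} (h0 : O.obj 0 = [m]) :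
    MulAction.orbit (Fx F) (pts m) = O.setSet ∧ O.setSet.ncard = O.n := by
  obtain ⟨h1, h2⟩ := hS.orbit hO
  rw [h0] at h1
  have h3 : MulAction.orbit (Fx F) (pts m) = O.setSet := orbit_single m h1
  refine ⟨h3, ?_⟩
  rw [← h2, ← Set.ncard_image_of_injective O.setSet Finset.singleton_injective]
  congr 1
  refine Set.Subset.antisymm ?_ ?_
  · rintro _ ⟨s, hs, rfl⟩; exact hs
  · intro X hX
    rw [← h1] at hX
    obtain ⟨g, rfl⟩ := hX
    refine ⟨g • pts m, h3 ▸ MulAction.mem_orbit _ g, ?_⟩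
    rw [fam_single]
    exact (Finset.smul_finset_singleton _).symm

theorem Orb.mem_setSet_of_has {O : Orb} {m : ℕ} (h : O.has [m] = true) : pts m ∈ O.setSet :=
  ⟨_, Orb.mem_of_has O h, fam_single m⟩

theorem Orb.mem_famSet_of_has {O : Orb} {L : List ℕ} (h : O.has L = true) : fam L ∈ O.famSet :=
  ⟨_, Orb.mem_of_has O h, rfl⟩

theorem Stage.exists_between_sets {F : List (List ℕ)} {gens : List ℕ} {n : ℕ} (hS : Stage F gens n) {O : Orb}
    (hO : O.ok gens = true) {s t : Finset GolayPt} (hs : s ∈ O.setSet) (ht : t ∈ O.setSet) :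
    ∃ g ∈ Fx F, g • s = t := by
  obtain ⟨g, hg, e⟩ := hS.exists_between hO hs ht
  exact ⟨g, hg, by rwa [Finset.smul_finset_singleton, Finset.singleton_inj] at e⟩

/-! ### The universes -/

theorem orbit_M24 {β : Type*} [MulAction (Equiv.Perm GolayPt) β] (X : β) :
    MulAction.orbit (Fx []) X = MulAction.orbit M24 X := by
  ext Y
  simp only [MulAction.mem_orbit_iff]
  exact ⟨fun ⟨g, hg⟩ => ⟨⟨g, mem_Fx_nil.mp g.2⟩, hg⟩, fun ⟨g, hg⟩ => ⟨⟨g, mem_Fx_nil.mpr g.2⟩, hg⟩⟩

theorem smul_sextet {g : Equiv.Perm GolayPt} (hg : g ∈ M24) {S : Finset (Finset GolayPt)} (hS : S ∈ sextets) :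
    g • S ∈ sextets := by
  refine ⟨by rw [Finset.card_smul_finset]; exact hS.1, fun t ht => ?_, fun t ht u hu hne => ?_⟩
  · obtain ⟨a, ha, rfl⟩ := Finset.mem_smul_finset.mp ht
    rw [Finset.card_smul_finset]; exact hS.2.1 a ha
  · obtain ⟨a, ha, rfl⟩ := Finset.mem_smul_finset.mp ht
    obtain ⟨b, hb, rfl⟩ := Finset.mem_smul_finset.mp hu
    rw [← Finset.smul_finset_union]
    exact smul_octad hg (hS.2.2 a ha b hb fun e => hne (by rw [e]))

theorem smul_trio {g : Equiv.Perm GolayPt} (hg : g ∈ M24) {T : Finset (Finset GolayPt)} (hT : T ∈ trios) :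
    g • T ∈ trios := by
  refine ⟨by rw [Finset.card_smul_finset]; exact hT.1, fun t ht => ?_, fun t ht u hu hne => ?_⟩
  · obtain ⟨a, ha, rfl⟩ := Finset.mem_smul_finset.mp ht
    exact smul_octad hg (hT.2.1 a ha)
  · obtain ⟨a, ha, rfl⟩ := Finset.mem_smul_finset.mp ht
    obtain ⟨b, hb, rfl⟩ := Finset.mem_smul_finset.mp hu
    have h := hT.2.2 a ha b hb fun e => hne (by rw [e])
    rw [Finset.disjoint_left] at h ⊢
    intro x hx hx'
    obtain ⟨y, hy, rfl⟩ := Finset.mem_smul_finset.mp hx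
    exact h hy ((Finset.smul_mem_smul_finset_iff g).mp hx')

theorem smul_dodecad {g : Equiv.Perm GolayPt} (hg : g ∈ M24) {d : Finset GolayPt} (hd : d ∈ dodecads) :
    g • d ∈ dodecads := by
  refine ⟨?_, by rw [Finset.card_smul_finset, hd.2]⟩
  have := Set.smul_mem_smul_set (a := g) hd.1
  rwa [MulAction.mem_stabilizer_iff.mp hg] at this

theorem octU_setSet : octU.setSet = octads := by
  obtain ⟨h1, h2⟩ := stage0.orbit_set octU_ok octU_zero
  refine Set.eq_of_subset_of_ncard_le ?_ (by rw [h2, octads_ncard]; decide +kernel) (Set.toFinite _)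
  rw [← h1]
  rintro _ ⟨⟨g, hg⟩, rfl⟩
  exact smul_octad (mem_Fx_nil.mp hg) pts_octA_mem

theorem dodU_setSet : dodU.setSet = dodecads := by
  obtain ⟨h1, h2⟩ := stage0.orbit_set dodU_ok dodU_zero
  refine Set.eq_of_subset_of_ncard_le ?_ (by rw [h2, dodecads_ncard]; decide +kernel) (Set.toFinite _)
  rw [← h1]
  rintro _ ⟨⟨g, hg⟩, rfl⟩
  exact smul_dodecad (mem_Fx_nil.mp hg) pts_dd_mem

/-- Whether six masks form a sextet. -/
def isSextet (L : List ℕ) : Bool :=
  (L.all fun a => pop a == 4) && L.all fun a => L.all fun b => a == b || (isCode (a ||| b) && pop (a ||| b) == 8)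

theorem fam_sextet {L : List ℕ} (hc : (fam L).card = 6) (h : isSextet L = true) : fam L ∈ sextets := by
  simp only [isSextet, Bool.and_eq_true, List.all_eq_true, beq_iff_eq, Bool.or_eq_true] at h
  refine ⟨hc, fun t ht => ?_, fun t ht u hu hne => ?_⟩
  · obtain ⟨a, ha, rfl⟩ := List.mem_map.mp (List.mem_toFinset.mp ht)
    rw [card_pts]; exact h.1 a ha
  · obtain ⟨a, ha, rfl⟩ := List.mem_map.mp (List.mem_toFinset.mp ht)
    obtain ⟨b, hb, rfl⟩ := List.mem_map.mp (List.mem_toFinset.mp hu)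
    obtain ⟨h1, h2⟩ := (h.2 a ha b hb).resolve_left fun e => hne (by rw [e])
    rw [pts_union]
    exact mem_octads.mpr ⟨_, mem_weightList.mpr ⟨mem_codeList.mpr h1, h2⟩, rfl⟩

theorem card_fam {L : List ℕ} (h : incr L = true) (hb : ∀ a ∈ L, a < 2 ^ 24) : (fam L).card = L.length := by
  rw [fam, List.toFinset_card_of_nodup, List.length_map]
  refine (List.nodup_map_iff_inj_on ((incr_pairwise h).imp fun h => h.ne)).mpr fun a ha b hb' e => ?_
  exact pts_injOn (hb a ha) (hb b hb') e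

theorem sext_base : sextU.n = 1771 ∧ isSextet [15, 5264, 622848, 3416064, 4196928, 8536096] = true ∧
    incr [15, 5264, 622848, 3416064, 4196928, 8536096] = true ∧
    small [15, 5264, 622848, 3416064, 4196928, 8536096] = true := by decide +kernel

theorem sextU_famSet : sextU.famSet = sextets := by
  obtain ⟨h1, h2⟩ := stage0.orbit sextU_ok
  obtain ⟨hn, hs, hi, hb⟩ := sext_base
  refine Set.eq_of_subset_of_ncard_le ?_ (by rw [h2, hn, Cfsg.Agent.S1550.result.2]) (Set.toFinite _)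
  rw [← h1]
  rintro _ ⟨⟨g, hg⟩, rfl⟩
  refine smul_sextet (mem_Fx_nil.mp hg) ?_
  rw [sextU_zero]
  exact fam_sextet (card_fam hi (small_spec hb)) hs

theorem trio_base : trioU.n = 3795 ∧ incr [5279, 4819776, 11952160] = true ∧ small [5279, 4819776, 11952160] = true ∧
    (([5279, 4819776, 11952160] : List ℕ).all fun a => isCode a && pop a == 8 &&
      ([5279, 4819776, 11952160] : List ℕ).all fun b => a == b || a &&& b == 0) = true := by decide +kernel

theorem trioU_famSet : trioU.famSet = trios := by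
  obtain ⟨h1, h2⟩ := stage0.orbit trioU_ok
  obtain ⟨hn, hi, hb, h⟩ := trio_base
  simp only [List.all_eq_true, Bool.and_eq_true, beq_iff_eq, Bool.or_eq_true] at h
  refine Set.eq_of_subset_of_ncard_le ?_ (by rw [h2, hn, Cfsg.Agent.S1557.result.2]) (Set.toFinite _)
  rw [← h1]
  rintro _ ⟨⟨g, hg⟩, rfl⟩
  refine smul_trio (mem_Fx_nil.mp hg) ?_
  rw [trioU_zero]
  refine ⟨(card_fam hi (small_spec hb)).trans rfl, fun t ht => ?_, fun t ht u hu hne => ?_⟩
  · obtain ⟨a, ha, rfl⟩ := List.mem_map.mp (List.mem_toFinset.mp ht)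
    exact mem_octads.mpr ⟨_, mem_weightList.mpr ⟨mem_codeList.mpr (h a ha).1.1, (h a ha).1.2⟩, rfl⟩
  · obtain ⟨a, ha, rfl⟩ := List.mem_map.mp (List.mem_toFinset.mp ht)
    obtain ⟨b, hb', rfl⟩ := List.mem_map.mp (List.mem_toFinset.mp hu)
    rcases (h a ha).2 b hb' with e | e
    · exact absurd (by rw [e]) hne
    · rw [Finset.disjoint_iff_inter_eq_empty, pts_inter, e]
      ext p; simp [mem_pts]

theorem pair_base : pairU.obj 0 = [3] ∧ pts 3 = {pt 0, pt 1} := by
  exact ⟨pairU_zero, by decide +kernel⟩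

theorem triple_base : tripleU.obj 0 = [7] ∧ pts 7 = {pt 0, pt 1, pt 2} ∧ pt 0 ≠ pt 1 ∧ pt 0 ≠ pt 2 ∧ pt 1 ≠ pt 2 := by
  exact ⟨tripleU_zero, by decide +kernel, by decide +kernel, by decide +kernel, by decide +kernel⟩

theorem exists_smul_card {k : ℕ} (hk : k ≤ 5) {a b : Finset GolayPt} (ha : a.card = k) (hb : b.card = k) :
    ∃ g ∈ M24, g • a = b := by
  classical
  haveI := M24_pretransitive hk
  let x : Fin k ↪ GolayPt := (a.equivFinOfCardEq ha).symm.toEmbedding.trans (Function.Embedding.subtype _)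
  let y : Fin k ↪ GolayPt := (b.equivFinOfCardEq hb).symm.toEmbedding.trans (Function.Embedding.subtype _)
  obtain ⟨g, hg⟩ := MulAction.exists_smul_eq M24 x y
  refine ⟨g, g.2, Finset.eq_of_subset_of_card_le ?_ (by rw [Finset.card_smul_finset, ha, hb])⟩
  intro p hp
  obtain ⟨q, hq, rfl⟩ := Finset.mem_smul_finset.mp hp
  have hgi : (g : Equiv.Perm GolayPt) • x (a.equivFinOfCardEq ha ⟨q, hq⟩) = y (a.equivFinOfCardEq ha ⟨q, hq⟩) := by
    have := congrArg (fun e : Fin k ↪ GolayPt => e (a.equivFinOfCardEq ha ⟨q, hq⟩)) hg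
    exact this
  have hx : x (a.equivFinOfCardEq ha ⟨q, hq⟩) = q := by simp [x]
  rw [hx] at hgi
  rw [hgi]
  exact ((b.equivFinOfCardEq hb).symm _).2

theorem pairU_setSet : pairU.setSet = {s | s.card = 2} := by
  obtain ⟨h1, -⟩ := stage0.orbit_set pairU_ok pairU_zero
  have h3 : (pts 3).card = 2 := by decide +kernel
  rw [← h1]
  ext s
  constructor
  · rintro ⟨g, rfl⟩
    show (g.1 • pts 3).card = 2
    rw [Finset.card_smul_finset, h3]
  · intro hs
    obtain ⟨g, hg, e⟩ := exists_smul_card (by norm_num) h3 hs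
    exact ⟨⟨g, mem_Fx_nil.mpr hg⟩, e⟩

theorem tripleU_setSet : tripleU.setSet = {s | s.card = 3} := by
  obtain ⟨h1, -⟩ := stage0.orbit_set tripleU_ok tripleU_zero
  have h3 : (pts 7).card = 3 := by decide +kernel
  rw [← h1]
  ext s
  constructor
  · rintro ⟨g, rfl⟩
    show (g.1 • pts 7).card = 3
    rw [Finset.card_smul_finset, h3]
  · intro hs
    obtain ⟨g, hg, e⟩ := exists_smul_card (by norm_num) h3 hs
    exact ⟨⟨g, mem_Fx_nil.mpr hg⟩, e⟩

/-- A duum: a dodecad with its complement. -/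
def duums : Set (Finset (Finset GolayPt)) := {D | ∃ d ∈ dodecads, D = {d, dᶜ}}

theorem smul_compl' (g : Equiv.Perm GolayPt) (s : Finset GolayPt) : g • sᶜ = (g • s)ᶜ := by
  ext x
  rw [← Finset.inv_smul_mem_iff, Finset.mem_compl, Finset.mem_compl, ← Finset.inv_smul_mem_iff]

theorem duumU_famSet : duumU.famSet = duums := by
  obtain ⟨h1, -⟩ := stage0.orbit duumU_ok
  have hb : fam [499903, 16277312] = {pts dd, (pts dd)ᶜ} := by
    rw [fam_pair, pts_compl]; rfl
  rw [← h1, duumU_zero, hb]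
  ext D
  constructor
  · rintro ⟨g, rfl⟩
    refine ⟨g.1 • pts dd, smul_dodecad (mem_Fx_nil.mp g.2) pts_dd_mem, ?_⟩
    show g.1 • ({pts dd, (pts dd)ᶜ} : Finset (Finset GolayPt)) = _
    rw [Finset.smul_finset_insert, Finset.smul_finset_singleton, smul_compl']
  · rintro ⟨d, hd, rfl⟩
    obtain ⟨g, hg, rfl⟩ := exists_smul_dd hd
    refine ⟨⟨g, mem_Fx_nil.mpr hg⟩, ?_⟩
    show g • ({pts dd, (pts dd)ᶜ} : Finset (Finset GolayPt)) = _
    rw [Finset.smul_finset_insert, Finset.smul_finset_singleton, smul_compl']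

/-! ### Standard configurations -/

theorem exists_sextet {S : Finset (Finset GolayPt)} (hS : S ∈ sextets) :
    ∃ a ∈ M24, a • fam [15, 5264, 622848, 3416064, 4196928, 8536096] = S := by
  rw [← sextU_famSet] at hS
  obtain ⟨a, ha, e⟩ := stage0.exists_to sextU_ok hS
  exact ⟨a, mem_Fx_nil.mp ha, by rwa [sextU_zero] at e⟩

theorem exists_trio {T : Finset (Finset GolayPt)} (hT : T ∈ trios) :
    ∃ a ∈ M24, a • fam [5279, 4819776, 11952160] = T := by
  rw [← trioU_famSet] at hT
  obtain ⟨a, ha, e⟩ := stage0.exists_to trioU_ok hT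
  exact ⟨a, mem_Fx_nil.mp ha, by rwa [trioU_zero] at e⟩

theorem exists_duum {d : Finset GolayPt} (hd : d ∈ dodecads) :
    ∃ a ∈ M24, a • fam [499903, 16277312] = {d, dᶜ} := by
  have h : ({d, dᶜ} : Finset (Finset GolayPt)) ∈ duums := ⟨d, hd, rfl⟩
  rw [← duumU_famSet] at h
  obtain ⟨a, ha, e⟩ := stage0.exists_to duumU_ok h
  exact ⟨a, mem_Fx_nil.mp ha, by rwa [duumU_zero] at e⟩

theorem exists_pair {s : Finset GolayPt} (hs : s.card = 2) : ∃ a ∈ M24, a • pts 3 = s :=
  exists_smul_card (by norm_num) (by decide +kernel) hs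

theorem exists_triple {s : Finset GolayPt} (hs : s.card = 3) : ∃ a ∈ M24, a • pts 7 = s :=
  exists_smul_card (by norm_num) (by decide +kernel) hs

/-! ### Transport and translation to stabilisers in the code group -/

theorem stabilizer_fam (L : List ℕ) (g : M24) :
    g ∈ MulAction.stabilizer M24 (fam L) ↔ (g : Equiv.Perm GolayPt) ∈ Fx [L] := by
  rw [MulAction.mem_stabilizer_iff, mem_Fx_one]
  exact ⟨fun h => ⟨g.2, h⟩, fun h => h.2⟩

theorem stabilizer_pts (m : ℕ) (g : M24) :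
    g ∈ MulAction.stabilizer M24 (pts m) ↔ (g : Equiv.Perm GolayPt) ∈ Fx [[m]] := by
  rw [MulAction.mem_stabilizer_iff, mem_Fx_one, smul_fam_single]
  exact ⟨fun h => ⟨g.2, h⟩, fun h => h.2⟩

theorem orbit_sub {β : Type*} [MulAction (Equiv.Perm GolayPt) β] {K : Subgroup M24} {F : List (List ℕ)}
    (hK : ∀ g, g ∈ K ↔ (g : Equiv.Perm GolayPt) ∈ Fx F) (X : β) :
    MulAction.orbit K X = MulAction.orbit (Fx F) X := by
  ext Y
  simp only [MulAction.mem_orbit_iff]
  constructor
  · rintro ⟨g, rfl⟩; exact ⟨⟨g.1.1, (hK g.1).mp g.2⟩, rfl⟩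
  · rintro ⟨g, rfl⟩
    exact ⟨⟨⟨g.1, (mem_Fx.mp g.2).1⟩, (hK _).mpr g.2⟩, rfl⟩

theorem card_sub {K : Subgroup M24} {F : List (List ℕ)} (hK : ∀ g, g ∈ K ↔ (g : Equiv.Perm GolayPt) ∈ Fx F) :
    Nat.card K = Nat.card (Fx F) :=
  Nat.card_congr
    { toFun := fun g => ⟨g.1.1, (hK g.1).mp g.2⟩
      invFun := fun g => ⟨⟨g.1, (mem_Fx.mp g.2).1⟩, (hK _).mpr g.2⟩
      left_inv := fun _ => rfl
      right_inv := fun _ => rfl }

theorem Stage.card_Fx {F : List (List ℕ)} {gens : List ℕ} {n : ℕ} (hS : Stage F gens n) : Nat.card (Fx F) = n := by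
  rw [hS.2.1, hS.2.2]

/-- Orbits of conjugate stabilisers. -/
theorem orbit_stabilizer_smul {G α β : Type*} [Group G] [MulAction G α] [MulAction G β] (a : G) (y : α) (x : β) :
    MulAction.orbit (MulAction.stabilizer G (a • y)) (a • x) = a • MulAction.orbit (MulAction.stabilizer G y) x := by
  ext z
  simp only [Set.mem_smul_set, MulAction.mem_orbit_iff]
  constructor
  · rintro ⟨g, rfl⟩
    refine ⟨(a⁻¹ * g.1 * a) • x, ⟨⟨a⁻¹ * g.1 * a, ?_⟩, rfl⟩, ?_⟩
    · rw [MulAction.mem_stabilizer_iff, mul_smul, mul_smul, g.2, inv_smul_smul]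
    · rw [← mul_smul, ← mul_assoc, ← mul_assoc, mul_inv_cancel, one_mul, mul_smul]; rfl
  · rintro ⟨w, ⟨g, rfl⟩, rfl⟩
    refine ⟨⟨a * g.1 * a⁻¹, ?_⟩, ?_⟩
    · rw [MulAction.mem_stabilizer_iff, mul_smul, mul_smul, inv_smul_smul, g.2]
    · show (a * g.1 * a⁻¹) • a • x = a • g.1 • x
      rw [mul_smul, mul_smul, inv_smul_smul]

theorem ncard_orbit_smul {G α β : Type*} [Group G] [MulAction G α] [MulAction G β] (a : G) (y : α) (x : β) :
    (MulAction.orbit (MulAction.stabilizer G (a • y)) (a • x)).ncard =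
      (MulAction.orbit (MulAction.stabilizer G y) x).ncard := by
  rw [orbit_stabilizer_smul, Set.ncard_smul_set]

/-- Maximality from the orbit lengths of a stabiliser: no proper union of orbits containing the point
has length dividing the degree. -/
theorem isCoatom_of_orbits {G α : Type*} [Group G] [Finite G] [MulAction G α] (y : α) {r : ℕ} (x : Fin r → α)
    (len : Fin r → ℕ) (N : ℕ) (hN : (MulAction.orbit G y).ncard = N) (h2 : 2 ≤ N)
    (hlen : ∀ i, (MulAction.orbit (MulAction.stabilizer G y) (x i)).ncard = len i)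
    (hcov : ∀ z ∈ MulAction.orbit G y, z = y ∨ ∃ i, z ∈ MulAction.orbit (MulAction.stabilizer G y) (x i))
    (hsum : 1 + ∑ i, len i = N)
    (hdiv : ∀ s : Finset (Fin r), (1 + ∑ i ∈ s, len i) ∣ N → s = ∅ ∨ s = Finset.univ) :
    IsCoatom (MulAction.stabilizer G y) := by
  classical
  have hfin : (MulAction.orbit G y).Finite := Set.finite_range _
  set H := MulAction.stabilizer G y with hH
  refine ⟨fun htop => ?_, fun K hK => ?_⟩
  · have : MulAction.orbit G y = {y} := by
      refine Set.eq_singleton_iff_unique_mem.mpr ⟨MulAction.mem_orbit_self y, ?_⟩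
      rintro _ ⟨g, rfl⟩
      exact (show g ∈ H from htop ▸ Subgroup.mem_top g)
    rw [this, Set.ncard_singleton] at hN
    omega
  set B := MulAction.orbit K y with hBdef
  have hsub : B ⊆ MulAction.orbit G y := by rintro _ ⟨g, rfl⟩; exact ⟨g.1, rfl⟩
  have hBfin : B.Finite := hfin.subset hsub
  let s : Finset (Fin r) := Finset.univ.filter fun i => ∃ z ∈ MulAction.orbit H (x i), z ∈ B
  have hclosed : ∀ i ∈ s, MulAction.orbit H (x i) ⊆ B := by
    intro i hi z hz
    simp only [s, Finset.mem_filter] at hi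
    obtain ⟨-, w, hw, ⟨k, hk⟩⟩ := hi
    rw [← MulAction.orbit_eq_iff.mpr hw] at hz
    obtain ⟨h, rfl⟩ := hz
    refine ⟨⟨h.1, hK.le h.2⟩ * k, ?_⟩
    show (⟨h.1, hK.le h.2⟩ * k : K) • y = h • w
    rw [mul_smul, show k • y = w from hk]
    rfl
  have hBeq : B ⊆ {y} ∪ ⋃ i ∈ s, MulAction.orbit H (x i) := by
    intro z hz
    rcases hcov z (hsub hz) with rfl | ⟨i, hi⟩
    · exact Or.inl rfl
    · exact Or.inr (Set.mem_iUnion₂.mpr ⟨i, Finset.mem_filter.mpr ⟨Finset.mem_univ _, z, hi, hz⟩, hi⟩)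
  have hrest : MulAction.orbit G y \ B ⊆ ⋃ i ∈ sᶜ, MulAction.orbit H (x i) := by
    rintro z ⟨hz, hzB⟩
    rcases hcov z hz with rfl | ⟨i, hi⟩
    · exact absurd (MulAction.mem_orbit_self _) hzB
    · refine Set.mem_iUnion₂.mpr ⟨i, Finset.mem_compl.mpr fun his => hzB (hclosed i his hi), hi⟩
  have hof : ∀ i, (MulAction.orbit H (x i)).Finite := fun i => Set.finite_range _
  have h1 : B.ncard ≤ 1 + ∑ i ∈ s, len i := by
    refine (Set.ncard_le_ncard hBeq ((Set.finite_singleton y).union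
      (s.finite_toSet.biUnion fun i _ => hof i))).trans ((Set.ncard_union_le _ _).trans ?_)
    rw [Set.ncard_singleton]
    refine Nat.add_le_add_left ((Finset.set_ncard_biUnion_le _ _).trans ?_) _
    exact (Finset.sum_congr rfl fun i _ => hlen i).le
  have h2' : (MulAction.orbit G y \ B).ncard ≤ ∑ i ∈ sᶜ, len i := by
    refine (Set.ncard_le_ncard hrest (sᶜ.finite_toSet.biUnion fun i _ => hof i)).trans
      ((Finset.set_ncard_biUnion_le _ _).trans ?_)
    exact (Finset.sum_congr rfl fun i _ => hlen i).le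
  rw [Set.ncard_diff hsub hBfin, hN] at h2'
  have h3 := Finset.sum_add_sum_compl s len
  have hBle := Set.ncard_le_ncard hsub hfin
  rw [hN] at hBle
  have hcard : B.ncard = 1 + ∑ i ∈ s, len i := by omega
  have hHK : (H.subgroupOf K) = MulAction.stabilizer K y := by
    ext k; exact Iff.rfl
  have hidx : B.ncard = H.relIndex K := by
    rw [hBdef, ← MulAction.index_stabilizer, ← hHK]
    rfl
  have hN' : H.index = N := by rw [hH, MulAction.index_stabilizer, hN]
  have hdvd : B.ncard ∣ N := by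
    rw [hidx, ← hN', ← Subgroup.relIndex_mul_index hK.le]
    exact dvd_mul_right _ _
  rcases hdiv s (hcard ▸ hdvd) with e | e
  · rw [e, Finset.sum_empty, add_zero] at hcard
    exact absurd (Subgroup.relIndex_eq_one.mp (hidx ▸ hcard)) (not_le_of_gt hK)
  · rw [e, hsum] at hcard
    have h4 := Subgroup.relIndex_mul_index hK.le
    rw [← hidx, hcard, hN'] at h4
    exact Subgroup.index_eq_one.mp (Nat.eq_of_mul_eq_mul_left (by omega : 0 < N) (h4.trans (mul_one N).symm))

end Cfsg.Agent.Spor.Golay.Census
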