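import Cfsg.Agent.Lib.Spor.Golay.AutCases

/-! The table of the whole code group for the searches. -/

set_option autoImplicit false
set_option maxRecDepth 100000

namespace Cfsg.Agent.Spor.Golay.Aut

theorem gen24_check : c24.genCheck = true := by decide +kernel

theorem tab24_check : progOk g24Table 3 g24Prog = true := by decide +kernel

theorem tab24_gens : tab 120 g24Table 0 = g24A ∧ tab 120 g24Table 1 = g24C ∧
    tab 120 g24Table 2 = g24T := by decide +kernel

theorem tab24_mem : ∀ i < g24Prog.length + 3, valid (tab 120 g24Table i) = true ∧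
    permOf (tab 120 g24Table i) ∈
      Subgroup.closure {permOf c24.A, permOf c24.C, permOf c24.T} := by
  intro i hi
  refine progOk_sound _ g24Table g24Prog 3 ?_ tab24_check i (by omega)
  obtain ⟨h0, h1, h2⟩ := tab24_gens
  obtain ⟨hg, -⟩ := c24.gen_facts gen24_check
  intro j hj
  interval_cases j
  · rw [h0]; exact ⟨(hg c24.A (by simp)).1, Subgroup.subset_closure (Or.inl rfl)⟩
  · rw [h1]; exact ⟨(hg c24.C (by simp)).1, Subgroup.subset_closure (Or.inr (Or.inl rfl))⟩
  · rw [h2]; exact ⟨(hg c24.T (by simp)).1, Subgroup.subset_closure (Or.inr (Or.inr rfl))⟩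

theorem tab24_ok : TableOk g24Table (g24Prog.length + 3) := fun i hi => by
  refine ⟨(tab24_mem i hi).1, ?_⟩
  have hle : Subgroup.closure {permOf c24.A, permOf c24.C, permOf c24.T} ≤ M24 := by
    obtain ⟨hg, -⟩ := c24.gen_facts gen24_check
    rw [Subgroup.closure_le]
    rintro x (rfl | rfl | rfl)
    · exact (mem_Fix.mp (hg c24.A (by simp)).2).1
    · exact (mem_Fix.mp (hg c24.C (by simp)).2).1
    · exact (mem_Fix.mp (hg c24.T (by simp)).2).1
  exact hle (tab24_mem i hi).2

theorem low24 : lowOk g24Table g24Sets [] g24Chain = true := by decide +kernel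

theorem idx24 : idxOk (g24Prog.length + 3) g24Chain = true := by decide +kernel

theorem chains24 : (lowOk g24Table [] [] g24Chain = true ∧ upOk [] [] g24Chain = true) ∧
    (lowOk g24Table [] [] g24B11 = true ∧ upOk [] [] g24B11 = true) ∧
    (lowOk g24Table [] [] g24B5 = true ∧ upOk [] [] g24B5 = true) ∧
    (lowOk g24Table [] [] g24Bd = true ∧ upOk [] [] g24Bd = true) := by decide +kernel

theorem idxs24 : idxOk (g24Prog.length + 3) g24Chain = true ∧
    idxOk (g24Prog.length + 3) g24B11 = true ∧ idxOk (g24Prog.length + 3) g24B5 = true ∧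
    idxOk (g24Prog.length + 3) g24Bd = true := by decide +kernel

theorem lowBd : lowOk g24Table [] [] g24Bd = true := chains24.2.2.2.1

theorem upBd : upOk [] [] g24Bd = true := chains24.2.2.2.2

theorem idxBd : idxOk (g24Prog.length + 3) g24Bd = true := idxs24.2.2.2

theorem lits24 : litsOk g24Table g24Chain g24ChainLits = true ∧
    litsOk g24Table g24B11 g24B11Lits = true ∧ litsOk g24Table g24B5 g24B5Lits = true ∧
    litsOk g24Table g24Bd g24BdLits = true := by decide +kernel

end Cfsg.Agent.Spor.Golay.Aut
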