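import Cfsg.Agent.Lib.Spor.Golay.Cosets

/-! Words, their supports, and the punctured code of length 23. -/

set_option autoImplicit false
set_option maxRecDepth 100000

namespace Cfsg.Agent.Spor.Golay

open scoped symmDiff

theorem hammingNorm_eq_card (v : GolayPt → ZMod 2) : hammingNorm v = (support₂ v).card := rfl

theorem support_add (v w : GolayPt → ZMod 2) : support₂ (v + w) = support₂ v ∆ support₂ w := by
  obtain ⟨a, -, rfl⟩ := exists_vec v
  obtain ⟨b, -, rfl⟩ := exists_vec w
  rw [← vec_xor, support_vec, support_vec, support_vec, pts_symmDiff]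

theorem sub_eq_add' (v w : GolayPt → ZMod 2) : v - w = v + w := by
  funext p; exact CharTwo.sub_eq_add _ _

theorem mem_code_iff_support {v : GolayPt → ZMod 2} :
    v ∈ golayCode ↔ support₂ v ∈ supports (golayCode : Set (GolayPt → ZMod 2)) := by
  refine ⟨fun h => ⟨v, h, rfl⟩, fun ⟨w, hw, e⟩ => ?_⟩
  exact eq_of_support e ▸ hw

theorem sub_mem_iff {v w : GolayPt → ZMod 2} :
    w - v ∈ golayCode ↔ Cls (support₂ w) (support₂ v) := by
  rw [sub_eq_add', mem_code_iff_support, support_add, Cls]

theorem exists_word (t : Finset GolayPt) : ∃ v, support₂ v = t := by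
  obtain ⟨m, -, rfl⟩ := exists_mask t
  exact ⟨vec m, support_vec m⟩

theorem ncard_leader_words (w : GolayPt → ZMod 2) :
    {v : GolayPt → ZMod 2 | hammingNorm v ≤ 4 ∧ w - v ∈ golayCode}.ncard =
      (leaders (support₂ w)).card := by
  rw [← Set.ncard_coe_finset]
  refine Set.ncard_congr (fun v _ => support₂ v) ?_ ?_ ?_
  · intro v hv
    rw [Finset.mem_coe, mem_leaders]
    exact ⟨hv.1, sub_mem_iff.mp hv.2⟩
  · intro v v' _ _ h
    exact eq_of_support h
  · intro t ht
    rw [Finset.mem_coe, mem_leaders] at ht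
    obtain ⟨v, rfl⟩ := exists_word t
    exact ⟨v, ⟨ht.1, sub_mem_iff.mpr ht.2⟩, rfl⟩

/-- The restriction of a word to the first 23 points. -/
def punct (v : GolayPt → ZMod 2) : ZMod 23 → ZMod 2 := fun x => v (some x)

theorem card_support_punct (v : GolayPt → ZMod 2) :
    hammingNorm (punct v) = ((support₂ v).erase none).card := by
  unfold hammingNorm
  rw [← Finset.card_map ⟨some, Option.some_injective _⟩]
  congr 1
  ext p
  simp only [Finset.mem_map, Finset.mem_filter, Finset.mem_univ, true_and, Finset.mem_erase,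
    support₂, punct, Function.Embedding.coeFn_mk, ne_eq]
  cases p with
  | none => simp
  | some x =>
    constructor
    · rintro ⟨y, hy, e⟩
      exact ⟨by simp, (Option.some.inj e) ▸ (Finset.mem_filter.mp hy).2⟩
    · exact fun h => ⟨x, Finset.mem_filter.mpr ⟨Finset.mem_univ _, h.2⟩, rfl⟩

/-- Code words that agree away from the extra point are equal. -/
theorem punct_inj {v w : GolayPt → ZMod 2} (hv : v ∈ golayCode) (hw : w ∈ golayCode)
    (h : punct v = punct w) : v = w := by
  have hd : v - w ∈ golayCode := Submodule.sub_mem _ hv hw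
  have h0 : hammingNorm (punct (v - w)) = 0 := by
    have : punct (v - w) = 0 := by
      funext x; simpa [punct, sub_eq_zero] using congrFun h x
    rw [this, hammingNorm_zero]
  rw [card_support_punct] at h0
  have hcard := card_code (mem_code_iff_support.mp hd)
  have hp := Finset.pred_card_le_card_erase (a := none) (s := support₂ (v - w))
  have h' : (support₂ (v - w)).card = 0 := by omega
  have : v - w = 0 := eq_of_support (by
    rw [Finset.card_eq_zero.mp h']
    simp [support₂])
  exact sub_eq_zero.mp this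

theorem ncard_punct (P : (ZMod 23 → ZMod 2) → Prop) :
    {u : ZMod 23 → ZMod 2 | u ∈ {u : ZMod 23 → ZMod 2 |
      ∃ w ∈ golayCode, ∀ x : ZMod 23, u x = w (some x)} ∧ P u}.ncard =
      {w | w ∈ golayCode ∧ P (punct w)}.ncard := by
  symm
  refine Set.ncard_congr (fun w _ => punct w) ?_ ?_ ?_
  · intro w hw; exact ⟨⟨w, hw.1, fun _ => rfl⟩, hw.2⟩
  · intro v w hv hw h; exact punct_inj hv.1 hw.1 h
  · rintro u ⟨⟨w, hw, e⟩, hu⟩
    have : u = punct w := funext e
    exact ⟨w, ⟨hw, this ▸ hu⟩, this.symm⟩

theorem ncard_code_eq_countP (P : (GolayPt → ZMod 2) → Prop) (p : ℕ → Bool)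
    (hp : ∀ m, P (vec m) ↔ p m = true) :
    {w | w ∈ golayCode ∧ P w}.ncard = codeList.countP p := by
  rw [← ncard_eq_countP (fun m h => codeList_lt h) codeList_nodup
    (fun s => mem_supports (s := s)) (fun s => ∃ w, support₂ w = s ∧ P w) p]
  · refine Set.ncard_congr (fun w _ => support₂ w) ?_ ?_ ?_
    · intro w hw; exact ⟨⟨w, hw.1, rfl⟩, w, rfl, hw.2⟩
    · intro v w _ _ h; exact eq_of_support h
    · rintro s ⟨hs, w, rfl, hw⟩
      exact ⟨w, ⟨mem_code_iff_support.mpr hs, hw⟩, rfl⟩
  · intro m _
    rw [← hp m]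
    constructor
    · rintro ⟨w, hw, hP⟩
      rwa [← eq_of_support (hw.trans (support_vec m).symm)]
    · exact fun h => ⟨vec m, support_vec m, h⟩

theorem hammingNorm_punct_vec (m : ℕ) : hammingNorm (punct (vec m)) = pop (m &&& 8388607) := by
  rw [card_support_punct, support_vec, ← card_pts]
  congr 1
  have hall : ∀ p : GolayPt, Nat.testBit 8388607 (idx p) = decide (p ≠ none) := by decide +kernel
  ext p
  rw [Finset.mem_erase, mem_pts, mem_pts, Nat.testBit_and, hall, Bool.and_eq_true,
    decide_eq_true_eq]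
  exact and_comm

end Cfsg.Agent.Spor.Golay
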