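import Cfsg.Agent.Lib.Spor.Golay.CensusTools
import Cfsg.Agent.Lib.Spor.Golay.Cosets
import Cfsg.Agent.Lib.Spor.Golay.Words
import Cfsg.Agent.Lib.Spor.Golay.CensusClasses

/-! The invariant submodules of the space of words. -/

set_option autoImplicit false
set_option maxRecDepth 100000

namespace Cfsg.Agent.Spor.Golay.Census

open scoped Pointwise symmDiff

local notation "𝒞" => supports (golayCode : Set (GolayPt → ZMod 2))

/-- A family of sets closed under symmetric difference and the code group. -/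
structure Closed (W : Set (Finset GolayPt)) : Prop where
  empty : ∅ ∈ W
  add : ∀ s t, s ∈ W → t ∈ W → s ∆ t ∈ W
  move : ∀ σ ∈ M24, ∀ s ∈ W, σ • s ∈ W

theorem smul_code {σ : Equiv.Perm GolayPt} (hσ : σ ∈ M24) {s : Finset GolayPt} (hs : s ∈ 𝒞) : σ • s ∈ 𝒞 := by
  have := Set.smul_mem_smul_set (a := σ) hs
  rwa [MulAction.mem_stabilizer_iff.mp hσ] at this

theorem closed_code : Closed 𝒞 :=
  ⟨zero_mem_supports, fun _ _ => symmDiff_mem_supports, fun _ hσ _ => smul_code hσ⟩

theorem univ_mem_code : (Finset.univ : Finset GolayPt) ∈ 𝒞 :=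
  ⟨1, Submodule.subset_span (Set.mem_union_right _ rfl), by ext p; simp [support₂]⟩

theorem mix_checks : isCode 109547 = true ∧ pop 109547 = 12 ∧ pop (dd &&& 109547) = 8 ∧
    (basis.all fun b => isCode b && (pop b == 8)) = true ∧
    (octData.any fun o => pop (octA &&& o) == 4) = true := by decide +kernel

/-- A proper member of the code generates it. -/
theorem code_subset {W : Set (Finset GolayPt)} (hW : Closed W) {s : Finset GolayPt} (hs : s ∈ W) (hc : s ∈ 𝒞)
    (h0 : s ≠ ∅) (h1 : s ≠ Finset.univ) : 𝒞 ⊆ W := by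
  suffices ∃ o ∈ W, o ∈ octads by
    obtain ⟨o, ho, hoct⟩ := this
    obtain ⟨g, hg, rfl⟩ := exists_smul_octA hoct
    intro t ht
    refine supports_induction (P := fun t => t ∈ W) hW.empty hW.add (fun b hb => ?_) ht
    have hb' := List.all_eq_true.mp mix_checks.2.2.2.1 b hb
    simp only [Bool.and_eq_true, beq_iff_eq] at hb'
    obtain ⟨k, hk, e⟩ := exists_smul_octA (o := pts b)
      (mem_octads.mpr ⟨b, mem_weightList.mpr ⟨mem_codeList.mpr hb'.1, hb'.2⟩, rfl⟩)
    have := hW.move (k * g⁻¹) (mul_mem hk (inv_mem hg)) _ ho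
    rwa [mul_smul, inv_smul_smul, e] at this
  rcases card_code hc with e | e | e | e | e
  · exact absurd (Finset.card_eq_zero.mp e) h0
  · exact ⟨s, hs, hc, e⟩
  · obtain ⟨g, hg, rfl⟩ := exists_smul_dd (show s ∈ dodecads from ⟨hc, e⟩)
    obtain ⟨k, hk, e'⟩ := exists_smul_dd (d := pts 109547)
      (mem_dodecads.mpr ⟨_, mem_weightList.mpr ⟨mem_codeList.mpr mix_checks.1, mix_checks.2.1⟩, rfl⟩)
    have h2 := hW.move g⁻¹ (inv_mem hg) _ hs
    rw [inv_smul_smul] at h2
    have h3 := hW.move k hk _ h2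
    rw [e'] at h3
    refine ⟨_, hW.add _ _ h2 h3, symmDiff_mem_supports pts_dd_mem.1 (e' ▸ smul_code hk pts_dd_mem.1), ?_⟩
    have hc1 := card_symmDiff_add (pts dd) (pts 109547)
    rw [pts_inter, card_pts (dd &&& 109547), mix_checks.2.2.1, card_pts dd, card_pts 109547, mix_checks.2.1,
      dd_checks.2.1] at hc1
    omega
  · have hco : sᶜ ∈ octads := by
      refine ⟨?_, by rw [Finset.card_compl, card_golayPt, e]⟩
      have := symmDiff_mem_supports univ_mem_code hc
      rwa [show Finset.univ ∆ s = sᶜ from top_symmDiff _] at this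
    obtain ⟨g, hg, e'⟩ := exists_smul_octA hco
    obtain ⟨o, ho, h4⟩ := List.any_eq_true.mp mix_checks.2.2.2.2
    rw [beq_iff_eq] at h4
    obtain ⟨k, hk, e''⟩ := exists_smul_octA (mem_octData ho)
    have h2 : (pts octA)ᶜ ∈ W := by
      have := hW.move g⁻¹ (inv_mem hg) _ hs
      rw [← compl_compl s, ← e', smul_compl', inv_smul_smul] at this
      exact this
    have h3 := hW.move k hk _ h2
    rw [smul_compl', e''] at h3
    refine ⟨_, hW.add _ _ h2 h3, ?_, ?_⟩
    · rw [compl_symmDiff_compl]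
      exact symmDiff_mem_supports pts_octA_mem.1 (mem_octData ho).1
    · rw [compl_symmDiff_compl]
      have hc1 := card_symmDiff_add (pts octA) (pts o)
      rw [octad_card pts_octA_mem, octad_card (mem_octData ho), pts_inter, card_pts (octA &&& o), h4] at hc1
      omega
  · exact absurd (Finset.card_eq_iff_eq_univ s |>.mp (by rw [e, card_golayPt])) h1

/-- Moving listed distinct points to listed distinct points. -/
theorem exists_move_points {k : ℕ} (hk : k ≤ 5) (x y : Fin k ↪ GolayPt) : ∃ σ ∈ M24, ∀ i, σ (x i) = y i := by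
  haveI := M24_pretransitive hk
  obtain ⟨m, hm⟩ := MulAction.exists_smul_eq M24 x y
  exact ⟨m, m.2, fun i => congrArg (fun f : Fin k ↪ GolayPt => f i) hm⟩

/-- A pair generates all even sets. -/
theorem even_subset {W : Set (Finset GolayPt)} (hW : Closed W) {p : Finset GolayPt} (hp : p ∈ W)
    (h2 : p.card = 2) {s : Finset GolayPt} (hs : Even s.card) : s ∈ W := by
  have hpair : ∀ t : Finset GolayPt, t.card = 2 → t ∈ W := fun t ht => by
    obtain ⟨σ, hσ, e⟩ := exists_smul_card (k := 2) (by norm_num) h2 ht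
    exact e ▸ hW.move σ hσ _ hp
  induction hn : s.card using Nat.strong_induction_on generalizing s with
  | _ n ih =>
    rcases Nat.lt_or_ge s.card 2 with h | h
    · obtain ⟨m, hm⟩ := hs
      rw [Finset.card_eq_zero.mp (show s.card = 0 by omega)]
      exact hW.empty
    · obtain ⟨t, ht, hc⟩ := Finset.exists_subset_card_eq h
      have h1 : (s \ t).card = s.card - 2 := by rw [Finset.card_sdiff_of_subset ht, hc]
      have he : Even (s \ t).card := by
        rw [h1]
        obtain ⟨m, hm⟩ := hs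
        exact ⟨m - 1, by omega⟩
      have := hW.add _ _ (ih (s \ t).card (by omega) he rfl) (hpair t hc)
      rw [show (s \ t) ∆ t = s \ t ∪ t from disjoint_sdiff_self_left.symmDiff_eq_sup,
        Finset.sdiff_union_of_subset ht] at this
      exact this

theorem even_code {s : Finset GolayPt} (hs : s ∈ 𝒞) : Even s.card := by
  rcases card_code hs with e | e | e | e | e <;> rw [e] <;> decide

/-- A light nonempty member gives a pair. -/
theorem exists_pair_mem {W : Set (Finset GolayPt)} (hW : Closed W) {t : Finset GolayPt} (ht : t ∈ W)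
    (h0 : t.Nonempty) (h4 : t.card ≤ 4) : ∃ p ∈ W, p.card = 2 := by
  obtain ⟨a, ha⟩ := h0
  obtain ⟨b, hb⟩ : ∃ b, b ∉ t := by
    by_contra h
    simp only [not_exists, not_not] at h
    have := Finset.card_le_card (show (Finset.univ : Finset GolayPt) ⊆ t from fun x _ => h x)
    rw [Finset.card_univ, card_golayPt] at this
    omega
  have hb' : b ∉ t.erase a := fun h => hb (Finset.mem_of_mem_erase h)
  obtain ⟨σ, hσ, e⟩ := exists_smul_card (k := t.card) (by omega) (a := t) (b := insert b (t.erase a)) rfl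
    (by rw [Finset.card_insert_of_notMem hb', Finset.card_erase_of_mem ha]; have := Finset.card_pos.mpr ⟨a, ha⟩; omega)
  refine ⟨_, hW.add _ _ ht (e ▸ hW.move σ hσ _ ht), ?_⟩
  have hab : a ≠ b := fun h => hb (h ▸ ha)
  rw [show t ∆ insert b (t.erase a) = {a, b} by
    ext x
    simp only [Finset.mem_symmDiff, Finset.mem_insert, Finset.mem_erase, Finset.mem_singleton]
    by_cases h1 : x = a <;> by_cases h2 : x = b <;> simp_all]
  exact Finset.card_pair hab

/-- An invariant family outside the code contains it. -/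
theorem code_subset_of_not {W : Set (Finset GolayPt)} (hW : Closed W) {s : Finset GolayPt} (hs : s ∈ W)
    (hc : s ∉ 𝒞) : 𝒞 ⊆ W := by
  obtain ⟨t, ht4, htc⟩ := exists_leader s
  let V : Set (Finset GolayPt) := {u | ∃ w ∈ W, ∃ c ∈ 𝒞, u = w ∆ c}
  have hV : Closed V := by
    refine ⟨⟨∅, hW.empty, ∅, zero_mem_supports, (symmDiff_self _).symm⟩, ?_, ?_⟩
    · rintro _ _ ⟨w, hw, c, hc, rfl⟩ ⟨w', hw', c', hc', rfl⟩
      exact ⟨_, hW.add _ _ hw hw', _, symmDiff_mem_supports hc hc', symmDiff_symmDiff_symmDiff_comm _ _ _ _⟩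
    · rintro σ hσ _ ⟨w, hw, c, hc, rfl⟩
      exact ⟨_, hW.move σ hσ _ hw, _, smul_code hσ hc, Finset.smul_finset_symmDiff ..⟩
  have htV : t ∈ V := ⟨s, hs, s ∆ t, htc, (symmDiff_symmDiff_cancel_left _ _).symm⟩
  have htne : t.Nonempty := by
    rw [Finset.nonempty_iff_ne_empty]
    rintro rfl
    rw [Cls, ← Finset.bot_eq_empty, symmDiff_bot] at htc
    exact hc htc
  obtain ⟨e, ⟨w, hw, c, hc', rfl⟩, he2⟩ := exists_pair_mem hV htV htne ht4
  obtain ⟨p, q, hpq, hwc⟩ := Finset.card_eq_two.mp he2
  have hwe : w = ({p, q} : Finset GolayPt) ∆ c := by rw [← hwc, symmDiff_symmDiff_cancel_right]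
  intro u hu
  by_cases h0 : c = ∅
  · rw [h0, ← Finset.bot_eq_empty, symmDiff_bot] at hwe
    exact even_subset hW (hwe ▸ hw) (Finset.card_pair hpq) (even_code hu)
  by_cases h1 : c = Finset.univ
  · obtain ⟨r, hr⟩ : ∃ r : GolayPt, r ∉ ({p, q} : Finset GolayPt) := by
      by_contra h
      simp only [not_exists, not_not] at h
      have := Finset.card_le_card (show (Finset.univ : Finset GolayPt) ⊆ {p, q} from fun x _ => h x)
      rw [Finset.card_univ, card_golayPt, Finset.card_pair hpq] at this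
      omega
    simp only [Finset.mem_insert, Finset.mem_singleton, not_or] at hr
    rw [h1, show ({p, q} : Finset GolayPt) ∆ Finset.univ = ({p, q} : Finset GolayPt)ᶜ from symmDiff_top _] at hwe
    obtain ⟨σ, hσ, e'⟩ := exists_smul_card (k := 2) (by norm_num) (Finset.card_pair hpq)
      (Finset.card_pair (Ne.symm hr.1) : ({p, r} : Finset GolayPt).card = 2)
    have h2 := hW.move σ hσ _ (hwe ▸ hw)
    rw [smul_compl', e'] at h2
    have h3 := hW.add _ _ (hwe ▸ hw) h2
    rw [compl_symmDiff_compl, show ({p, q} : Finset GolayPt) ∆ {p, r} = {q, r} by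
      ext x
      simp only [Finset.mem_symmDiff, Finset.mem_insert, Finset.mem_singleton]
      by_cases h1 : x = p <;> by_cases h2 : x = q <;> by_cases h3 : x = r <;> simp_all] at h3
    exact even_subset hW h3 (Finset.card_pair (Ne.symm hr.2)) (even_code hu)
  have hcard : 8 ≤ c.card ∧ c.card ≤ 16 := by
    rcases card_code hc' with e | e | e | e | e
    · exact absurd (Finset.card_eq_zero.mp e) h0
    all_goals first
      | omega
      | exact absurd (Finset.card_eq_iff_eq_univ c |>.mp (by rw [e, card_golayPt])) h1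
  obtain ⟨x, hx⟩ : ∃ x, x ∈ c \ {p, q} := Finset.card_pos.mp (by
    have := Finset.le_card_sdiff {p, q} c
    rw [Finset.card_pair hpq] at this
    omega)
  obtain ⟨y, hy⟩ : ∃ y, y ∈ cᶜ \ {p, q} := Finset.card_pos.mp (by
    have := Finset.le_card_sdiff {p, q} cᶜ
    rw [Finset.card_pair hpq, Finset.card_compl, card_golayPt] at this
    omega)
  simp only [Finset.mem_sdiff, Finset.mem_insert, Finset.mem_singleton, not_or, Finset.mem_compl] at hx hy
  obtain ⟨σ, hσ, e⟩ := exists_move_points (k := 3) (by norm_num)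
    ⟨![p, q, x], fun i j e => by
      revert e
      fin_cases i <;> fin_cases j <;> simp [hpq, hpq.symm, hx.2.1, hx.2.2, Ne.symm hx.2.1, Ne.symm hx.2.2]⟩
    ⟨![p, q, y], fun i j e => by
      revert e
      fin_cases i <;> fin_cases j <;> simp [hpq, hpq.symm, hy.2.1, hy.2.2, Ne.symm hy.2.1, Ne.symm hy.2.2]⟩
  have e0 : σ p = p := e 0
  have e1 : σ q = q := e 1
  have e2 : σ x = y := e 2
  have hd := hW.add _ _ hw (hW.move σ hσ _ hw)
  rw [hwe, Finset.smul_finset_symmDiff, Finset.smul_finset_insert, Finset.smul_finset_singleton, Equiv.Perm.smul_def,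
    Equiv.Perm.smul_def, e0, e1, symmDiff_symmDiff_symmDiff_comm, symmDiff_self, bot_symmDiff] at hd
  refine code_subset hW hd (symmDiff_mem_supports hc' (smul_code hσ hc')) (fun h => ?_) (fun h => ?_) hu
  · have h2 : c = σ • c := symmDiff_eq_bot.mp h
    refine hy.1 ?_
    rw [h2, ← e2]
    exact Finset.smul_mem_smul_finset (a := σ) hx.1
  · have h2 : p ∈ c ∆ (σ • c) := h.symm ▸ Finset.mem_univ p
    have h3 : p ∈ σ • c ↔ p ∈ c := by
      conv_lhs => rw [← e0, ← Equiv.Perm.smul_def, Finset.smul_mem_smul_finset_iff]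
    rw [Finset.mem_symmDiff, h3] at h2
    tauto

/-- The invariant families. -/
theorem classify {W : Set (Finset GolayPt)} (hW : Closed W) :
    (∀ s, s ∈ W → s = ∅ ∨ s = Finset.univ) ∨ W = 𝒞 ∨ W = {s | Even s.card} ∨ W = Set.univ := by
  by_cases hsub : W ⊆ 𝒞
  · by_cases h : ∀ s, s ∈ W → s = ∅ ∨ s = Finset.univ
    · exact Or.inl h
    · simp only [not_forall, not_or] at h
      obtain ⟨s, hs, h0, h1⟩ := h
      exact Or.inr (Or.inl (Set.Subset.antisymm hsub (code_subset hW hs (hsub hs) h0 h1)))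
  · obtain ⟨s, hs, hc⟩ := Set.not_subset.mp hsub
    have hC := code_subset_of_not hW hs hc
    obtain ⟨t, ht4, htc⟩ := exists_leader s
    have htW : t ∈ W := by
      have := hW.add _ _ hs (hC htc)
      rwa [symmDiff_symmDiff_cancel_left] at this
    have htne : t.Nonempty := by
      rw [Finset.nonempty_iff_ne_empty]
      rintro rfl
      rw [Cls, ← Finset.bot_eq_empty, symmDiff_bot] at htc
      exact hc htc
    obtain ⟨p, hp, hp2⟩ := exists_pair_mem hW htW htne ht4
    by_cases he : ∀ u ∈ W, Even u.card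
    · exact Or.inr (Or.inr (Or.inl (Set.ext fun u => ⟨he u, fun h => even_subset hW hp hp2 h⟩)))
    · simp only [not_forall] at he
      obtain ⟨v, hv, hodd⟩ := he
      refine Or.inr (Or.inr (Or.inr (Set.eq_univ_of_forall fun u => ?_)))
      by_cases hu : Even u.card
      · exact even_subset hW hp hp2 hu
      · have h2 : Even (u ∆ v).card := by
          have := card_symmDiff_add u v
          rw [Nat.not_even_iff] at hu hodd
          rw [Nat.even_iff]
          omega
        have := hW.add _ _ (even_subset hW hp hp2 h2) hv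
        rwa [symmDiff_symmDiff_cancel_right] at this

theorem support_comp (σ : Equiv.Perm GolayPt) (w : GolayPt → ZMod 2) :
    support₂ (fun p => w (σ.symm p)) = σ • support₂ w := by
  ext p
  rw [← Finset.inv_smul_mem_iff]
  simp [support₂, Equiv.Perm.smul_def]

/-- The supports of an invariant submodule. -/
theorem closed_of {W : Submodule (ZMod 2) (GolayPt → ZMod 2)}
    (hW : ∀ σ ∈ M24, ∀ w ∈ W, (fun p => w (σ.symm p)) ∈ W) : Closed (supports (W : Set (GolayPt → ZMod 2))) := by
  refine ⟨⟨0, W.zero_mem, by ext p; simp [support₂]⟩, ?_, ?_⟩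
  · rintro _ _ ⟨v, hv, rfl⟩ ⟨w, hw, rfl⟩
    exact ⟨v + w, W.add_mem hv hw, support_add v w⟩
  · rintro σ hσ _ ⟨v, hv, rfl⟩
    exact ⟨_, hW σ hσ v hv, support_comp σ v⟩

theorem mem_iff_support {W : Submodule (ZMod 2) (GolayPt → ZMod 2)} (w : GolayPt → ZMod 2) :
    w ∈ W ↔ support₂ w ∈ supports (W : Set (GolayPt → ZMod 2)) :=
  ⟨fun h => ⟨w, h, rfl⟩, fun ⟨_, hv, e⟩ => eq_of_support e ▸ hv⟩

theorem sum_eq_zero_iff (w : GolayPt → ZMod 2) : ∑ p, w p = 0 ↔ Even (support₂ w).card := by
  obtain ⟨m, -, rfl⟩ := exists_vec w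
  rw [support_vec, pts, Finset.card_filter]
  have e : ∑ p, vec m p = ((∑ p : GolayPt, if m.testBit (idx p) = true then 1 else 0 : ℕ) : ZMod 2) := by
    rw [Nat.cast_sum]
    exact Finset.sum_congr rfl fun p _ => by unfold vec; split <;> simp
  rw [e, ZMod.natCast_eq_zero_iff_even]

end Cfsg.Agent.Spor.Golay.Census
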