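import Cfsg.Agent.Lib.Spor.Golay.CensusClasses
import Cfsg.Agent.Lib.Spor.Golay.CensusParts

/-! The elements of the largest Mathieu group conjugating one packed permutation to a given power of it. -/

set_option autoImplicit false
set_option maxRecDepth 100000

namespace Cfsg.Agent.Spor.Golay.PermConj

open Golay Golay.Census
open scoped Pointwise

/-- The powers. -/
def pw (g : ℕ) : ℕ → ℕ
  | 0 => idP
  | k + 1 => comp g (pw g k)

/-- Compatibility on the positions fixed so far. -/
def test (g gk Q : ℕ) (cs : List ℕ) : Bool :=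
  cs.all fun b => !Nat.blt b 24 || !(cs.any fun c => Nat.beq c (get g b)) || Nat.beq (get Q (get g b)) (get gk (get Q b))

/-- Compatibility together with fixing the first position. -/
def test0 (g gk Q : ℕ) (cs : List ℕ) : Bool :=
  test g gk Q cs && (!(cs.any fun c => Nat.beq c 0) || Nat.beq (get Q 0) 0)

/-- The elements fixing the first position and conjugating `g` to `gk`. -/
def conjList0 (g gk : ℕ) : List ℕ :=
  (cands table (test0 g gk) idP [] chainA).filter fun R => Nat.beq (comp R g) (comp gk R) && Nat.beq (get R 0) 0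

/-- The elements conjugating `g` to `gk`. -/
def conjList (g gk : ℕ) : List ℕ :=
  (cands table (test g gk) idP [] chainA).filter fun R => Nat.beq (comp R g) (comp gk R)

variable {g : ℕ}

theorem valid_of_inM24 {R : ℕ} (h : inM24 R = true) : valid R = true := by
  simp only [inM24, Bool.and_eq_true] at h; exact h.1

theorem pw_spec (hg : valid g = true) : ∀ k, valid (pw g k) = true ∧ permOf (pw g k) = permOf g ^ k
  | 0 => ⟨valid_idP, by rw [pw, permOf_idP, pow_zero]⟩
  | k + 1 => by
    obtain ⟨hv, hp⟩ := pw_spec hg k
    exact ⟨valid_comp hg hv, by rw [pw, permOf_comp hg hv, hp, pow_succ']⟩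

theorem mem_conjList (hg : valid g = true) {k : ℕ} {n : Equiv.Perm GolayPt} (hn : n ∈ M24)
    (e : n * permOf g = permOf g ^ k * n) : ∃ R ∈ conjList g (pw g k), permOf R = n := by
  obtain ⟨hkv, hkp⟩ := pw_spec hg k
  have hap : ∀ p, n (permOf g p) = permOf (pw g k) (n p) := fun p => by
    rw [hkp]; exact Equiv.congr_fun e p
  obtain ⟨R, hR, hv, eR⟩ := mem_cands tableOk (test g (pw g k)) (g := n) (fun Q cs hQ hag => by
      simp only [test, List.all_eq_true, Bool.or_eq_true, Bool.not_eq_true', List.any_eq_false]
      intro b hb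
      by_cases hb24 : b < 24
      · by_cases hm : get g b ∈ cs
        · refine Or.inr ?_
          have e2 := hag b hb
          have e3 := hag _ hm
          have hgb : permOf g (pt b) = pt (get g b) := idx_injective (by
            rw [idx_permOf hg, idx_pt hb24, idx_pt ((valid_iff.mp hg).2 b hb24)])
          have := congrArg idx (hap (pt b))
          rw [hgb, ← e3, ← e2, idx_permOf hQ, idx_permOf hkv, idx_permOf hQ, idx_pt hb24,
            idx_pt ((valid_iff.mp hg).2 b hb24)] at this
          rw [this]; simp
        · exact Or.inl (Or.inr fun c hc he => hm (Nat.eq_of_beq_eq_true he ▸ hc))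
      · refine Or.inl (Or.inl ?_)
        cases hbl : Nat.blt b 24
        · rfl
        · exact absurd (lt_of_blt hbl) hb24) chainA [] idP valid_idP lowA upA idx_ok.1
    (by rw [permOf_idP, inv_one, one_mul, Fix_nil]; exact hn)
  refine ⟨R, List.mem_filter.mpr ⟨hR, ?_⟩, eR⟩
  have h2 : permOf (comp R g) = permOf (comp (pw g k) R) := by
    rw [permOf_comp hv hg, permOf_comp hkv hv, eR, hkp]; exact e
  have h3 : comp R g = comp (pw g k) R := pack_ext 24 _ _ fun i hi => by
    have := congrArg (fun p : Equiv.Perm GolayPt => idx (p (pt i))) h2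
    rwa [idx_permOf (valid_comp hv hg), idx_permOf (valid_comp hkv hv), idx_pt hi, get_comp _ _ hi,
      get_comp _ _ hi] at this
  rw [h3]; simp

theorem mem_conjList0 (hg : valid g = true) {k : ℕ} {n : Equiv.Perm GolayPt} (hn : n ∈ M24)
    (e : n * permOf g = permOf g ^ k * n) (h0 : n (pt 0) = pt 0) : ∃ R ∈ conjList0 g (pw g k), permOf R = n := by
  obtain ⟨hkv, hkp⟩ := pw_spec hg k
  have hap : ∀ p, n (permOf g p) = permOf (pw g k) (n p) := fun p => by
    rw [hkp]; exact Equiv.congr_fun e p
  obtain ⟨R, hR, hv, eR⟩ := mem_cands tableOk (test0 g (pw g k)) (g := n) (fun Q cs hQ hag => by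
      simp only [test0, test, Bool.and_eq_true, List.all_eq_true, Bool.or_eq_true, Bool.not_eq_true',
        List.any_eq_false]
      refine ⟨?_, ?_⟩
      swap
      · by_cases hm : (0 : ℕ) ∈ cs
        · refine Or.inr ?_
          have e2 := hag 0 hm
          have e4 := congrArg idx h0
          rw [← e2, idx_permOf hQ, idx_pt (by norm_num : 0 < 24)] at e4
          rw [e4]; simp
        · exact Or.inl fun c hc he => hm (Nat.eq_of_beq_eq_true he ▸ hc)
      intro b hb
      by_cases hb24 : b < 24
      · by_cases hm : get g b ∈ cs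
        · refine Or.inr ?_
          have e2 := hag b hb
          have e3 := hag _ hm
          have hgb : permOf g (pt b) = pt (get g b) := idx_injective (by
            rw [idx_permOf hg, idx_pt hb24, idx_pt ((valid_iff.mp hg).2 b hb24)])
          have := congrArg idx (hap (pt b))
          rw [hgb, ← e3, ← e2, idx_permOf hQ, idx_permOf hkv, idx_permOf hQ, idx_pt hb24,
            idx_pt ((valid_iff.mp hg).2 b hb24)] at this
          rw [this]; simp
        · exact Or.inl (Or.inr fun c hc he => hm (Nat.eq_of_beq_eq_true he ▸ hc))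
      · refine Or.inl (Or.inl ?_)
        cases hbl : Nat.blt b 24
        · rfl
        · exact absurd (lt_of_blt hbl) hb24) chainA [] idP valid_idP lowA upA idx_ok.1
    (by rw [permOf_idP, inv_one, one_mul, Fix_nil]; exact hn)
  refine ⟨R, List.mem_filter.mpr ⟨hR, ?_⟩, eR⟩
  have h2 : permOf (comp R g) = permOf (comp (pw g k) R) := by
    rw [permOf_comp hv hg, permOf_comp hkv hv, eR, hkp]; exact e
  have h3 : comp R g = comp (pw g k) R := pack_ext 24 _ _ fun i hi => by
    have := congrArg (fun p : Equiv.Perm GolayPt => idx (p (pt i))) h2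
    rwa [idx_permOf (valid_comp hv hg), idx_permOf (valid_comp hkv hv), idx_pt hi, get_comp _ _ hi,
      get_comp _ _ hi] at this
  have e4 := congrArg idx h0
  rw [← eR, idx_permOf hv, idx_pt (by norm_num : 0 < 24)] at e4
  rw [h3, e4]; simp

theorem of_conjList (hg : valid g = true) {k : ℕ} {R : ℕ} (h : R ∈ conjList g (pw g k)) (hM : inM24 R = true) :
    permOf R * permOf g = permOf g ^ k * permOf R := by
  have e := Nat.eq_of_beq_eq_true (List.mem_filter.mp h).2
  rw [← permOf_comp (valid_of_inM24 hM) hg, e, permOf_comp (pw_spec hg k).1 (valid_of_inM24 hM),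
    (pw_spec hg k).2]

end Cfsg.Agent.Spor.Golay.PermConj
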