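import Cfsg.Agent.Lib.Spor.Golay.M24Facts

/-! Certificates for orbits and stabilisers of families of point sets inside the code group. -/

set_option autoImplicit false
set_option maxRecDepth 100000

namespace Cfsg.Agent.Spor.Golay.Census

open scoped Pointwise

/-- The family of sets with the given masks. -/
def fam (L : List ℕ) : Finset (Finset GolayPt) := (L.map pts).toFinset

/-- Insert into an increasing list. -/
def ins (a : ℕ) : List ℕ → List ℕ
  | [] => [a]
  | b :: L => if a < b then a :: b :: L else if a = b then b :: L else b :: ins a L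

theorem mem_ins {a x : ℕ} : ∀ {L : List ℕ}, x ∈ ins a L ↔ x = a ∨ x ∈ L
  | [] => by simp [ins]
  | b :: L => by
    unfold ins
    split_ifs with h1 h2
    · simp
    · subst h2; simp
    · simp only [List.mem_cons, mem_ins (L := L)]
      tauto

/-- Sort. -/
def srt (L : List ℕ) : List ℕ := L.foldr ins []

theorem mem_srt {x : ℕ} : ∀ {L : List ℕ}, x ∈ srt L ↔ x ∈ L
  | [] => Iff.rfl
  | b :: L => by
    show x ∈ ins b (srt L) ↔ _
    rw [mem_ins, mem_srt (L := L), List.mem_cons]

/-- The image of a list of masks. -/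
def img (P : ℕ) (L : List ℕ) : List ℕ := srt (L.map (imgMask (get P)))

theorem fam_img {P : ℕ} (h : valid P = true) (L : List ℕ) : fam (img P L) = permOf P • fam L := by
  ext s
  simp only [fam, img, List.mem_toFinset, List.mem_map, mem_srt, Finset.mem_smul_finset]
  constructor
  · rintro ⟨m, ⟨a, ha, rfl⟩, rfl⟩
    exact ⟨pts a, ⟨a, ha, rfl⟩, permOf_smul_pts h a⟩
  · rintro ⟨t, ⟨a, ha, rfl⟩, rfl⟩
    exact ⟨_, ⟨a, ha, rfl⟩, (permOf_smul_pts h a).symm⟩

/-! The checks below are written with recursors, so that the kernel evaluates them quickly. -/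

theorem lt_of_blt {a b : ℕ} (h : Nat.blt a b = true) : a < b := Nat.le_of_ble_eq_true h

/-- All values below a bound. -/
noncomputable def allLt (n : ℕ) (f : ℕ → Bool) : Bool := Nat.rec true (fun i r => f i && r) n

theorem allLt_spec {f : ℕ → Bool} : ∀ {n : ℕ}, allLt n f = true → ∀ i < n, f i = true
  | 0, _, i, hi => absurd hi (Nat.not_lt_zero i)
  | n + 1, h, i, hi => by
    have h' : (f n && allLt n f) = true := h
    rw [Bool.and_eq_true] at h'
    rcases Nat.lt_succ_iff_lt_or_eq.mp hi with hi | rfl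
    · exact allLt_spec h'.2 i hi
    · exact h'.1

/-- Equality of lists. -/
noncomputable def eqL (L M : List ℕ) : Bool :=
  List.rec (fun M => List.rec true (fun _ _ _ => false) M)
    (fun a _ r M => List.rec false (fun b M' _ => Nat.beq a b && r M') M) L M

theorem eqL_spec : ∀ {L M : List ℕ}, eqL L M = true → L = M
  | [], [], _ => rfl
  | [], _ :: _, h => absurd (h : false = true) Bool.false_ne_true
  | _ :: _, [], h => absurd (h : false = true) Bool.false_ne_true
  | a :: L, b :: M, h => by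
    have h' : (Nat.beq a b && eqL L M) = true := h
    rw [Bool.and_eq_true] at h'
    rw [Nat.eq_of_beq_eq_true h'.1, eqL_spec h'.2]

/-- Insert into an increasing list. -/
noncomputable def insF (a : ℕ) (L : List ℕ) : List ℕ :=
  List.rec [a] (fun b L r => Bool.rec (Bool.rec (b :: r) (b :: L) (Nat.beq a b)) (a :: b :: L) (Nat.blt a b)) L

theorem mem_insF {a x : ℕ} : ∀ {L : List ℕ}, x ∈ insF a L ↔ x = a ∨ x ∈ L
  | [] => by simp [insF]
  | b :: L => by
    have e : insF a (b :: L) = Bool.rec (Bool.rec (b :: insF a L) (b :: L) (Nat.beq a b)) (a :: b :: L) (Nat.blt a b) := rfl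
    rw [e]
    cases Nat.blt a b
    · cases h2 : Nat.beq a b
      · simp only [List.mem_cons, mem_insF (L := L)]
        tauto
      · rw [Nat.eq_of_beq_eq_true h2]
        simp
    · simp

/-- Sort. -/
noncomputable def srtF (L : List ℕ) : List ℕ := List.rec [] (fun a _ r => insF a r) L

theorem mem_srtF {x : ℕ} : ∀ {L : List ℕ}, x ∈ srtF L ↔ x ∈ L
  | [] => Iff.rfl
  | b :: L => by
    show x ∈ insF b (srtF L) ↔ _
    rw [mem_insF, mem_srtF (L := L), List.mem_cons]

/-- Lookup in a table of masks. -/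
def lk (T j : ℕ) : ℕ := Nat.land (Nat.shiftRight T (Nat.mul 24 j)) 16777215

/-- The image of a mask by a table of images of the six groups of four positions. -/
def imgT (T m : ℕ) : ℕ :=
  Nat.lor (Nat.lor (Nat.lor (lk T (Nat.land m 15)) (lk T (Nat.add 16 (Nat.land (Nat.shiftRight m 4) 15))))
    (Nat.lor (lk T (Nat.add 32 (Nat.land (Nat.shiftRight m 8) 15))) (lk T (Nat.add 48 (Nat.land (Nat.shiftRight m 12) 15)))))
    (Nat.lor (lk T (Nat.add 64 (Nat.land (Nat.shiftRight m 16) 15))) (lk T (Nat.add 80 (Nat.land (Nat.shiftRight m 20) 15))))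

/-- Whether a table gives the images of a packed permutation. -/
noncomputable def tableFits (P T : ℕ) : Bool :=
  allLt 96 fun j => Nat.beq (lk T j) (imgMask (get P) ((j % 16) <<< (4 * (j / 16))))

theorem imgMask_or (f : ℕ → ℕ) (a b : ℕ) : imgMask f (a ||| b) = imgMask f a ||| imgMask f b := by
  refine Nat.eq_of_testBit_eq fun j => Bool.eq_iff_iff.mpr ?_
  rw [Nat.testBit_or, Bool.or_eq_true, testBit_imgMask, testBit_imgMask, testBit_imgMask]
  constructor
  · rintro ⟨i, hi, h, e⟩
    rw [Nat.testBit_or, Bool.or_eq_true] at h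
    exact h.imp (fun h => ⟨i, hi, h, e⟩) fun h => ⟨i, hi, h, e⟩
  · rintro (⟨i, hi, h, e⟩ | ⟨i, hi, h, e⟩) <;> exact ⟨i, hi, by simp [Nat.testBit_or, h], e⟩

theorem imgMask_congr (f : ℕ → ℕ) {a b : ℕ} (h : ∀ i < 24, a.testBit i = b.testBit i) :
    imgMask f a = imgMask f b := by
  refine Nat.eq_of_testBit_eq fun j => Bool.eq_iff_iff.mpr ?_
  rw [testBit_imgMask, testBit_imgMask]
  constructor <;> rintro ⟨i, hi, hb, e⟩
  · exact ⟨i, hi, h i hi ▸ hb, e⟩
  · exact ⟨i, hi, (h i hi).symm ▸ hb, e⟩

theorem imgT_eq {P T : ℕ} (h : tableFits P T = true) (m : ℕ) : imgT T m = imgMask (get P) m := by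
  have hj : ∀ g < 6, ∀ c, lk T (16 * g + c % 16) = imgMask (get P) ((c % 16) <<< (4 * g)) := by
    intro g hg c
    have := Nat.eq_of_beq_eq_true (allLt_spec h (16 * g + c % 16) (by omega))
    rwa [show (16 * g + c % 16) % 16 = c % 16 by omega, show (16 * g + c % 16) / 16 = g by omega] at this
  have hand : ∀ c, Nat.land c 15 = c % 16 := fun c => Nat.and_two_pow_sub_one_eq_mod c 4
  have e0 := hj 0 (by norm_num) m
  have e1 := hj 1 (by norm_num) (m >>> 4)
  have e2 := hj 2 (by norm_num) (m >>> 8)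
  have e3 := hj 3 (by norm_num) (m >>> 12)
  have e4 := hj 4 (by norm_num) (m >>> 16)
  have e5 := hj 5 (by norm_num) (m >>> 20)
  simp only [Nat.mul_zero, Nat.zero_add, Nat.reduceMul] at e0 e1 e2 e3 e4 e5
  have key : imgT T m = imgMask (get P) ((m % 16) <<< 0) ||| imgMask (get P) (((m >>> 4) % 16) <<< 4) |||
      (imgMask (get P) (((m >>> 8) % 16) <<< 8) ||| imgMask (get P) (((m >>> 12) % 16) <<< 12)) |||
      (imgMask (get P) (((m >>> 16) % 16) <<< 16) ||| imgMask (get P) (((m >>> 20) % 16) <<< 20)) := by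
    rw [← e0, ← e1, ← e2, ← e3, ← e4, ← e5]
    simp only [imgT, hand]
    rfl
  rw [key]
  simp only [← imgMask_or]
  refine imgMask_congr _ fun i hi => ?_
  simp only [Nat.testBit_or, Nat.testBit_shiftLeft, show (16 : ℕ) = 2 ^ 4 from rfl, Nat.testBit_mod_two_pow,
    Nat.testBit_shiftRight]
  interval_cases i <;> simp

/-- Fast image of a list of masks. -/
noncomputable def imgF (T : ℕ) (L : List ℕ) : List ℕ :=
  srtF (List.rec [] (fun a _ r => imgT T a :: r) L)

theorem fam_imgF {P T : ℕ} (hP : valid P = true) (h : tableFits P T = true) (L : List ℕ) :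
    fam (imgF T L) = permOf P • fam L := by
  have e : ∀ L : List ℕ, (List.rec [] (fun a _ r => imgT T a :: r) L : List ℕ) = L.map (imgMask (get P)) := by
    intro L
    induction L with
    | nil => rfl
    | cons a L ih => rw [List.map_cons, ← ih, ← imgT_eq h]
  rw [← fam_img hP]
  ext s
  simp only [fam, img, imgF, e, List.mem_toFinset, List.mem_map, mem_srt, mem_srtF]

/-- Encode a list of masks. -/
noncomputable def encF (L : List ℕ) : ℕ :=
  List.rec (fun a => a) (fun m _ r a => r (Nat.add (Nat.mul a 16777216) m)) L 0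

/-- Decode a list of masks of length `k`. -/
noncomputable def dec (k n : ℕ) : List ℕ :=
  Nat.rec (fun _ acc => acc) (fun _ r n acc => r (Nat.shiftRight n 24) (Nat.land n 16777215 :: acc)) k n []

/-- Whether a list increases strictly. -/
noncomputable def incr (L : List ℕ) : Bool :=
  List.rec true (fun a L r => List.rec true (fun b _ _ => Nat.blt a b && r) L) L

theorem incr_pairwise : ∀ {L : List ℕ}, incr L = true → L.Pairwise (· < ·)
  | [], _ => List.Pairwise.nil
  | [_], _ => List.pairwise_singleton _ _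
  | a :: b :: L, h => by
    have h' : (Nat.blt a b && incr (b :: L)) = true := h
    rw [Bool.and_eq_true] at h'
    have hab : a < b := by exact lt_of_blt h'.1
    have ih := incr_pairwise h'.2
    refine List.pairwise_cons.mpr ⟨fun c hc => ?_, ih⟩
    rcases List.mem_cons.mp hc with rfl | hc
    · exact hab
    · exact hab.trans (List.rel_of_pairwise_cons ih hc)

/-- All members small. -/
noncomputable def small (L : List ℕ) : Bool := List.rec true (fun a _ r => Nat.blt a 16777216 && r) L

theorem small_spec : ∀ {L : List ℕ}, small L = true → ∀ a ∈ L, a < 2 ^ 24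
  | [], _, a, ha => absurd ha List.not_mem_nil
  | b :: L, h, a, ha => by
    have h' : (Nat.blt b 16777216 && small L) = true := h
    rw [Bool.and_eq_true] at h'
    rcases List.mem_cons.mp ha with rfl | ha
    · exact lt_of_blt h'.1
    · exact small_spec h'.2 a ha

theorem fam_inj {L L' : List ℕ} (hL : incr L = true) (hL' : incr L' = true) (hb : ∀ a ∈ L, a < 2 ^ 24)
    (hb' : ∀ a ∈ L', a < 2 ^ 24) (h : fam L = fam L') : L = L' := by
  have key : ∀ {A B : List ℕ}, (∀ a ∈ A, a < 2 ^ 24) → (∀ a ∈ B, a < 2 ^ 24) → fam A = fam B →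
      ∀ a ∈ A, a ∈ B := by
    intro A B hA hB e a ha
    have : pts a ∈ fam B := e ▸ List.mem_toFinset.mpr (List.mem_map_of_mem ha)
    obtain ⟨b, hb, e'⟩ := List.mem_map.mp (List.mem_toFinset.mp this)
    rwa [← pts_injOn (hB b hb) (hA a ha) e']
  refine List.Perm.eq_of_pairwise (fun a b _ _ h1 h2 => absurd h1 h2.asymm) (incr_pairwise hL) (incr_pairwise hL') ?_
  exact (List.perm_ext_iff_of_nodup ((incr_pairwise hL).imp (fun h => h.ne)) ((incr_pairwise hL').imp (fun h => h.ne))).mpr
    fun a => ⟨key hb hb' h a, key hb' hb h.symm a⟩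

/-- Read an entry of a table. -/
def at' (w T i : ℕ) : ℕ := Nat.mod (Nat.shiftRight T (Nat.mul w i)) (Nat.pow 2 w)

/-- A certified orbit: the members packed in breadth-first order, their rank order, parents, generator
numbers, the tables of the generators, and the index of the image of each member under each generator. -/
structure Orb where
  /-- masks in a member -/
  k : ℕ
  /-- length -/
  n : ℕ
  /-- members -/
  keys : ℕ
  /-- increasing order -/
  ord : ℕ
  /-- parents -/
  par : ℕ
  /-- generators used -/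
  gen : ℕ
  /-- image tables of the generators -/
  tabs : List ℕ
  /-- images -/
  imgs : List ℕ

namespace Orb

variable (O : Orb)

/-- The `i`th member. -/
noncomputable def obj (i : ℕ) : List ℕ := dec O.k (at' (Nat.mul 24 O.k) O.keys i)

/-- All members. -/
noncomputable def objs : List (List ℕ) := (List.range O.n).map O.obj

/-- Binary search in the increasing order; only soundness is ever used. -/
noncomputable def search (x : ℕ) : ℕ :=
  at' 16 O.ord ((Nat.rec (motive := fun _ => ℕ → ℕ → ℕ) (fun lo _ => lo) (fun _ r lo hi =>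
    Bool.rec
      (Bool.rec (r (Nat.div (Nat.add lo hi) 2) hi) (r lo (Nat.div (Nat.add lo hi) 2))
        (Nat.blt x (at' (Nat.mul 24 O.k) O.keys (at' 16 O.ord (Nat.div (Nat.add lo hi) 2)))))
      lo (Nat.ble hi (Nat.add lo 1))) 16) 0 O.n)

/-- Membership test. -/
noncomputable def has (L : List ℕ) : Bool :=
  Nat.blt (O.search (encF L)) O.n && eqL (O.obj (O.search (encF L))) L

theorem mem_of_has {L : List ℕ} (h : O.has L = true) : L ∈ O.objs := by
  simp only [has, Bool.and_eq_true] at h
  exact List.mem_map.mpr ⟨_, List.mem_range.mpr (lt_of_blt (h.1)), eqL_spec h.2⟩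

/-- The tables belong to the generators. -/
noncomputable def tabsOk (gens : List ℕ) : Bool :=
  allLt gens.length fun s => tableFits (gens.getD s 0) (O.tabs.getD s 0)

/-- Connected to the first member. -/
noncomputable def connOk (gens : List ℕ) : Bool :=
  Nat.blt 0 O.n && allLt O.n fun i => Nat.beq i 0 ||
    (Nat.blt (at' 16 O.par i) i && Nat.blt (at' 8 O.gen i) gens.length &&
      eqL (imgF (O.tabs.getD (at' 8 O.gen i) 0) (O.obj (at' 16 O.par i))) (O.obj i))

/-- Closed under the generators. -/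
noncomputable def closedOk (gens : List ℕ) : Bool :=
  allLt gens.length fun s =>
    (fun T J => allLt O.n fun i =>
      Nat.blt (at' 16 J i) O.n && eqL (imgF T (O.obj i)) (O.obj (at' 16 J i)))
      (O.tabs.getD s 0) (O.imgs.getD s 0)

/-- Without repetitions. -/
noncomputable def nodupOk : Bool :=
  (allLt O.n fun i => Nat.blt (at' 16 O.ord i) O.n && incr (O.obj i) && small (O.obj i) &&
      Nat.beq (encF (O.obj i)) (at' (Nat.mul 24 O.k) O.keys i)) &&
    allLt (O.n - 1) fun i =>
      Nat.blt (at' (Nat.mul 24 O.k) O.keys (at' 16 O.ord i)) (at' (Nat.mul 24 O.k) O.keys (at' 16 O.ord (i + 1)))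

/-- All conditions. -/
noncomputable def ok (gens : List ℕ) : Bool :=
  O.tabsOk gens && O.connOk gens && O.closedOk gens && O.nodupOk

end Orb

/-- The group generated by packed permutations. -/
def grp (gens : List ℕ) : Subgroup (Equiv.Perm GolayPt) := Subgroup.closure {g | ∃ P ∈ gens, permOf P = g}

theorem mem_grp {gens : List ℕ} {P : ℕ} (h : P ∈ gens) : permOf P ∈ grp gens :=
  Subgroup.subset_closure ⟨P, h, rfl⟩

/-- Whether all are valid. -/
def validAll (gens : List ℕ) : Bool := gens.all valid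

theorem valid_getD {gens : List ℕ} (hv : validAll gens = true) {s : ℕ} (hs : s < gens.length) :
    valid (gens.getD s 0) = true ∧ gens.getD s 0 ∈ gens := by
  rw [List.getD_eq_getElem _ _ hs]
  exact ⟨List.all_eq_true.mp hv _ (List.getElem_mem hs), List.getElem_mem hs⟩

theorem Orb.nodup_objs {O : Orb} (h : O.nodupOk = true) :
    O.objs.Nodup ∧ ∀ L ∈ O.objs, incr L = true ∧ ∀ a ∈ L, a < 2 ^ 24 := by
  simp only [Orb.nodupOk, Bool.and_eq_true] at h
  obtain ⟨h1, h2⟩ := h
  have hall : ∀ i < O.n, at' 16 O.ord i < O.n ∧ incr (O.obj i) = true ∧ small (O.obj i) = true ∧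
      encF (O.obj i) = at' (Nat.mul 24 O.k) O.keys i := fun i hi => by
    have := allLt_spec h1 i hi
    simp only [Bool.and_eq_true] at this
    exact ⟨lt_of_blt (this.1.1.1), this.1.1.2, this.1.2, Nat.eq_of_beq_eq_true this.2⟩
  set f : ℕ → ℕ := fun i => at' (Nat.mul 24 O.k) O.keys (at' 16 O.ord i) with hf
  have hmono : ∀ j, ∀ i < j, j < O.n → f i < f j := by
    intro j
    induction j with
    | zero => intro i hi; omega
    | succ j ih =>
      intro i hi hj
      have hstep : f j < f (j + 1) := lt_of_blt (allLt_spec h2 j (by omega))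
      rcases Nat.lt_succ_iff_lt_or_eq.mp hi with hi | rfl
      · exact (ih i hi (by omega)).trans hstep
      · exact hstep
  refine ⟨?_, fun L hL => ?_⟩
  · let σ : Fin O.n → Fin O.n := fun i => ⟨at' 16 O.ord i, (hall i i.2).1⟩
    have hinj : ∀ i j : Fin O.n, f i = f j → i = j := by
      intro i j e
      rcases lt_trichotomy i j with hlt | heq | hlt
      · exact absurd e (hmono j i hlt j.2).ne
      · exact heq
      · exact absurd e.symm (hmono i j hlt i.2).ne
    have hσ : Function.Surjective σ := Finite.surjective_of_injective fun i j e => by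
      refine hinj i j ?_
      have e' : at' 16 O.ord i = at' 16 O.ord j := congrArg Fin.val e
      simp only [hf, e']
    refine (List.nodup_map_iff_inj_on List.nodup_range).mpr fun i hi j hj e => ?_
    rw [List.mem_range] at hi hj
    have e1 := congrArg encF e
    rw [(hall i hi).2.2.2, (hall j hj).2.2.2] at e1
    obtain ⟨a, ha⟩ := hσ ⟨i, hi⟩
    obtain ⟨b, hb⟩ := hσ ⟨j, hj⟩
    have ha' : at' 16 O.ord a = i := congrArg Fin.val ha
    have hb' : at' 16 O.ord b = j := congrArg Fin.val hb
    have hab : a = b := hinj a b (by simp only [hf, ha', hb', e1])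
    rw [← ha', ← hb', hab]
  · obtain ⟨i, hi, rfl⟩ := List.mem_map.mp hL
    obtain ⟨-, h3, h4, -⟩ := hall i (List.mem_range.mp hi)
    exact ⟨h3, small_spec h4⟩

/-- The set of families of an orbit certificate. -/
def Orb.famSet (O : Orb) : Set (Finset (Finset GolayPt)) := {X | ∃ L ∈ O.objs, fam L = X}

theorem Orb.ncard_famSet {O : Orb} (h : O.nodupOk = true) : O.famSet.ncard = O.n := by
  classical
  obtain ⟨hnd, hL⟩ := nodup_objs h
  have e : O.famSet = ↑(O.objs.toFinset.image fam) := by
    ext X; simp [famSet]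
  rw [e, Set.ncard_coe_finset, Finset.card_image_of_injOn ?_, List.toFinset_card_of_nodup hnd, objs,
    List.length_map, List.length_range]
  intro L h1 L' h2 e
  simp only [List.coe_toFinset, Set.mem_setOf_eq] at h1 h2
  exact fam_inj (hL L h1).1 (hL L' h2).1 (hL L h1).2 (hL L' h2).2 e

theorem Orb.orbit_eq {O : Orb} {gens : List ℕ} (hv : validAll gens = true) (ht : O.tabsOk gens = true)
    (hc : O.connOk gens = true) (hcl : O.closedOk gens = true) :
    MulAction.orbit (grp gens) (fam (O.obj 0)) = O.famSet := by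
  simp only [Orb.connOk, Bool.and_eq_true] at hc
  have hpos : 0 < O.n := lt_of_blt (hc.1)
  have himg : ∀ s < gens.length, ∀ L, fam (imgF (O.tabs.getD s 0) L) = permOf (gens.getD s 0) • fam L :=
    fun s hs L => fam_imgF (valid_getD hv hs).1 (allLt_spec ht s hs) L
  have h0 : fam (O.obj 0) ∈ O.famSet := ⟨_, List.mem_map.mpr ⟨0, List.mem_range.mpr hpos, rfl⟩, rfl⟩
  have hfin : O.famSet.Finite := Set.toFinite _
  have hstab : grp gens ≤ MulAction.stabilizer (Equiv.Perm GolayPt) O.famSet := by
    rw [grp, Subgroup.closure_le]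
    rintro _ ⟨P, hP, rfl⟩
    obtain ⟨s, hs, rfl⟩ := List.getElem_of_mem hP
    rw [SetLike.mem_coe, MulAction.mem_stabilizer_iff]
    refine Set.eq_of_subset_of_ncard_le ?_ (by rw [Set.ncard_smul_set]) hfin
    rintro _ ⟨_, ⟨L, hL, rfl⟩, rfl⟩
    obtain ⟨i, hi, rfl⟩ := List.mem_map.mp hL
    have h2 := allLt_spec (allLt_spec hcl s hs) i (List.mem_range.mp hi)
    simp only [Bool.and_eq_true] at h2
    refine ⟨_, List.mem_map.mpr ⟨_, List.mem_range.mpr (lt_of_blt (h2.1)), rfl⟩, ?_⟩
    show fam (O.obj (at' 16 (O.imgs.getD s 0) i)) = permOf gens[s] • fam (O.obj i)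
    rw [← eqL_spec h2.2, himg s hs, List.getD_eq_getElem _ _ hs]
  refine Set.Subset.antisymm ?_ ?_
  · rintro _ ⟨⟨g, hg⟩, rfl⟩
    have := Set.smul_mem_smul_set (a := g) h0
    rwa [MulAction.mem_stabilizer_iff.mp (hstab hg)] at this
  · rintro _ ⟨L, hL, rfl⟩
    obtain ⟨i, hi, rfl⟩ := List.mem_map.mp hL
    rw [List.mem_range] at hi
    clear hL
    induction i using Nat.strong_induction_on with
    | _ i ih =>
      have h2 := allLt_spec hc.2 i hi
      simp only [Bool.or_eq_true, Bool.and_eq_true] at h2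
      rcases h2 with h2 | ⟨⟨hp, hg⟩, he⟩
      · rw [Nat.eq_of_beq_eq_true h2]; exact MulAction.mem_orbit_self _
      · have hp' : at' 16 O.par i < i := lt_of_blt (hp)
        have hg' : at' 8 O.gen i < gens.length := lt_of_blt (hg)
        obtain ⟨-, hmem⟩ := valid_getD hv hg'
        obtain ⟨h, hh⟩ := ih _ hp' (hp'.trans hi)
        refine ⟨⟨permOf (gens.getD (at' 8 O.gen i) 0), mem_grp hmem⟩ * h, ?_⟩
        show (⟨_, mem_grp hmem⟩ * h : grp gens) • fam (O.obj 0) = fam (O.obj i)
        rw [mul_smul, show h • fam (O.obj 0) = fam (O.obj (at' 16 O.par i)) from hh, ← eqL_spec he, himg _ hg']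
        rfl

/-- The elements of the code group fixing the given families. -/
def Fx (F : List (List ℕ)) : Subgroup (Equiv.Perm GolayPt) where
  carrier := {g | g ∈ M24 ∧ ∀ L ∈ F, g • fam L = fam L}
  one_mem' := ⟨M24.one_mem, fun _ _ => one_smul _ _⟩
  mul_mem' := by
    rintro g h ⟨g1, g2⟩ ⟨h1, h2⟩
    exact ⟨M24.mul_mem g1 h1, fun L hL => by rw [mul_smul, h2 L hL, g2 L hL]⟩
  inv_mem' := by
    rintro g ⟨g1, g2⟩
    exact ⟨M24.inv_mem g1, fun L hL => inv_smul_eq_iff.mpr (g2 L hL).symm⟩

theorem mem_Fx {F : List (List ℕ)} {g : Equiv.Perm GolayPt} :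
    g ∈ Fx F ↔ g ∈ M24 ∧ ∀ L ∈ F, g • fam L = fam L := Iff.rfl

/-- A stabiliser with known generators and order. -/
def Stage (F : List (List ℕ)) (gens : List ℕ) (n : ℕ) : Prop :=
  validAll gens = true ∧ Fx F = grp gens ∧ Nat.card (grp gens) = n

/-- Generators lie in the stabiliser. -/
def fixOk (F : List (List ℕ)) (gens : List ℕ) : Bool :=
  gens.all fun P => inM24 P && F.all fun L => img P L == L

theorem grp_le_Fx {F : List (List ℕ)} {gens : List ℕ} (h : fixOk F gens = true) :
    validAll gens = true ∧ grp gens ≤ Fx F := by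
  simp only [fixOk, List.all_eq_true, Bool.and_eq_true, beq_iff_eq] at h
  have hv : ∀ P ∈ gens, valid P = true := fun P hP => by
    have := (h P hP).1
    rw [inM24, Bool.and_eq_true] at this
    exact this.1
  refine ⟨List.all_eq_true.mpr hv, (Subgroup.closure_le _).mpr ?_⟩
  rintro _ ⟨P, hP, rfl⟩
  exact mem_Fx.mpr ⟨permOf_mem_M24 (h P hP).1, fun L hL => by rw [← fam_img (hv P hP), (h P hP).2 L hL]⟩

/-- A lower bound for the order of a generated group. -/
def sizeOk (gens : List ℕ) (T : ℕ) (prog : List (ℕ × ℕ)) (ls : List Level) : Bool :=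
  (List.range gens.length).all (fun i => tab 120 T i == gens.getD i 0) && progOk T gens.length prog &&
    lowOk T [] [] ls && idxOk (gens.length + prog.length) ls

theorem le_card_chain (H : Subgroup (Equiv.Perm GolayPt)) {T n : ℕ}
    (hT : ∀ i < n, valid (tab 120 T i) = true ∧ permOf (tab 120 T i) ∈ H) :
    ∀ (ls : List Level) (bs : List ℕ), lowOk T [] bs ls = true → idxOk n ls = true →
      sizeProd ls ≤ Nat.card ↥(H ⊓ fixingSubgroup (Equiv.Perm GolayPt) {p | ∃ b ∈ bs, p = pt b})
  | [], bs, _, _ => by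
    simp only [sizeProd, List.map_nil, List.prod_nil]
    exact Nat.card_pos
  | l :: ls, bs, h, hn => by
    classical
    simp only [lowOk, Bool.and_eq_true] at h
    simp only [idxOk, List.all_cons, Bool.and_eq_true, List.all_eq_true, decide_eq_true_eq] at hn
    have ih := le_card_chain H hT ls (l.1 :: bs) h.2 (by simpa [idxOk] using hn.2)
    have hl := h.1
    simp only [lowLevel, Bool.and_eq_true, decide_eq_true_eq, List.all_eq_true, beq_iff_eq] at hl
    obtain ⟨⟨⟨hb, -⟩, hall⟩, hm⟩ := hl
    set K := H ⊓ fixingSubgroup (Equiv.Perm GolayPt) {p | ∃ b ∈ bs, p = pt b}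
    set K' := H ⊓ fixingSubgroup (Equiv.Perm GolayPt) {p | ∃ b ∈ l.1 :: bs, p = pt b}
    have horb : (pts l.2.1 : Set GolayPt) ⊆ MulAction.orbit K (pt l.1) := by
      intro q hq
      rw [Finset.mem_coe, mem_pts, ← hm, testBit_maskL, List.mem_map] at hq
      obtain ⟨i, hi, he⟩ := hq
      obtain ⟨hv, hmem⟩ := hT i (hn.1 i hi)
      refine ⟨⟨permOf (tab 120 T i), hmem, (mem_fixingSubgroup_iff _).mpr ?_⟩, ?_⟩
      · rintro _ ⟨b, hb', rfl⟩
        exact idx_injective (by rw [Equiv.Perm.smul_def, idx_permOf hv, idx_pt ((hall i hi).2 b hb').1, ((hall i hi).2 b hb').2])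
      · exact idx_injective (by
          show idx (permOf (tab 120 T i) (pt l.1)) = idx q
          rw [idx_permOf hv, idx_pt hb, he])
    have horb' : pop l.2.1 ≤ Nat.card (MulAction.orbit K (pt l.1)) := by
      rw [← card_pts, Nat.card_coe_set_eq, ← Set.ncard_coe_finset]
      exact Set.ncard_le_ncard horb (Set.toFinite _)
    have e : MulAction.stabilizer K (pt l.1) ≃ K' :=
      { toFun := fun g => ⟨g.1.1, g.1.2.1, (mem_fixingSubgroup_iff _).mpr (by
          rintro _ ⟨b, hb', rfl⟩
          rcases List.mem_cons.mp hb' with rfl | hb'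
          · exact g.2
          · exact (mem_fixingSubgroup_iff _).mp g.1.2.2 _ ⟨b, hb', rfl⟩)⟩
        invFun := fun g => ⟨⟨g.1, g.2.1, (mem_fixingSubgroup_iff _).mpr (by
            rintro _ ⟨b, hb', rfl⟩
            exact (mem_fixingSubgroup_iff _).mp g.2.2 _ ⟨b, List.mem_cons_of_mem _ hb', rfl⟩)⟩,
          (mem_fixingSubgroup_iff _).mp g.2.2 _ ⟨l.1, List.mem_cons_self .., rfl⟩⟩
        left_inv := fun g => rfl
        right_inv := fun g => rfl }
    have hK := Nat.card_congr (MulAction.orbitProdStabilizerEquivGroup K (pt l.1))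
    rw [Nat.card_prod, Nat.card_congr e] at hK
    rw [← hK]
    refine le_trans (le_of_eq ?_) (Nat.mul_le_mul horb' ih)
    simp [sizeProd]

theorem sizeOk_le {gens : List ℕ} {T : ℕ} {prog : List (ℕ × ℕ)} {ls : List Level} (hv : validAll gens = true)
    (h : sizeOk gens T prog ls = true) : sizeProd ls ≤ Nat.card (grp gens) := by
  simp only [sizeOk, Bool.and_eq_true, List.all_eq_true, List.mem_range, beq_iff_eq] at h
  obtain ⟨⟨⟨h0, hp⟩, hl⟩, hi⟩ := h
  have hT := progOk_sound (grp gens) T prog gens.length (fun i hi' => by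
    rw [h0 i hi']
    exact ⟨(valid_getD hv hi').1, mem_grp (valid_getD hv hi').2⟩) hp
  refine (le_card_chain (grp gens) hT ls [] hl hi).trans (le_of_eq ?_)
  rw [show {p : GolayPt | ∃ b ∈ ([] : List ℕ), p = pt b} = ∅ by ext; simp]
  have : fixingSubgroup (Equiv.Perm GolayPt) (∅ : Set GolayPt) = ⊤ := by
    ext g; simp [mem_fixingSubgroup_iff]
  rw [this, inf_top_eq]

/-- Passing to the stabiliser of one more family. -/
theorem Stage.next {F : List (List ℕ)} {gens : List ℕ} {n : ℕ} (hS : Stage F gens n) {O : Orb}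
    (hO : O.ok gens = true) {gens' : List ℕ} {T : ℕ} {prog : List (ℕ × ℕ)} {ls : List Level}
    (hf : fixOk (O.obj 0 :: F) gens' = true) (hs : sizeOk gens' T prog ls = true)
    (hn : sizeProd ls * O.n = n) : Stage (O.obj 0 :: F) gens' (sizeProd ls) := by
  obtain ⟨hv, hF, hcard⟩ := hS
  simp only [Orb.ok, Bool.and_eq_true] at hO
  obtain ⟨⟨⟨ht, hc⟩, hcl⟩, hnd⟩ := hO
  obtain ⟨hv', hle⟩ := grp_le_Fx hf
  let e : MulAction.stabilizer (grp gens) (fam (O.obj 0)) ≃ Fx (O.obj 0 :: F) :=
    { toFun := fun g => ⟨g.1.1, by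
        have hg : (g.1.1 : Equiv.Perm GolayPt) ∈ Fx F := hF.ge g.1.2
        obtain ⟨h1, h2⟩ := mem_Fx.mp hg
        refine mem_Fx.mpr ⟨h1, fun L hL => ?_⟩
        rcases List.mem_cons.mp hL with rfl | hL
        · exact g.2
        · exact h2 L hL⟩
      invFun := fun g => ⟨⟨g.1, hF.le (mem_Fx.mpr ⟨(mem_Fx.mp g.2).1,
          fun L hL => (mem_Fx.mp g.2).2 L (List.mem_cons_of_mem _ hL)⟩)⟩,
        (mem_Fx.mp g.2).2 _ (List.mem_cons_self ..)⟩
      left_inv := fun g => rfl
      right_inv := fun g => rfl }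
  have h := Nat.card_congr (MulAction.orbitProdStabilizerEquivGroup (grp gens) (fam (O.obj 0)))
  rw [Nat.card_prod, Nat.card_congr e, Orb.orbit_eq hv ht hc hcl, Nat.card_coe_set_eq, Orb.ncard_famSet hnd, hcard] at h
  have hpos : 0 < O.n := by
    simp only [Orb.connOk, Bool.and_eq_true] at hc
    exact lt_of_blt hc.1
  have hFx : Nat.card (Fx (O.obj 0 :: F)) = sizeProd ls := by
    refine Nat.eq_of_mul_eq_mul_left hpos ?_
    rw [h, mul_comm, hn]
  have he : grp gens' = Fx (O.obj 0 :: F) :=
    Subgroup.eq_of_le_of_card_ge hle (hFx.le.trans (sizeOk_le hv' hs))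
  exact ⟨hv', he.symm, by rw [he, hFx]⟩

/-- The generators of the code group. -/
def gens0 : List ℕ := [tab 120 table 0, tab 120 table 1, tab 120 table 2]

theorem gens0_checks : fixOk [] gens0 = true ∧ sizeProd chainA = 244823040 := by decide +kernel

theorem stage0 : Stage [] gens0 244823040 := by
  obtain ⟨hv, hle⟩ := grp_le_Fx gens0_checks.1
  have h0 : Fx [] = M24 := by ext g; simp [mem_Fx]
  have hT := progOk_sound (grp gens0) table prog 3 (fun i hi => by
    interval_cases i <;> exact ⟨List.all_eq_true.mp hv _ (by simp [gens0]), mem_grp (by simp [gens0])⟩) table_check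
  have hge : M24 ≤ grp gens0 := fun g hg =>
    mem_of_chain tableOk (grp gens0) (fun i hi => (hT i (by simpa [tableLen, add_comm] using hi)).2) chainA [] lowA upA
      idx_ok.1 g (Fix_nil.symm ▸ hg)
  have he : grp gens0 = M24 := le_antisymm (h0 ▸ hle) hge
  exact ⟨hv, h0.trans he.symm, by rw [he, card_M24]⟩

theorem Stage.orbit {F : List (List ℕ)} {gens : List ℕ} {n : ℕ} (hS : Stage F gens n) {O : Orb}
    (hO : O.ok gens = true) :
    MulAction.orbit (Fx F) (fam (O.obj 0)) = O.famSet ∧ O.famSet.ncard = O.n := by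
  simp only [Orb.ok, Bool.and_eq_true] at hO
  exact ⟨by rw [hS.2.1, Orb.orbit_eq hS.1 hO.1.1.1 hO.1.1.2 hO.1.2], Orb.ncard_famSet hO.2⟩

theorem Stage.exists_to {F : List (List ℕ)} {gens : List ℕ} {n : ℕ} (hS : Stage F gens n) {O : Orb}
    (hO : O.ok gens = true) {X : Finset (Finset GolayPt)} (hX : X ∈ O.famSet) :
    ∃ g ∈ Fx F, g • fam (O.obj 0) = X := by
  rw [← (hS.orbit hO).1] at hX
  obtain ⟨g, rfl⟩ := hX
  exact ⟨g, g.2, rfl⟩

theorem Stage.exists_between {F : List (List ℕ)} {gens : List ℕ} {n : ℕ} (hS : Stage F gens n) {O : Orb}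
    (hO : O.ok gens = true) {X Y : Finset (Finset GolayPt)} (hX : X ∈ O.famSet) (hY : Y ∈ O.famSet) :
    ∃ g ∈ Fx F, g • X = Y := by
  obtain ⟨a, ha, rfl⟩ := hS.exists_to hO hX
  obtain ⟨b, hb, rfl⟩ := hS.exists_to hO hY
  exact ⟨b * a⁻¹, mul_mem hb (inv_mem ha), by rw [mul_smul, inv_smul_smul]⟩

end Cfsg.Agent.Spor.Golay.Census
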