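import Cfsg.Agent.Lib.Spor.Golay.AutCheck
import Cfsg.Agent.Lib.Spor.Golay.AutData

/-! The five cases. -/

set_option autoImplicit false
set_option maxRecDepth 100000

namespace Cfsg.Agent.Spor.Golay.Aut

/-- The case of the whole group. -/
def c24 : Case := ⟨g24Sets, g24A, g24C, g24T, 23, 11, g24Pre, g24Rels, g24Ln, g24Lc, g24Adj, g24Pa, g24Pc⟩

/-- The stabiliser of a point. -/
def c23 : Case := ⟨g23Sets, g23A, g23C, g23T, 23, 11, g23Pre, g23Rels, g23Ln, g23Lc, g23Adj, g23Pa, g23Pc⟩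

/-- The stabiliser of two points. -/
def c22 : Case := ⟨g22Sets, g22A, g22C, g22T, 11, 5, g22Pre, g22Rels, g22Ln, g22Lc, g22Adj, g22Pa, g22Pc⟩

/-- The stabiliser of a dodecad. -/
def c12 : Case := ⟨g12Sets, g12A, g12C, g12T, 11, 5, g12Pre, g12Rels, g12Ln, g12Lc, g12Adj, g12Pa, g12Pc⟩

/-- The stabiliser of a dodecad and one of its points. -/
def c11 : Case := ⟨g11Sets, g11A, g11C, g11T, 11, 5, g11Pre, g11Rels, g11Ln, g11Lc, g11Adj, g11Pa, g11Pc⟩

end Cfsg.Agent.Spor.Golay.Aut
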