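import Cfsg.Agent.Lib.Spor.Golay.AutSearch

/-! The decidable conditions under which all automorphisms of a set stabiliser in the code group
are conjugations by given elements. -/

set_option autoImplicit false
set_option maxRecDepth 100000

namespace Cfsg.Agent.Spor.Golay.Aut

open scoped Pointwise

/-- Select one of three letters. -/
def sel (A C T : ℕ) (s : ℕ) : ℕ := if s = 0 then A else if s = 1 then C else T

/-- Apply a word to a position. -/
def evAt (A C T : ℕ) : List ℕ → ℕ → ℕ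
  | [], x => x
  | s :: w, x => get (sel A C T s) (evAt A C T w x)

theorem evAt_spec {A C T : ℕ} (hA : valid A = true) (hC : valid C = true) (hT : valid T = true)
    {i : ℕ} (hi : i < 24) :
    ∀ w : List ℕ, evAt A C T w i = idx (evalW (permOf A) (permOf C) (permOf T) w (pt i))
  | [] => by simp [evAt, evalW, idx_pt hi]
  | s :: w => by
    have hv : valid (sel A C T s) = true := by unfold sel; split_ifs <;> assumption
    rw [evAt, evAt_spec hA hC hT hi w, evalW, Equiv.Perm.mul_apply]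
    have : (if s = 0 then permOf A else if s = 1 then permOf C else permOf T) =
        permOf (sel A C T s) := by unfold sel; split_ifs <;> rfl
    rw [this, idx_permOf hv]

theorem evAt_indep (A C T T' : ℕ) :
    ∀ (w : List ℕ) (x : ℕ), (∀ s ∈ w, s < 2) → evAt A C T w x = evAt A C T' w x
  | [], _, _ => rfl
  | s :: w, x, h => by
    have hs := h s (List.mem_cons_self ..)
    rw [evAt, evAt, evAt_indep A C T T' w x fun y hy => h y (List.mem_cons_of_mem _ hy)]
    congr 1
    unfold sel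
    split_ifs <;> first | rfl | omega

/-- Relations hold, tested position by position. -/
def relsOk (A C T : ℕ) (R : List (List ℕ × List ℕ)) : Bool :=
  R.all fun r => (List.range 24).all fun i => evAt A C T r.1 i == evAt A C T r.2 i

theorem relsOk_iff {A C T : ℕ} (hA : valid A = true) (hC : valid C = true) (hT : valid T = true)
    {R : List (List ℕ × List ℕ)} : relsOk A C T R = true ↔
      ∀ r ∈ R, evalW (permOf A) (permOf C) (permOf T) r.1 =
        evalW (permOf A) (permOf C) (permOf T) r.2 := by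
  simp only [relsOk, List.all_eq_true, List.mem_range, beq_iff_eq]
  refine forall₂_congr fun r _ => ⟨fun h => perm_ext_idx fun i hi => ?_, fun h i hi => ?_⟩
  · rw [← evAt_spec hA hC hT hi, ← evAt_spec hA hC hT hi, h i hi]
  · rw [evAt_spec hA hC hT hi, evAt_spec hA hC hT hi, h]

/-- A few consequences of the relations. -/
def relsFew (A C T : ℕ) (R : List (List ℕ × List ℕ)) : Bool :=
  R.all fun r => (List.range 4).all fun i => evAt A C T r.1 i == evAt A C T r.2 i

/-- A case. -/
structure Case where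
  /-- invariant sets -/
  M : List ℕ
  /-- first generator -/
  A : ℕ
  /-- second generator -/
  C : ℕ
  /-- third generator -/
  T : ℕ
  /-- order of the first -/
  p : ℕ
  /-- order of the second -/
  q : ℕ
  /-- relations of the first two -/
  pre : List (List ℕ × List ℕ)
  /-- relations -/
  rels : List (List ℕ × List ℕ)
  /-- first normalizer -/
  LN : List ℕ
  /-- second normalizer -/
  LC : List ℕ
  /-- adjusting elements -/
  adj : List ℕ
  /-- powers of the first -/
  PA : List ℕ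
  /-- powers of the second -/
  PC : List ℕ

/-- The list consists of the non-trivial powers. -/
def powsOk (A p : ℕ) (Ks : List ℕ) : Bool :=
  (Ks.all fun K => valid K && (List.range p).any fun k => eqPow A k K) &&
    (List.range (p - 1)).all fun k => Ks.any fun K => eqPow A (k + 1) K

theorem powsOk_spec {A p : ℕ} {Ks : List ℕ} (hA : valid A = true) (h : powsOk A p Ks = true) :
    (∀ K ∈ Ks, valid K = true ∧ permOf K ∈ Subgroup.zpowers (permOf A)) ∧
      (p.Prime → orderOf (permOf A) = p → ∀ x ∈ Subgroup.zpowers (permOf A), x ≠ 1 →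
        ∃ K ∈ Ks, valid K = true ∧ permOf K = x) := by
  simp only [powsOk, Bool.and_eq_true, List.all_eq_true, List.any_eq_true, List.mem_range] at h
  refine ⟨fun K hK => ?_, fun hp ho x hx hx1 => ?_⟩
  · obtain ⟨hv, k, -, hk⟩ := h.1 K hK
    exact ⟨hv, by rw [(eqPow_iff hA hv).mp hk]; exact Subgroup.npow_mem_zpowers _ _⟩
  · have hfin : IsOfFinOrder (permOf A) := orderOf_pos_iff.mp (by rw [ho]; exact hp.pos)
    rw [← hfin.mem_powers_iff_mem_zpowers, hfin.mem_powers_iff_mem_range_orderOf, ho] at hx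
    simp only [Finset.mem_image, Finset.mem_range] at hx
    obtain ⟨k, hk, rfl⟩ := hx
    obtain ⟨j, rfl⟩ :=
      Nat.exists_eq_succ_of_ne_zero (n := k) (by rintro rfl; exact hx1 (pow_zero _))
    obtain ⟨K, hK, hKj⟩ := h.2 j (by omega)
    obtain ⟨hv, -⟩ := h.1 K hK
    exact ⟨K, hK, hv, (eqPow_iff hA hv).mp hKj⟩

namespace Case

variable (S : Case)

/-- The generators are fine. -/
def genCheck : Bool :=
  [S.A, S.C, S.T].all (fun P => inM24 P && preserves S.M P) &&
    S.M.all (fun m => decide (m < 2 ^ 24)) &&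
    eqPow S.A S.p idP && !(isTriv S.A) && eqPow S.C S.q idP && !(isTriv S.C) &&
    powsOk S.A S.p S.PA && powsOk S.C S.q S.PC &&
    relsOk S.A S.C S.T (S.pre ++ S.rels) &&
    S.pre.all (fun r => (r.1 ++ r.2).all fun s => decide (s < 2)) &&
    S.PA.any (fun K => eqComp S.C S.A K S.C) && S.PC.any (fun K => eqComp S.T S.C K S.T)

/-- The conjugacy condition in the first normalizer. -/
def nCheck : Bool :=
  S.LN.all (fun h => valid h) && S.LC.all (fun h => valid h) &&
    S.LN.all fun h => !(eqPow h S.q idP) || isTriv h ||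
      (idP :: S.PA).any fun m => (S.PC.any fun K => eqComp m h K m)

/-- All possible triples are conjugates. -/
def mCheck : Bool :=
  S.adj.all (fun s => valid s) &&
    S.PA.all fun Ka => S.PC.all fun Kc => !(relsFew Ka Kc S.T S.pre) || S.LC.all fun X =>
      !(relsFew Ka Kc X S.rels) || S.adj.any fun s =>
        eqComp s S.A Ka s && eqComp s S.C Kc s && eqComp s S.T X s

/-- The stabiliser. -/
def grp : Subgroup (Equiv.Perm GolayPt) := Fix S.M []

theorem gen_facts (h : S.genCheck = true) :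
    (∀ P ∈ [S.A, S.C, S.T], valid P = true ∧ permOf P ∈ S.grp) ∧ (∀ m ∈ S.M, m < 2 ^ 24) := by
  simp only [genCheck, Bool.and_eq_true, List.all_eq_true, decide_eq_true_eq] at h
  obtain ⟨⟨⟨⟨⟨⟨⟨⟨⟨⟨⟨hP, hM⟩, -⟩, -⟩, -⟩, -⟩, -⟩, -⟩, -⟩, -⟩, -⟩, -⟩ := h
  refine ⟨fun P hP' => ?_, hM⟩
  obtain ⟨h1, h2⟩ := hP P hP'
  have hv : valid P = true := by
    rw [inM24, Bool.and_eq_true] at h1
    exact h1.1
  exact ⟨hv, mem_Fix.mpr ⟨permOf_mem_M24 h1, (preserves_iff hv hM).mp h2, by simp⟩⟩

theorem orderOf_permOf {A p : ℕ} (hA : valid A = true) (hp : p.Prime) (h : eqPow A p idP = true)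
    (hne : isTriv A ≠ true) : orderOf (permOf A) = p := by
  have : Fact p.Prime := ⟨hp⟩
  rw [eqPow_iff hA valid_idP, permOf_idP] at h
  exact orderOf_eq_prime h.symm fun e => hne ((isTriv_iff hA).mpr e)

theorem exists_conj_of_checks (hp : S.p.Prime) (hq : S.q.Prime) {n : ℕ} {T : ℕ}
    (hT : TableOk T n) {lsA lsC : List Level}
    (hlowA : lowOk T [] [] lsA = true) (hupA : upOk [] [] lsA = true) (hidxA : idxOk n lsA = true)
    (hlowC : lowOk T [] [] lsC = true) (hupC : upOk [] [] lsC = true) (hidxC : idxOk n lsC = true)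
    {esA esC : List (ℕ × List ℕ)} (hlitA : litsOk T lsA esA = true) (hlitC : litsOk T lsC esC = true)
    (hLN : normCheck esA S.M S.A S.PA S.LN = true) (hLC : normCheck esC S.M S.C S.PC S.LC = true)
    (hg : S.genCheck = true) (hn : S.nCheck = true) (hm : S.mCheck = true)
    (hgen : S.grp ≤ Subgroup.closure {permOf S.A, permOf S.C, permOf S.T})
    (hp2 : ¬ S.p ^ 2 ∣ 244823040) (α : MulAut S.grp) :
    ∃ s ∈ S.adj, ∃ h ∈ S.grp,
      ∀ x : S.grp, (α x : Equiv.Perm GolayPt) = h * permOf s * x * (h * permOf s)⁻¹ := by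
  obtain ⟨hgens, hM⟩ := S.gen_facts hg
  obtain ⟨hvA, hA⟩ := hgens S.A (by simp)
  obtain ⟨hvC, hC⟩ := hgens S.C (by simp)
  obtain ⟨hvT, hTm⟩ := hgens S.T (by simp)
  simp only [genCheck, Bool.and_eq_true, Bool.not_eq_true', List.all_eq_true, decide_eq_true_eq,
    List.any_eq_true] at hg
  obtain ⟨⟨⟨⟨⟨⟨⟨⟨⟨⟨⟨-, -⟩, hAp⟩, hA1⟩, hCq⟩, hC1⟩, hPA⟩, hPC⟩, hrel⟩, hpre2⟩, hca⟩, htc⟩ := hg
  have hoA := orderOf_permOf hvA hp hAp (by rw [hA1]; simp)
  have hoC := orderOf_permOf hvC hq hCq (by rw [hC1]; simp)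
  obtain ⟨hPA', hPAe⟩ := powsOk_spec hvA hPA
  obtain ⟨hPC', hPCe⟩ := powsOk_spec hvC hPC
  have : Fact S.p.Prime := ⟨hp⟩
  have hconjm : ∀ {g a : ℕ} {Ks : List ℕ} {X : Subgroup (Equiv.Perm GolayPt)}, valid g = true →
      valid a = true → (∀ K ∈ Ks, valid K = true ∧ permOf K ∈ X) →
      (∃ K ∈ Ks, eqComp g a K g = true) → permOf g * permOf a * (permOf g)⁻¹ ∈ X := by
    rintro g a Ks X hg ha hKs ⟨K, hK, e⟩
    rw [(eqComp_iff hg ha (hKs K hK).1 hg).mp e, mul_inv_cancel_right]
    exact (hKs K hK).2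
  have hp2' : ¬ S.p ^ 2 ∣ Nat.card S.grp := fun h => hp2 (h.trans (by
    rw [← card_M24]
    exact Subgroup.card_dvd_of_le fun g hg => (mem_Fix.mp hg).1))
  have hrels := (relsOk_iff hvA hvC hvT).mp hrel
  simp only [nCheck, Bool.and_eq_true, List.all_eq_true, Bool.or_eq_true, Bool.not_eq_true',
    List.any_eq_true] at hn
  obtain ⟨⟨hLNv, hLCv⟩, hn⟩ := hn
  have hnorm : ∀ {A : ℕ} {p : ℕ} {Ks : List ℕ} (_ : valid A = true),
      (p.Prime → orderOf (permOf A) = p → ∀ x ∈ Subgroup.zpowers (permOf A), x ≠ 1 →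
        ∃ K ∈ Ks, valid K = true ∧ permOf K = x) → p.Prime → orderOf (permOf A) = p →
      ∀ g : Equiv.Perm GolayPt, g * permOf A * g⁻¹ ∈ Subgroup.zpowers (permOf A) →
        ∃ K ∈ Ks, valid K = true ∧ g * permOf A = permOf K * g := by
    intro A p Ks _ he hpp ho g hga
    obtain ⟨K, hK, hKv, hKe⟩ := he hpp ho _ hga (fun e => by
      rw [mul_inv_eq_one, mul_eq_left] at e
      rw [e, orderOf_one] at ho
      exact hpp.one_lt.ne ho)
    exact ⟨K, hK, hKv, by rw [hKe]; simp⟩
  have hN : ∀ h ∈ S.grp, h * permOf S.A * h⁻¹ ∈ Subgroup.zpowers (permOf S.A) → h ^ S.q = 1 →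
      h ≠ 1 → ∃ m ∈ S.grp, m * permOf S.A * m⁻¹ ∈ Subgroup.zpowers (permOf S.A) ∧
        m * h * m⁻¹ ∈ Subgroup.zpowers (permOf S.C) := by
    intro h hh hha hhq hh1
    obtain ⟨h1, h2, -⟩ := mem_Fix.mp hh
    obtain ⟨Q, hQ, rfl⟩ := mem_of_normCheck hT hlowA hupA hidxA hvA hLNv hlitA hLN h1 h2
      (hnorm hvA hPAe hp hoA h hha)
    have hQv := hLNv Q hQ
    rcases hn Q hQ with (hne | he) | ⟨m, hm', hc⟩
    · rw [(eqPow_iff hQv valid_idP).mpr (by rw [permOf_idP, hhq])] at hne
      simp at hne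
    · exact absurd ((isTriv_iff hQv).mp he) hh1
    · have hm'' : valid m = true ∧ permOf m ∈ Subgroup.zpowers (permOf S.A) := by
        rcases List.mem_cons.mp hm' with rfl | hm'
        · exact ⟨valid_idP, by rw [permOf_idP]; exact one_mem _⟩
        · exact hPA' m hm'
      refine ⟨permOf m, Subgroup.zpowers_le.mpr hA hm''.2, ?_, hconjm hm''.1 hQv hPC' hc⟩
      exact mul_mem (mul_mem hm''.2 (Subgroup.mem_zpowers _)) (inv_mem hm''.2)
  have E := exists_conj S.grp hq hA hC hTm hgen hoA hoC hp2'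
    (hconjm hvC hvA hPA' hca) (hconjm hvT hvC hPC' htc) hN (S.pre ++ S.rels) hrels
    {x | ∃ s ∈ S.adj, permOf s = x}
  obtain ⟨s, hs, h, hh, hall⟩ := E (by
    intro a' c' t' ha' ha1 hc' hc1 ht' htn hr
    obtain ⟨Ka, hKa, hKav, rfl⟩ := hPAe hp hoA a' ha' ha1
    obtain ⟨Kc, hKc, hKcv, rfl⟩ := hPCe hq hoC c' hc' hc1
    obtain ⟨t1, t2, -⟩ := mem_Fix.mp ht'
    obtain ⟨X, hX, rfl⟩ := mem_of_normCheck hT hlowC hupC hidxC hvC hLCv hlitC hLC t1 t2
      (hnorm hvC hPCe hq hoC _ htn)
    have hXv := hLCv X hX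
    simp only [mCheck, Bool.and_eq_true, List.all_eq_true, Bool.or_eq_true, Bool.not_eq_true',
      List.any_eq_true] at hm
    have h0 := (relsOk_iff hKav hKcv hXv).mpr hr
    simp only [relsOk, List.all_eq_true, List.mem_range, beq_iff_eq] at h0
    have h1 : relsFew Ka Kc S.T S.pre = true := by
      simp only [relsFew, List.all_eq_true, List.mem_range, beq_iff_eq]
      intro r hr' i hi4
      have hi : i < 24 := by omega
      have h2 := hpre2 r hr'
      rw [evAt_indep Ka Kc S.T X r.1 i (fun x hx => h2 x (List.mem_append_left _ hx)),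
        evAt_indep Ka Kc S.T X r.2 i (fun x hx => h2 x (List.mem_append_right _ hx))]
      exact h0 r (List.mem_append_left _ hr') i hi
    have h2 : relsFew Ka Kc X S.rels = true := by
      simp only [relsFew, List.all_eq_true, List.mem_range, beq_iff_eq]
      exact fun r hr' i hi4 => h0 r (List.mem_append_right _ hr') i (by omega)
    rcases hm.2 Ka hKa Kc hKc with e | e
    · rw [h1] at e; simp at e
    rcases e X hX with e' | ⟨s, hs, ⟨ea, ec⟩, et⟩
    · rw [h2] at e'; simp at e'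
    have hsv := hm.1 s hs
    refine ⟨permOf s, ⟨s, hs, rfl⟩, ?_, ?_, ?_⟩ <;> rw [mul_inv_eq_iff_eq_mul]
    · exact (eqComp_iff hsv hvA hKav hsv).mp ea
    · exact (eqComp_iff hsv hvC hKcv hsv).mp ec
    · exact (eqComp_iff hsv hvT hXv hsv).mp et) α
  obtain ⟨s₀, hs₀, rfl⟩ := hs
  exact ⟨s₀, hs₀, h, hh, hall⟩

end Case

end Cfsg.Agent.Spor.Golay.Aut
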