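import Cfsg.Agent.Lib.Spor.Golay.AutTable

/-! Automorphisms: case 12. -/

set_option autoImplicit false
set_option maxRecDepth 100000
set_option Elab.async false

namespace Cfsg.Agent.Spor.Golay.Aut

theorem gen12_check : c12.genCheck = true := by decide +kernel

theorem tab12_check : progOk g12Table 3 g12Prog = true := by decide +kernel

theorem tab12_gens : tab 120 g12Table 0 = g12A ∧ tab 120 g12Table 1 = g12C ∧
    tab 120 g12Table 2 = g12T := by decide +kernel

theorem tab12_mem : ∀ i < g12Prog.length + 3, valid (tab 120 g12Table i) = true ∧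
    permOf (tab 120 g12Table i) ∈
      Subgroup.closure {permOf c12.A, permOf c12.C, permOf c12.T} := by
  intro i hi
  refine progOk_sound _ g12Table g12Prog 3 ?_ tab12_check i (by omega)
  obtain ⟨h0, h1, h2⟩ := tab12_gens
  obtain ⟨hg, -⟩ := c12.gen_facts gen12_check
  intro j hj
  interval_cases j
  · rw [h0]; exact ⟨(hg c12.A (by simp)).1, Subgroup.subset_closure (Or.inl rfl)⟩
  · rw [h1]; exact ⟨(hg c12.C (by simp)).1, Subgroup.subset_closure (Or.inr (Or.inl rfl))⟩
  · rw [h2]; exact ⟨(hg c12.T (by simp)).1, Subgroup.subset_closure (Or.inr (Or.inr rfl))⟩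

theorem tab12_ok : TableOk g12Table (g12Prog.length + 3) := fun i hi => by
  refine ⟨(tab12_mem i hi).1, ?_⟩
  have hle : Subgroup.closure {permOf c12.A, permOf c12.C, permOf c12.T} ≤ M24 := by
    obtain ⟨hg, -⟩ := c12.gen_facts gen12_check
    rw [Subgroup.closure_le]
    rintro x (rfl | rfl | rfl)
    · exact (mem_Fix.mp (hg c12.A (by simp)).2).1
    · exact (mem_Fix.mp (hg c12.C (by simp)).2).1
    · exact (mem_Fix.mp (hg c12.T (by simp)).2).1
  exact hle (tab12_mem i hi).2

theorem low12 : lowOk g12Table g12Sets [] g12Chain = true := by decide +kernel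

theorem idx12 : idxOk (g12Prog.length + 3) g12Chain = true := by decide +kernel

theorem up12 : upLevels g12Sets [] g12Chain = true := by decide +kernel

theorem end12 :
    trivSet g24BdLits (g12Sets ++ (baseOf [] g12Chain).map (2 ^ ·)) = true ∧
      (∀ b ∈ baseOf [] g12Chain, b < 24) := by
  decide +kernel

theorem gen12 : c12.grp ≤ Subgroup.closure {permOf c12.A, permOf c12.C, permOf c12.T} := by
  intro g hg
  refine mem_of_levels tab12_ok _ (fun i hi => (tab12_mem i hi).2) g12Chain [] low12
    up12 idx12 (fun k hk => ?_) g hg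
  obtain ⟨k1, k2, k3⟩ := mem_Fix.mp hk
  have : k = 1 := eq_one_of_trivSet tab24_ok lowBd upBd idxBd lits24.2.2.2 end12.1 k1 fun m hm => by
    rcases List.mem_append.mp hm with hm | hm
    · exact k2 m hm
    · obtain ⟨b, hb, rfl⟩ := List.mem_map.mp hm
      rw [pts_two_pow (end12.2 b hb), Finset.smul_finset_singleton, Equiv.Perm.smul_def, k3 b hb]
  rw [this]
  exact one_mem _

theorem ln12_0 : normCheck (part g24B11Lits 0) c12.M c12.A c12.PA c12.LN = true := by decide +kernel

theorem ln12_1 : normCheck (part g24B11Lits 1) c12.M c12.A c12.PA c12.LN = true := by decide +kernel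

theorem ln12_2 : normCheck (part g24B11Lits 2) c12.M c12.A c12.PA c12.LN = true := by decide +kernel

theorem ln12_3 : normCheck (part g24B11Lits 3) c12.M c12.A c12.PA c12.LN = true := by decide +kernel

theorem ln12_4 : normCheck (part g24B11Lits 4) c12.M c12.A c12.PA c12.LN = true := by decide +kernel

theorem ln12_5 : normCheck (part g24B11Lits 5) c12.M c12.A c12.PA c12.LN = true := by decide +kernel

theorem ln12 : normCheck g24B11Lits c12.M c12.A c12.PA c12.LN = true :=
  normCheck_of_parts (by decide +kernel) fun j hj => by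
    interval_cases j
    · exact ln12_0
    · exact ln12_1
    · exact ln12_2
    · exact ln12_3
    · exact ln12_4
    · exact ln12_5


theorem lc12_0 : normCheck (part g24B5Lits 0) c12.M c12.C c12.PC c12.LC = true := by decide +kernel

theorem lc12_1 : normCheck (part g24B5Lits 1) c12.M c12.C c12.PC c12.LC = true := by decide +kernel

theorem lc12_2 : normCheck (part g24B5Lits 2) c12.M c12.C c12.PC c12.LC = true := by decide +kernel

theorem lc12_3 : normCheck (part g24B5Lits 3) c12.M c12.C c12.PC c12.LC = true := by decide +kernel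

theorem lc12_4 : normCheck (part g24B5Lits 4) c12.M c12.C c12.PC c12.LC = true := by decide +kernel

theorem lc12_5 : normCheck (part g24B5Lits 5) c12.M c12.C c12.PC c12.LC = true := by decide +kernel

theorem lc12 : normCheck g24B5Lits c12.M c12.C c12.PC c12.LC = true :=
  normCheck_of_parts (by decide +kernel) fun j hj => by
    interval_cases j
    · exact lc12_0
    · exact lc12_1
    · exact lc12_2
    · exact lc12_3
    · exact lc12_4
    · exact lc12_5


theorem n12_check : c12.nCheck = true := by decide +kernel

theorem m12_check : c12.mCheck = true := by decide +kernel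

/-- All automorphisms are conjugations by elements normalizing the group. -/
theorem aut12 (α : MulAut c12.grp) : ∃ s ∈ c12.adj, ∃ h ∈ c12.grp,
    ∀ x : c12.grp, (α x : Equiv.Perm GolayPt) = h * permOf s * x * (h * permOf s)⁻¹ :=
  c12.exists_conj_of_checks (show Nat.Prime 11 by norm_num) (show Nat.Prime 5 by norm_num)
    tab24_ok chains24.2.1.1 chains24.2.1.2 idxs24.2.1 chains24.2.2.1.1 chains24.2.2.1.2 idxs24.2.2.1 lits24.2.1 lits24.2.2.1 ln12 lc12 gen12_check n12_check m12_check gen12
    (show ¬ 11 ^ 2 ∣ 244823040 by norm_num) α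

end Cfsg.Agent.Spor.Golay.Aut
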