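import Cfsg.Agent.Lib.Spor.Golay.AutTable

/-! Automorphisms: case 22. -/

set_option autoImplicit false
set_option maxRecDepth 100000
set_option Elab.async false

namespace Cfsg.Agent.Spor.Golay.Aut

theorem gen22_check : c22.genCheck = true := by decide +kernel

theorem tab22_check : progOk g22Table 3 g22Prog = true := by decide +kernel

theorem tab22_gens : tab 120 g22Table 0 = g22A ∧ tab 120 g22Table 1 = g22C ∧
    tab 120 g22Table 2 = g22T := by decide +kernel

theorem tab22_mem : ∀ i < g22Prog.length + 3, valid (tab 120 g22Table i) = true ∧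
    permOf (tab 120 g22Table i) ∈
      Subgroup.closure {permOf c22.A, permOf c22.C, permOf c22.T} := by
  intro i hi
  refine progOk_sound _ g22Table g22Prog 3 ?_ tab22_check i (by omega)
  obtain ⟨h0, h1, h2⟩ := tab22_gens
  obtain ⟨hg, -⟩ := c22.gen_facts gen22_check
  intro j hj
  interval_cases j
  · rw [h0]; exact ⟨(hg c22.A (by simp)).1, Subgroup.subset_closure (Or.inl rfl)⟩
  · rw [h1]; exact ⟨(hg c22.C (by simp)).1, Subgroup.subset_closure (Or.inr (Or.inl rfl))⟩
  · rw [h2]; exact ⟨(hg c22.T (by simp)).1, Subgroup.subset_closure (Or.inr (Or.inr rfl))⟩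

theorem tab22_ok : TableOk g22Table (g22Prog.length + 3) := fun i hi => by
  refine ⟨(tab22_mem i hi).1, ?_⟩
  have hle : Subgroup.closure {permOf c22.A, permOf c22.C, permOf c22.T} ≤ M24 := by
    obtain ⟨hg, -⟩ := c22.gen_facts gen22_check
    rw [Subgroup.closure_le]
    rintro x (rfl | rfl | rfl)
    · exact (mem_Fix.mp (hg c22.A (by simp)).2).1
    · exact (mem_Fix.mp (hg c22.C (by simp)).2).1
    · exact (mem_Fix.mp (hg c22.T (by simp)).2).1
  exact hle (tab22_mem i hi).2

theorem low22 : lowOk g22Table g22Sets [] g22Chain = true := by decide +kernel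

theorem idx22 : idxOk (g22Prog.length + 3) g22Chain = true := by decide +kernel

theorem up22 : upOk g22Sets [] g22Chain = true := by decide +kernel

theorem gen22 : c22.grp ≤ Subgroup.closure {permOf c22.A, permOf c22.C, permOf c22.T} :=
  fun g hg => mem_of_chain tab22_ok _ (fun i hi => (tab22_mem i hi).2) g22Chain [] low22
    up22 idx22 g hg

theorem ln22_0 : normCheck (part g24B11Lits 0) c22.M c22.A c22.PA c22.LN = true := by decide +kernel

theorem ln22_1 : normCheck (part g24B11Lits 1) c22.M c22.A c22.PA c22.LN = true := by decide +kernel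

theorem ln22_2 : normCheck (part g24B11Lits 2) c22.M c22.A c22.PA c22.LN = true := by decide +kernel

theorem ln22_3 : normCheck (part g24B11Lits 3) c22.M c22.A c22.PA c22.LN = true := by decide +kernel

theorem ln22_4 : normCheck (part g24B11Lits 4) c22.M c22.A c22.PA c22.LN = true := by decide +kernel

theorem ln22_5 : normCheck (part g24B11Lits 5) c22.M c22.A c22.PA c22.LN = true := by decide +kernel

theorem ln22 : normCheck g24B11Lits c22.M c22.A c22.PA c22.LN = true :=
  normCheck_of_parts (by decide +kernel) fun j hj => by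
    interval_cases j
    · exact ln22_0
    · exact ln22_1
    · exact ln22_2
    · exact ln22_3
    · exact ln22_4
    · exact ln22_5


theorem lc22_0 : normCheck (part g24B5Lits 0) c22.M c22.C c22.PC c22.LC = true := by decide +kernel

theorem lc22_1 : normCheck (part g24B5Lits 1) c22.M c22.C c22.PC c22.LC = true := by decide +kernel

theorem lc22_2 : normCheck (part g24B5Lits 2) c22.M c22.C c22.PC c22.LC = true := by decide +kernel

theorem lc22_3 : normCheck (part g24B5Lits 3) c22.M c22.C c22.PC c22.LC = true := by decide +kernel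

theorem lc22_4 : normCheck (part g24B5Lits 4) c22.M c22.C c22.PC c22.LC = true := by decide +kernel

theorem lc22_5 : normCheck (part g24B5Lits 5) c22.M c22.C c22.PC c22.LC = true := by decide +kernel

theorem lc22 : normCheck g24B5Lits c22.M c22.C c22.PC c22.LC = true :=
  normCheck_of_parts (by decide +kernel) fun j hj => by
    interval_cases j
    · exact lc22_0
    · exact lc22_1
    · exact lc22_2
    · exact lc22_3
    · exact lc22_4
    · exact lc22_5


theorem n22_check : c22.nCheck = true := by decide +kernel

theorem m22_check : c22.mCheck = true := by decide +kernel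

/-- All automorphisms are conjugations by elements normalizing the group. -/
theorem aut22 (α : MulAut c22.grp) : ∃ s ∈ c22.adj, ∃ h ∈ c22.grp,
    ∀ x : c22.grp, (α x : Equiv.Perm GolayPt) = h * permOf s * x * (h * permOf s)⁻¹ :=
  c22.exists_conj_of_checks (show Nat.Prime 11 by norm_num) (show Nat.Prime 5 by norm_num)
    tab24_ok chains24.2.1.1 chains24.2.1.2 idxs24.2.1 chains24.2.2.1.1 chains24.2.2.1.2 idxs24.2.2.1 lits24.2.1 lits24.2.2.1 ln22 lc22 gen22_check n22_check m22_check gen22
    (show ¬ 11 ^ 2 ∣ 244823040 by norm_num) α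

end Cfsg.Agent.Spor.Golay.Aut
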