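import Cfsg.Agent.Lib.Spor.Golay.AutTable

/-! Automorphisms: case 23. -/

set_option autoImplicit false
set_option maxRecDepth 100000
set_option Elab.async false

namespace Cfsg.Agent.Spor.Golay.Aut

theorem gen23_check : c23.genCheck = true := by decide +kernel

theorem tab23_check : progOk g23Table 3 g23Prog = true := by decide +kernel

theorem tab23_gens : tab 120 g23Table 0 = g23A ∧ tab 120 g23Table 1 = g23C ∧
    tab 120 g23Table 2 = g23T := by decide +kernel

theorem tab23_mem : ∀ i < g23Prog.length + 3, valid (tab 120 g23Table i) = true ∧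
    permOf (tab 120 g23Table i) ∈
      Subgroup.closure {permOf c23.A, permOf c23.C, permOf c23.T} := by
  intro i hi
  refine progOk_sound _ g23Table g23Prog 3 ?_ tab23_check i (by omega)
  obtain ⟨h0, h1, h2⟩ := tab23_gens
  obtain ⟨hg, -⟩ := c23.gen_facts gen23_check
  intro j hj
  interval_cases j
  · rw [h0]; exact ⟨(hg c23.A (by simp)).1, Subgroup.subset_closure (Or.inl rfl)⟩
  · rw [h1]; exact ⟨(hg c23.C (by simp)).1, Subgroup.subset_closure (Or.inr (Or.inl rfl))⟩
  · rw [h2]; exact ⟨(hg c23.T (by simp)).1, Subgroup.subset_closure (Or.inr (Or.inr rfl))⟩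

theorem tab23_ok : TableOk g23Table (g23Prog.length + 3) := fun i hi => by
  refine ⟨(tab23_mem i hi).1, ?_⟩
  have hle : Subgroup.closure {permOf c23.A, permOf c23.C, permOf c23.T} ≤ M24 := by
    obtain ⟨hg, -⟩ := c23.gen_facts gen23_check
    rw [Subgroup.closure_le]
    rintro x (rfl | rfl | rfl)
    · exact (mem_Fix.mp (hg c23.A (by simp)).2).1
    · exact (mem_Fix.mp (hg c23.C (by simp)).2).1
    · exact (mem_Fix.mp (hg c23.T (by simp)).2).1
  exact hle (tab23_mem i hi).2

theorem low23 : lowOk g23Table g23Sets [] g23Chain = true := by decide +kernel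

theorem idx23 : idxOk (g23Prog.length + 3) g23Chain = true := by decide +kernel

theorem up23 : upOk g23Sets [] g23Chain = true := by decide +kernel

theorem gen23 : c23.grp ≤ Subgroup.closure {permOf c23.A, permOf c23.C, permOf c23.T} :=
  fun g hg => mem_of_chain tab23_ok _ (fun i hi => (tab23_mem i hi).2) g23Chain [] low23
    up23 idx23 g hg

theorem ln23_0 : normCheck (part g24ChainLits 0) c23.M c23.A c23.PA c23.LN = true := by decide +kernel

theorem ln23_1 : normCheck (part g24ChainLits 1) c23.M c23.A c23.PA c23.LN = true := by decide +kernel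

theorem ln23_2 : normCheck (part g24ChainLits 2) c23.M c23.A c23.PA c23.LN = true := by decide +kernel

theorem ln23_3 : normCheck (part g24ChainLits 3) c23.M c23.A c23.PA c23.LN = true := by decide +kernel

theorem ln23_4 : normCheck (part g24ChainLits 4) c23.M c23.A c23.PA c23.LN = true := by decide +kernel

theorem ln23_5 : normCheck (part g24ChainLits 5) c23.M c23.A c23.PA c23.LN = true := by decide +kernel

theorem ln23 : normCheck g24ChainLits c23.M c23.A c23.PA c23.LN = true :=
  normCheck_of_parts (by decide +kernel) fun j hj => by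
    interval_cases j
    · exact ln23_0
    · exact ln23_1
    · exact ln23_2
    · exact ln23_3
    · exact ln23_4
    · exact ln23_5


theorem lc23_0 : normCheck (part g24B11Lits 0) c23.M c23.C c23.PC c23.LC = true := by decide +kernel

theorem lc23_1 : normCheck (part g24B11Lits 1) c23.M c23.C c23.PC c23.LC = true := by decide +kernel

theorem lc23_2 : normCheck (part g24B11Lits 2) c23.M c23.C c23.PC c23.LC = true := by decide +kernel

theorem lc23_3 : normCheck (part g24B11Lits 3) c23.M c23.C c23.PC c23.LC = true := by decide +kernel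

theorem lc23_4 : normCheck (part g24B11Lits 4) c23.M c23.C c23.PC c23.LC = true := by decide +kernel

theorem lc23_5 : normCheck (part g24B11Lits 5) c23.M c23.C c23.PC c23.LC = true := by decide +kernel

theorem lc23 : normCheck g24B11Lits c23.M c23.C c23.PC c23.LC = true :=
  normCheck_of_parts (by decide +kernel) fun j hj => by
    interval_cases j
    · exact lc23_0
    · exact lc23_1
    · exact lc23_2
    · exact lc23_3
    · exact lc23_4
    · exact lc23_5


theorem n23_check : c23.nCheck = true := by decide +kernel

theorem m23_check : c23.mCheck = true := by decide +kernel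

/-- All automorphisms are conjugations by elements normalizing the group. -/
theorem aut23 (α : MulAut c23.grp) : ∃ s ∈ c23.adj, ∃ h ∈ c23.grp,
    ∀ x : c23.grp, (α x : Equiv.Perm GolayPt) = h * permOf s * x * (h * permOf s)⁻¹ :=
  c23.exists_conj_of_checks (show Nat.Prime 23 by norm_num) (show Nat.Prime 11 by norm_num)
    tab24_ok chains24.1.1 chains24.1.2 idxs24.1 chains24.2.1.1 chains24.2.1.2 idxs24.2.1 lits24.1 lits24.2.1 ln23 lc23 gen23_check n23_check m23_check gen23
    (show ¬ 23 ^ 2 ∣ 244823040 by norm_num) α

end Cfsg.Agent.Spor.Golay.Aut
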