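import Mathlib

/-! A simplicity criterion for doubly transitive groups generated by elements of a prime order. -/

set_option autoImplicit false

namespace Cfsg.Agent.Spor.Golay.SimpleCrit

open scoped Pointwise

/-- An element of prime order `p` on `p + 1` letters fixes one letter and is transitive on the rest. -/
theorem prime_on_succ {Ω G : Type*} [Finite Ω] [Group G] [MulAction G Ω] [FaithfulSMul G Ω] {p : ℕ}
    [hp : Fact p.Prime] (hd : Nat.card Ω = p + 1) {g : G} (hg : orderOf g = p) :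
    ∃ a : Ω, g • a = a ∧ ∀ b : Ω, b ≠ a → ∀ s : Set Ω, (∀ x ∈ s, g • x ∈ s) → a ∈ s → b ∈ s → s = Set.univ := by
  classical
  haveI := Fintype.ofFinite Ω
  have hpG : IsPGroup p ↥(Subgroup.zpowers g) := IsPGroup.of_card (n := 1) (by rw [Nat.card_zpowers, hg, pow_one])
  have horb : ∀ b : Ω, Nat.card (MulAction.orbit ↥(Subgroup.zpowers g) b) = 1 ∨
      Nat.card (MulAction.orbit ↥(Subgroup.zpowers g) b) = p := by
    intro b
    have h : Nat.card (MulAction.orbit ↥(Subgroup.zpowers g) b) ∣ p := by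
      rw [← hg, ← Nat.card_zpowers, Nat.card_congr (MulAction.orbitEquivQuotientStabilizer ↥(Subgroup.zpowers g) b)]
      exact Subgroup.card_quotient_dvd_card _
    exact (Nat.dvd_prime hp.out).mp h
  obtain ⟨a, ha⟩ : ∃ a : Ω, g • a = a := by
    by_contra h
    have h0 : Nat.card (MulAction.fixedPoints ↥(Subgroup.zpowers g) Ω) = 0 := by
      rw [Nat.card_eq_zero]
      refine Or.inl ⟨fun a => h ⟨a.1, a.2 ⟨g, Subgroup.mem_zpowers g⟩⟩⟩
    have h1 := hpG.card_modEq_card_fixedPoints Ω
    rw [hd, h0, Nat.modEq_zero_iff_dvd, Nat.dvd_add_right (dvd_refl p)] at h1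
    exact hp.out.ne_one (Nat.dvd_one.mp h1)
  refine ⟨a, ha, fun b hb s hs has hbs => ?_⟩
  have hsmem : ∀ x ∈ s, ∀ k : ↥(Subgroup.zpowers g), k • x ∈ s := by
    intro x hx k
    obtain ⟨n, hn⟩ := ((isOfFinOrder_iff_pow_eq_one.mpr ⟨p, hp.out.pos, hg ▸ pow_orderOf_eq_one g⟩).mem_powers_iff_mem_zpowers).mpr k.2
    have : ∀ n : ℕ, g ^ n • x ∈ s := fun n => by
      induction n with
      | zero => simpa using hx
      | succ n ih => rw [pow_succ', mul_smul]; exact hs _ ih
    show (k : G) • x ∈ s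
    rw [← hn]
    exact this n
  have key : ∀ c : Ω, c ≠ a → Nat.card (MulAction.orbit ↥(Subgroup.zpowers g) c) = p ∧
      MulAction.orbit ↥(Subgroup.zpowers g) c = {a}ᶜ := by
    have hmov : ∃ c : Ω, g • c ≠ c := by
      by_contra h
      simp only [not_exists, not_not] at h
      have : g = 1 := FaithfulSMul.eq_of_smul_eq_smul fun x : Ω => by rw [h x, one_smul]
      rw [this, orderOf_one] at hg
      exact hp.out.ne_one hg.symm
    obtain ⟨c, hc⟩ := hmov
    have hca : c ≠ a := fun e => hc (e ▸ ha)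
    have hsub : ∀ c : Ω, c ≠ a → MulAction.orbit ↥(Subgroup.zpowers g) c ⊆ ({a}ᶜ : Set Ω) := by
      rintro c hca _ ⟨k, rfl⟩ e
      have e' : k • c = a := e
      refine hca (smul_left_cancel k (e'.trans ?_))
      have : ∀ z : ↥(Subgroup.zpowers g), z • a = a := fun z => by
        have hz : (z : G) ∈ MulAction.stabilizer G a := (Subgroup.zpowers_le.mpr ha) z.2
        exact hz
      exact (this k).symm
    have hcard : ({a}ᶜ : Set Ω).ncard = p := by
      rw [Set.ncard_compl, Set.ncard_singleton, hd]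
      omega
    have hfull : MulAction.orbit ↥(Subgroup.zpowers g) c = ({a}ᶜ : Set Ω) := by
      refine Set.eq_of_subset_of_ncard_le (hsub c hca) ?_ (Set.toFinite _)
      rw [hcard, ← Nat.card_coe_set_eq]
      rcases horb c with h | h
      · exfalso
        rw [Nat.card_coe_set_eq, Set.ncard_eq_one] at h
        obtain ⟨z, hz⟩ := h
        have h1 : c ∈ ({z} : Set Ω) := hz ▸ MulAction.mem_orbit_self c
        have h2 : g • c ∈ ({z} : Set Ω) := hz ▸ ⟨⟨g, Subgroup.mem_zpowers g⟩, rfl⟩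
        exact hc (h2.trans h1.symm)
      · exact h.ge
    intro d hd'
    have hmem : d ∈ MulAction.orbit ↥(Subgroup.zpowers g) c := hfull ▸ hd'
    rw [MulAction.orbit_eq_iff.mpr hmem, hfull, Nat.card_coe_set_eq, hcard]
    exact ⟨rfl, rfl⟩
  refine Set.eq_univ_of_forall fun x => ?_
  by_cases hx : x = a
  · exact hx ▸ has
  · obtain ⟨k, rfl⟩ : x ∈ MulAction.orbit ↥(Subgroup.zpowers g) b := (key b hb).2 ▸ hx
    exact hsmem b hbs k

/-- The criterion. -/
theorem isSimpleGroup_of {Ω G : Type*} [Finite Ω] [Group G] [Finite G] [MulAction G Ω] [FaithfulSMul G Ω]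
    (h2 : ∀ a b x y : Ω, a ≠ b → x ≠ y → ∃ g : G, g • a = x ∧ g • b = y) {d p : ℕ} [hp : Fact p.Prime]
    (hd : Nat.card Ω = d) (hpd : p ∣ Nat.card G) (hp2 : ¬ p ^ 2 ∣ Nat.card G) (S : Set G)
    (hS : ∀ x ∈ S, orderOf x = p) (hgen : Subgroup.closure S = ⊤)
    (hcase : p ∣ d ∨ (d = p + 1 ∧ ∃ q : ℕ, q.Prime ∧ q ∣ d ∧ ∀ k, d ≠ q ^ k)) : IsSimpleGroup G := by
  classical
  haveI : Nontrivial G := Finite.one_lt_card_iff_nontrivial.mp
    (lt_of_lt_of_le hp.out.one_lt (Nat.le_of_dvd Nat.card_pos hpd))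
  refine ⟨fun N hN => or_iff_not_imp_left.mpr fun hne => ?_⟩
  haveI := hN
  obtain ⟨n, hn, hn1⟩ := (Subgroup.bot_or_exists_ne_one N).resolve_left hne
  obtain ⟨a0, ha0⟩ : ∃ a : Ω, n • a ≠ a := by
    by_contra h
    simp only [not_exists, not_not] at h
    exact hn1 (FaithfulSMul.eq_of_smul_eq_smul fun x : Ω => by rw [h x, one_smul])
  have htrans : ∀ x y : Ω, ∃ m : ↥N, m • x = y := by
    intro x y
    by_cases hxy : x = y
    · exact ⟨1, by rw [one_smul, hxy]⟩
    · obtain ⟨g, e1, e2⟩ := h2 a0 (n • a0) x y (Ne.symm ha0) hxy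
      refine ⟨⟨g * n * g⁻¹, hN.conj_mem n hn g⟩, ?_⟩
      show (g * n * g⁻¹) • x = y
      rw [← e1, mul_smul, inv_smul_smul, mul_smul, e2]
  have hstab : ∀ a : Ω, d * Nat.card (MulAction.stabilizer ↥N a) = Nat.card N := by
    intro a
    have h := Nat.card_congr (MulAction.orbitProdStabilizerEquivGroup ↥N a)
    rw [Nat.card_prod, Nat.card_coe_set_eq] at h
    have horb : MulAction.orbit ↥N a = Set.univ := Set.eq_univ_of_forall fun y => htrans a y
    rwa [horb, Set.ncard_univ, hd] at h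
  by_cases hpN : p ∣ Nat.card N
  · refine eq_top_iff.mpr (hgen.ge.trans ((Subgroup.closure_le _).mpr fun x hx => ?_))
    obtain ⟨y, hy⟩ := exists_prime_orderOf_dvd_card' (G := ↥N) p hpN
    have hv : (Nat.card G).factorization p = 1 := by
      have h1 : 1 ≤ (Nat.card G).factorization p :=
        (hp.out.pow_dvd_iff_le_factorization Nat.card_pos.ne').mp (by simpa using hpd)
      have h2' : ¬ 2 ≤ (Nat.card G).factorization p := fun h =>
        hp2 ((hp.out.pow_dvd_iff_le_factorization Nat.card_pos.ne').mpr h)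
      omega
    have hsyl : ∀ z : G, orderOf z = p → ∃ P : Sylow p G, (P : Subgroup G) = Subgroup.zpowers z := fun z hz =>
      ⟨Sylow.ofCard (Subgroup.zpowers z) (by rw [Nat.card_zpowers, hz, hv, pow_one]), Sylow.coe_ofCard _ _⟩
    obtain ⟨P, hP⟩ := hsyl x (hS x hx)
    obtain ⟨Q, hQ⟩ := hsyl (y : G) (by rw [Subgroup.orderOf_coe, hy])
    obtain ⟨g, hg⟩ := MulAction.exists_smul_eq G Q P
    have hx' : x ∈ MulAut.conj g • (Q : Subgroup G) := by
      rw [← Sylow.coe_subgroup_smul, hg, hP]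
      exact Subgroup.mem_zpowers x
    obtain ⟨z, hz, rfl⟩ := hx'
    have hzN : z ∈ N := by
      rw [hQ] at hz
      exact (Subgroup.zpowers_le.mpr y.2) hz
    exact hN.conj_mem z hzN g
  · exfalso
    obtain hdvd | ⟨hdp, q, hq, hqd, hpow⟩ := hcase
    · obtain ⟨a⟩ : Nonempty Ω := ⟨a0⟩
      exact hpN (hdvd.trans ⟨_, (hstab a).symm⟩)
    haveI : Fact q.Prime := ⟨hq⟩
    obtain ⟨Q⟩ : Nonempty (Sylow q ↥N) := inferInstance
    have hsup := Sylow.normalizer_sup_eq_top Q
    set M := Subgroup.normalizer ((((Q : Subgroup ↥N).map N.subtype) : Subgroup G) : Set G) with hM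
    have hpM : p ∣ Nat.card M := by
      have hset : (↑(M ⊔ N) : Set G) = (M : Set G) * (N : Set G) := Subgroup.mul_normal M N
      have h1 : Nat.card G ∣ Nat.card M * Nat.card N := by
        have h3 := Subgroup.relIndex_sup_right M N
        rw [hsup, Subgroup.relIndex_top_right] at h3
        have h4 : N.index ∣ Nat.card M := h3 ▸ Subgroup.relIndex_dvd_card N M
        calc Nat.card G = N.index * Nat.card N := (Subgroup.index_mul_card N).symm
          _ ∣ Nat.card M * Nat.card N := Nat.mul_dvd_mul_right h4 _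
      exact ((Nat.Prime.dvd_mul hp.out).mp (hpd.trans h1)).resolve_right hpN
    obtain ⟨g, hg⟩ := exists_prime_orderOf_dvd_card' (G := ↥M) p hpM
    obtain ⟨a, ha, hinv⟩ := prime_on_succ (Ω := Ω) (g := (g : G)) (hd.trans hdp) (by rw [Subgroup.orderOf_coe, hg])
    have hcon : MulAction.orbit ↥((Q : Subgroup ↥N).map N.subtype) a = {a} ∨
        MulAction.orbit ↥((Q : Subgroup ↥N).map N.subtype) a = Set.univ := by
      by_cases h : MulAction.orbit ↥((Q : Subgroup ↥N).map N.subtype) a = {a}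
      · exact Or.inl h
      · obtain ⟨b, hb, hba⟩ : ∃ b ∈ MulAction.orbit ↥((Q : Subgroup ↥N).map N.subtype) a, b ≠ a := by
          by_contra hh
          simp only [not_exists, not_and, not_not] at hh
          exact h (Set.eq_singleton_iff_unique_mem.mpr ⟨MulAction.mem_orbit_self a, hh⟩)
        refine Or.inr (hinv b hba _ ?_ (MulAction.mem_orbit_self a) hb)
        rintro _ ⟨k, rfl⟩
        refine ⟨⟨(g : G) * k * (g : G)⁻¹, (Subgroup.mem_normalizer_iff.mp g.2 k).mp k.2⟩, ?_⟩
        show ((g : G) * k * (g : G)⁻¹) • a = (g : G) • (k : G) • a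
        rw [mul_smul, mul_smul, inv_smul_eq_iff.mpr ha.symm]
    have hQcard : Nat.card ↥((Q : Subgroup ↥N).map N.subtype) = q ^ (Nat.card N).factorization q := by
      rw [← Nat.card_congr (Subgroup.equivMapOfInjective _ N.subtype N.subtype_injective).toEquiv,
        Q.card_eq_multiplicity]
    rcases hcon with h | h
    · have hle : (Q : Subgroup ↥N) ≤ MulAction.stabilizer ↥N a := fun x hx => by
        have hmem : (⟨(x : G), ⟨x, hx, rfl⟩⟩ : ↥((Q : Subgroup ↥N).map N.subtype)) • a ∈ ({a} : Set Ω) :=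
          h ▸ MulAction.mem_orbit _ _
        exact hmem
      have h1 : q ^ (Nat.card N).factorization q ∣ Nat.card (MulAction.stabilizer ↥N a) := by
        rw [← Q.card_eq_multiplicity]
        exact Subgroup.card_dvd_of_le hle
      have h3 : q ^ ((Nat.card N).factorization q + 1) ∣ Nat.card N := by
        have h4 := Nat.mul_dvd_mul h1 hqd
        rwa [mul_comm (Nat.card (MulAction.stabilizer ↥N a)) d, hstab a, ← pow_succ] at h4
      have := (hq.pow_dvd_iff_le_factorization Nat.card_pos.ne').mp h3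
      omega
    · have h1 : Nat.card (MulAction.orbit ↥((Q : Subgroup ↥N).map N.subtype) a) ∣ q ^ (Nat.card N).factorization q := by
        rw [← hQcard, Nat.card_congr (MulAction.orbitEquivQuotientStabilizer ↥((Q : Subgroup ↥N).map N.subtype) a)]
        exact Subgroup.card_quotient_dvd_card _
      rw [h, Nat.card_coe_set_eq, Set.ncard_univ, hd] at h1
      obtain ⟨k, -, hk⟩ := (Nat.dvd_prime_pow hq).mp h1
      exact hpow k hk

end Cfsg.Agent.Spor.Golay.SimpleCrit
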