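import Cfsg.Agent.Lib.Spor.Golay.CensusTools

/-! From orbit certificates to statements about an arbitrary configuration. -/

set_option autoImplicit false
set_option maxRecDepth 100000

namespace Cfsg.Agent.Spor.Golay.Census

open scoped Pointwise

/-- Whether every member of a universe lies in one of the listed orbits. -/
noncomputable def coverOk (U : Orb) (Os : List Orb) : Bool :=
  allLt U.n fun i => List.rec false (fun O _ r => O.has (U.obj i) || r) Os

theorem coverOk_spec {U : Orb} {Os : List Orb} (h : coverOk U Os = true) {X : Finset (Finset GolayPt)}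
    (hX : X ∈ U.famSet) : ∃ O ∈ Os, X ∈ O.famSet := by
  obtain ⟨L, hL, rfl⟩ := hX
  obtain ⟨i, hi, rfl⟩ := List.mem_map.mp hL
  have h1 := allLt_spec h i (List.mem_range.mp hi)
  clear h hL hi
  induction Os with
  | nil => exact absurd (h1 : false = true) Bool.false_ne_true
  | cons O Os ih =>
    have h2 : (O.has (U.obj i) || List.rec false (fun O _ r => O.has (U.obj i) || r) Os) = true := h1
    rw [Bool.or_eq_true] at h2
    rcases h2 with h2 | h2
    · exact ⟨O, List.mem_cons_self .., Orb.mem_famSet_of_has h2⟩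
    · obtain ⟨O', hO', h'⟩ := ih h2
      exact ⟨O', List.mem_cons_of_mem _ hO', h'⟩

theorem coverOk_set {U : Orb} {Os : List Orb} (h : coverOk U Os = true) {s : Finset GolayPt}
    (hs : s ∈ U.setSet) : ∃ O ∈ Os, s ∈ O.setSet :=
  coverOk_spec h hs

section General

variable {α β : Type*} [MulAction (Equiv.Perm GolayPt) α] [MulAction (Equiv.Perm GolayPt) β]

/-- The orbits of a conjugate stabiliser on an invariant set. -/
theorem census {y : α} {F : List (List ℕ)}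
    (hK : ∀ g : M24, g ∈ MulAction.stabilizer M24 y ↔ (g : Equiv.Perm GolayPt) ∈ Fx F) (U : Set β)
    (hU : ∀ g ∈ M24, ∀ z ∈ U, g • z ∈ U) {r : ℕ} (x : Fin r → β) (len : Fin r → ℕ) (S : Fin r → Set β)
    (hx : ∀ i, x i ∈ U) (hS : ∀ i, MulAction.orbit (Fx F) (x i) = S i ∧ (S i).ncard = len i)
    (hcov : ∀ z ∈ U, ∃ i, z ∈ S i) (a : M24) :
    (∀ i, a • x i ∈ U ∧ (MulAction.orbit (MulAction.stabilizer M24 (a • y)) (a • x i)).ncard = len i) ∧
      U = ⋃ i, MulAction.orbit (MulAction.stabilizer M24 (a • y)) (a • x i) := by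
  refine ⟨fun i => ⟨hU _ a.2 _ (hx i), ?_⟩, ?_⟩
  · rw [ncard_orbit_smul, orbit_sub hK, (hS i).1, (hS i).2]
  · refine Set.Subset.antisymm (fun z hz => ?_) (Set.iUnion_subset fun i => ?_)
    · obtain ⟨i, hi⟩ := hcov (a⁻¹ • z) (hU _ (inv_mem a.2) _ hz)
      refine Set.mem_iUnion.mpr ⟨i, ?_⟩
      rw [orbit_stabilizer_smul, orbit_sub hK, (hS i).1, Set.mem_smul_set_iff_inv_smul_mem]
      exact hi
    · rintro _ ⟨g, rfl⟩
      exact hU _ g.1.2 _ (hU _ a.2 _ (hx i))

/-- Transitivity of a stabiliser on a part, transported. -/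
theorem exists_move {y : α} {F : List (List ℕ)}
    (hK : ∀ g : M24, g ∈ MulAction.stabilizer M24 y ↔ (g : Equiv.Perm GolayPt) ∈ Fx F) {x : β} {S : Set β}
    (hS : MulAction.orbit (Fx F) x = S) {a : Equiv.Perm GolayPt} (ha : a ∈ M24) {z w : β}
    (hz : a⁻¹ • z ∈ S) (hw : a⁻¹ • w ∈ S) : ∃ g ∈ M24, g • (a • y) = a • y ∧ g • z = w := by
  rw [← hS] at hz hw
  obtain ⟨⟨p, hp⟩, hp'⟩ := hz
  obtain ⟨⟨q, hq⟩, hq'⟩ := hw
  have hp1 : p • x = a⁻¹ • z := hp'
  have hq1 : q • x = a⁻¹ • w := hq'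
  have hy : ∀ k ∈ Fx F, k • y = y := fun k hk => (hK ⟨k, (mem_Fx.mp hk).1⟩).mpr hk
  refine ⟨a * q * p⁻¹ * a⁻¹,
    mul_mem (mul_mem (mul_mem ha (mem_Fx.mp hq).1) (inv_mem (mem_Fx.mp hp).1)) (inv_mem ha), ?_, ?_⟩
  · rw [mul_smul, mul_smul, mul_smul, inv_smul_smul, hy _ (inv_mem hp), hy _ hq]
  · rw [mul_smul, mul_smul, mul_smul, ← hp1, inv_smul_smul, hq1, smul_inv_smul]

/-- Maximality of a stabiliser from its orbits. -/
theorem maximal {y : α} {F : List (List ℕ)}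
    (hK : ∀ g : M24, g ∈ MulAction.stabilizer M24 y ↔ (g : Equiv.Perm GolayPt) ∈ Fx F) {U : Set α}
    (hU : MulAction.orbit (Fx []) y = U) {r : ℕ} (x : Fin r → α) (len : Fin r → ℕ) (S : Fin r → Set α) (N : ℕ)
    (hN : U.ncard = N) (h2 : 2 ≤ N) (hS : ∀ i, MulAction.orbit (Fx F) (x i) = S i ∧ (S i).ncard = len i)
    (hcov : ∀ z ∈ U, z = y ∨ ∃ i, z ∈ S i) (hsum : 1 + ∑ i, len i = N)
    (hdiv : ∀ s : Finset (Fin r), (1 + ∑ i ∈ s, len i) ∣ N → s = ∅ ∨ s = Finset.univ) (a : M24) :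
    IsCoatom (MulAction.stabilizer M24 (a • y)) := by
  have hy : MulAction.orbit M24 y = U := by rw [← orbit_M24, hU]
  have h := isCoatom_of_orbits (G := M24) y x len N (by rw [hy, hN]) h2
    (fun i => by rw [orbit_sub hK, (hS i).1, (hS i).2])
    (fun z hz => by
      rcases hcov z (hy ▸ hz) with h | ⟨i, hi⟩
      · exact Or.inl h
      · exact Or.inr ⟨i, by rw [orbit_sub hK, (hS i).1]; exact hi⟩)
    hsum hdiv
  rw [MulAction.stabilizer_smul_eq_stabilizer_map_conj]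
  exact ((MulAut.conj a).mapSubgroup.isCoatom_iff _).mpr h

end General

theorem Stage.smul_famSet {F : List (List ℕ)} {gens : List ℕ} {n : ℕ} (hS : Stage F gens n) {U : Orb}
    (hU : U.ok gens = true) {g : Equiv.Perm GolayPt} (hg : g ∈ Fx F) {X : Finset (Finset GolayPt)}
    (hX : X ∈ U.famSet) : g • X ∈ U.famSet := by
  rw [← (hS.orbit hU).1] at hX ⊢
  obtain ⟨k, rfl⟩ := hX
  exact ⟨⟨g, hg⟩ * k, mul_smul g k.1 _⟩

theorem Stage.smul_setSet {F : List (List ℕ)} {gens : List ℕ} {n : ℕ} (hS : Stage F gens n) {U : Orb}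
    (hU : U.ok gens = true) {g : Equiv.Perm GolayPt} (hg : g ∈ Fx F) {s : Finset GolayPt} (hs : s ∈ U.setSet) :
    g • s ∈ U.setSet := by
  have := hS.smul_famSet hU hg hs
  rw [Finset.smul_finset_singleton] at this
  exact this

/-- Single masks. -/
noncomputable def oneOk (U : Orb) (O : Orb) : Bool :=
  eqL (O.obj 0) [(O.obj 0).headD 0] && U.has (O.obj 0)

theorem oneOk_spec {U O : Orb} (h : oneOk U O = true) :
    O.obj 0 = [(O.obj 0).headD 0] ∧ pts ((O.obj 0).headD 0) ∈ U.setSet := by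
  simp only [oneOk, Bool.and_eq_true] at h
  refine ⟨eqL_spec h.1, Orb.mem_setSet_of_has ?_⟩
  rw [← eqL_spec h.1]
  exact h.2

/-- The census of families. -/
theorem census_fam {α : Type*} [MulAction (Equiv.Perm GolayPt) α] {y : α} {F : List (List ℕ)} {gens : List ℕ}
    {n : ℕ} (hS : Stage F gens n)
    (hK : ∀ g : M24, g ∈ MulAction.stabilizer M24 y ↔ (g : Equiv.Perm GolayPt) ∈ Fx F) {U : Orb}
    (hU : U.ok gens0 = true) {r : ℕ} (Os : Fin r → Orb) (hok : ∀ i, (Os i).ok gens = true)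
    (hhas : ∀ i, U.has ((Os i).obj 0) = true) {l : List Orb} (hl : l = List.ofFn Os) (hcov : coverOk U l = true)
    (a : M24) :
    (∀ i, a • fam ((Os i).obj 0) ∈ U.famSet ∧
      (MulAction.orbit (MulAction.stabilizer M24 (a • y)) (a • fam ((Os i).obj 0))).ncard = (Os i).n) ∧
      U.famSet = ⋃ i, MulAction.orbit (MulAction.stabilizer M24 (a • y)) (a • fam ((Os i).obj 0)) := by
  refine census hK U.famSet (fun g hg z hz => stage0.smul_famSet hU (mem_Fx_nil.mpr hg) hz) _ _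
    (fun i => (Os i).famSet) (fun i => Orb.mem_famSet_of_has (hhas i)) (fun i => hS.orbit (hok i)) (fun z hz => ?_) a
  obtain ⟨O, hO, h⟩ := coverOk_spec hcov hz
  subst hl
  obtain ⟨i, rfl⟩ := List.mem_ofFn.mp hO
  exact ⟨i, h⟩

/-- The census of sets. -/
theorem census_set {α : Type*} [MulAction (Equiv.Perm GolayPt) α] {y : α} {F : List (List ℕ)} {gens : List ℕ}
    {n : ℕ} (hS : Stage F gens n)
    (hK : ∀ g : M24, g ∈ MulAction.stabilizer M24 y ↔ (g : Equiv.Perm GolayPt) ∈ Fx F) {U : Orb}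
    (hU : U.ok gens0 = true) {r : ℕ} (Os : Fin r → Orb) (hok : ∀ i, (Os i).ok gens = true)
    (hone : ∀ i, oneOk U (Os i) = true) {l : List Orb} (hl : l = List.ofFn Os) (hcov : coverOk U l = true)
    (a : M24) :
    (∀ i, a • pts (((Os i).obj 0).headD 0) ∈ U.setSet ∧
      (MulAction.orbit (MulAction.stabilizer M24 (a • y)) (a • pts (((Os i).obj 0).headD 0))).ncard = (Os i).n) ∧
      U.setSet = ⋃ i, MulAction.orbit (MulAction.stabilizer M24 (a • y)) (a • pts (((Os i).obj 0).headD 0)) := by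
  refine census hK U.setSet (fun g hg z hz => stage0.smul_setSet hU (mem_Fx_nil.mpr hg) hz) _ _
    (fun i => (Os i).setSet) (fun i => (oneOk_spec (hone i)).2) (fun i => hS.orbit_set (hok i) (oneOk_spec (hone i)).1)
    (fun z hz => ?_) a
  obtain ⟨O, hO, h⟩ := coverOk_set hcov hz
  subst hl
  obtain ⟨i, rfl⟩ := List.mem_ofFn.mp hO
  exact ⟨i, h⟩

theorem Orb.eq_of_n_one {O : Orb} (h : O.n = 1) {X : Finset (Finset GolayPt)} (hX : X ∈ O.famSet) :
    X = fam (O.obj 0) := by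
  obtain ⟨L, hL, rfl⟩ := hX
  obtain ⟨i, hi, rfl⟩ := List.mem_map.mp hL
  rw [h, List.mem_range, Nat.lt_one_iff] at hi
  rw [hi]

/-- Maximality, for families. -/
theorem maximal_fam {L : List ℕ} {gens : List ℕ} {n : ℕ} (hS : Stage [L] gens n) {U : Orb} (hU : U.ok gens0 = true)
    (hU0 : U.obj 0 = L) (Oz : Orb) (hz : Oz.obj 0 = L ∧ Oz.n = 1) {r : ℕ} (Os : Fin r → Orb)
    (hok : ∀ i, (Os i).ok gens = true) {l : List Orb} (hl : l = Oz :: List.ofFn Os) (hcov : coverOk U l = true)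
    {N : ℕ} (hN : U.n = N) (h2 : 2 ≤ N) (hsum : 1 + ∑ i, (Os i).n = N)
    (hdiv : ∀ s : Finset (Fin r), (1 + ∑ i ∈ s, (Os i).n) ∣ N → s = ∅ ∨ s = Finset.univ) (a : M24) :
    IsCoatom (MulAction.stabilizer M24 (a • fam L)) := by
  obtain ⟨h1, h3⟩ := stage0.orbit hU
  rw [hU0] at h1
  refine maximal (stabilizer_fam L) h1 (fun i => fam ((Os i).obj 0)) _ (fun i => (Os i).famSet) N (by rw [h3, hN]) h2
    (fun i => hS.orbit (hok i)) (fun z hz' => ?_) hsum hdiv a
  obtain ⟨O, hO, h⟩ := coverOk_spec hcov hz'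
  subst hl
  rcases List.mem_cons.mp hO with rfl | hO
  · exact Or.inl (by rw [Orb.eq_of_n_one hz.2 h, hz.1])
  · obtain ⟨i, rfl⟩ := List.mem_ofFn.mp hO
    exact Or.inr ⟨i, h⟩

/-- Maximality, for sets. -/
theorem maximal_set {m : ℕ} {gens : List ℕ} {n : ℕ} (hS : Stage [[m]] gens n) {U : Orb} (hU : U.ok gens0 = true)
    (hU0 : U.obj 0 = [m]) (Oz : Orb) (hz : Oz.obj 0 = [m] ∧ Oz.n = 1) {r : ℕ} (Os : Fin r → Orb)
    (hok : ∀ i, (Os i).ok gens = true) (hone : ∀ i, oneOk U (Os i) = true) {l : List Orb}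
    (hl : l = Oz :: List.ofFn Os) (hcov : coverOk U l = true) {N : ℕ} (hN : U.n = N) (h2 : 2 ≤ N)
    (hsum : 1 + ∑ i, (Os i).n = N)
    (hdiv : ∀ s : Finset (Fin r), (1 + ∑ i ∈ s, (Os i).n) ∣ N → s = ∅ ∨ s = Finset.univ) (a : M24) :
    IsCoatom (MulAction.stabilizer M24 (a • pts m)) := by
  obtain ⟨h1, h3⟩ := stage0.orbit_set hU hU0
  refine maximal (stabilizer_pts m) h1 (fun i => pts (((Os i).obj 0).headD 0)) _ (fun i => (Os i).setSet) N
    (by rw [h3, hN]) h2 (fun i => hS.orbit_set (hok i) (oneOk_spec (hone i)).1) (fun z hz' => ?_) hsum hdiv a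
  obtain ⟨O, hO, h⟩ := coverOk_set hcov hz'
  subst hl
  rcases List.mem_cons.mp hO with rfl | hO
  · refine Or.inl ?_
    have h' := Orb.eq_of_n_one hz.2 h
    rw [hz.1, fam_single, Finset.singleton_inj] at h'
    exact h'
  · obtain ⟨i, rfl⟩ := List.mem_ofFn.mp hO
    exact Or.inr ⟨i, h⟩

/-- A union over three parts. -/
theorem iUnion_three {α : Type*} (f : Fin 3 → Set α) : ⋃ i, f i = f 0 ∪ f 1 ∪ f 2 := by
  ext x; simp only [Set.mem_iUnion, Set.mem_union, Fin.exists_fin_succ, Fin.exists_fin_zero, or_false]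
  exact ⟨fun h => by rcases h with h | h | h; exacts [Or.inl (Or.inl h), Or.inl (Or.inr h), Or.inr h],
    fun h => by rcases h with (h | h) | h; exacts [Or.inl h, Or.inr (Or.inl h), Or.inr (Or.inr h)]⟩

/-- A union over four parts. -/
theorem iUnion_four {α : Type*} (f : Fin 4 → Set α) : ⋃ i, f i = f 0 ∪ f 1 ∪ f 2 ∪ f 3 := by
  ext x; simp only [Set.mem_iUnion, Set.mem_union, Fin.exists_fin_succ, Fin.exists_fin_zero, or_false]
  exact ⟨fun h => by
      rcases h with h | h | h | h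
      exacts [Or.inl (Or.inl (Or.inl h)), Or.inl (Or.inl (Or.inr h)), Or.inl (Or.inr h), Or.inr h],
    fun h => by
      rcases h with ((h | h) | h) | h
      exacts [Or.inl h, Or.inr (Or.inl h), Or.inr (Or.inr (Or.inl h)), Or.inr (Or.inr (Or.inr h))]⟩

/-- A union over five parts. -/
theorem iUnion_five {α : Type*} (f : Fin 5 → Set α) : ⋃ i, f i = f 0 ∪ f 1 ∪ f 2 ∪ f 3 ∪ f 4 := by
  ext x; simp only [Set.mem_iUnion, Set.mem_union, Fin.exists_fin_succ, Fin.exists_fin_zero, or_false]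
  exact ⟨fun h => by
      rcases h with h | h | h | h | h
      exacts [Or.inl (Or.inl (Or.inl (Or.inl h))), Or.inl (Or.inl (Or.inl (Or.inr h))), Or.inl (Or.inl (Or.inr h)),
        Or.inl (Or.inr h), Or.inr h],
    fun h => by
      rcases h with (((h | h) | h) | h) | h
      exacts [Or.inl h, Or.inr (Or.inl h), Or.inr (Or.inr (Or.inl h)), Or.inr (Or.inr (Or.inr (Or.inl h))),
        Or.inr (Or.inr (Or.inr (Or.inr h)))]⟩

end Cfsg.Agent.Spor.Golay.Census
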