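import Mathlib
import Cfsg.Prelude.Def_SporadicCombinatorics

/-! The hexacode computed in coordinates over a field with four elements. -/

set_option autoImplicit false
set_option maxRecDepth 100000

namespace Cfsg.Agent.Spor.Hexa

/-- A pair of bits standing for `a + b ω`. -/
abbrev Q : Type := Bool × Bool

/-- Sum of pairs. -/
def qadd (x y : Q) : Q := (xor x.1 y.1, xor x.2 y.2)

/-- Product of pairs, with `ω² = ω + 1`. -/
def qmul (x y : Q) : Q :=
  (xor (x.1 && y.1) (x.2 && y.2), xor (xor (x.1 && y.2) (x.2 && y.1)) (x.2 && y.2))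

variable {F : Type*} [Field F]

/-- The element of a pair. -/
def φ (ω : F) (x : Q) : F := (if x.1 then 1 else 0) + (if x.2 then ω else 0)

theorem two_eq_zero [Fintype F] (hF : Fintype.card F = 4) : (2 : F) = 0 := by
  have h : ((4 : ℕ) : F) = 0 := by
    rw [← hF]; exact FiniteField.cast_card_eq_zero F
  have h4 : (2 : F) * 2 = 0 := by push_cast at h; linear_combination h
  rcases mul_eq_zero.mp h4 with h | h <;> exact h

theorem φ_add (h2 : (2 : F) = 0) (ω : F) (x y : Q) : φ ω (qadd x y) = φ ω x + φ ω y := by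
  obtain ⟨a, b⟩ := x
  obtain ⟨c, d⟩ := y
  have h1 : (1 : F) + 1 = 0 := by linear_combination h2
  have hw : ω + ω = 0 := by linear_combination ω * h2
  cases a <;> cases b <;> cases c <;> cases d <;> simp [φ, qadd] <;>
    first
      | linear_combination h2
      | linear_combination (-ω) * h2
      | linear_combination (-1 : F) * h2
      | linear_combination (-(1 + ω)) * h2
      | ring1

theorem φ_mul (h2 : (2 : F) = 0) (ω : F) (hω : ω ^ 2 + ω + 1 = 0) (x y : Q) :
    φ ω (qmul x y) = φ ω x * φ ω y := by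
  obtain ⟨a, b⟩ := x
  obtain ⟨c, d⟩ := y
  cases a <;> cases b <;> cases c <;> cases d <;> simp [φ, qmul] <;>
    first
      | ring1
      | linear_combination (-1 : F) * hω + (ω + 1) * h2
      | linear_combination (-1 : F) * hω + ω * h2
      | linear_combination (-1 : F) * hω + h2
      | linear_combination (-1 : F) * hω
      | linear_combination (-1 : F) * hω + (-ω) * h2
      | linear_combination (-1 : F) * hω + (-1 : F) * h2

theorem φ_ne_zero (h2 : (2 : F) = 0) (ω : F) (hω : ω ^ 2 + ω + 1 = 0) (x : Q) (hx : x ≠ (false, false)) :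
    φ ω x ≠ 0 := by
  obtain ⟨a, b⟩ := x
  cases a <;> cases b <;> simp [φ] at hx ⊢
  · intro h; rw [h] at hω; simp at hω
  · intro h
    have : ω = 1 := by linear_combination h - h2
    rw [this] at hω
    exact one_ne_zero (show (1 : F) = 0 by linear_combination hω - h2)

theorem φ_zero (ω : F) : φ ω (false, false) = 0 := by simp [φ]

theorem φ_bijective [Fintype F] (hF : Fintype.card F = 4) (ω : F) (hω : ω ^ 2 + ω + 1 = 0) :
    Function.Bijective (φ ω) := by
  have h2 := two_eq_zero hF
  rw [Fintype.bijective_iff_injective_and_card]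
  refine ⟨fun x y h => ?_, by rw [hF]; rfl⟩
  by_contra hne
  have hq : qadd x y ≠ (false, false) :=
    (by decide : ∀ x y : Q, ¬x = y → qadd x y ≠ (false, false)) x y hne
  refine φ_ne_zero h2 ω hω _ hq ?_
  rw [φ_add h2, h]
  linear_combination φ ω y * h2

/-- The three generating words. -/
def gen : Fin 3 → Fin 6 → Q :=
  let w : Q := (false, true)
  let v : Q := (true, true)
  ![![w, v, v, w, v, w], ![v, w, w, v, v, w], ![v, w, v, w, w, v]]

/-- The word with given coefficients. -/
def word (k : Q × Q × Q) (i : Fin 6) : Q :=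
  qadd (qadd (qmul k.1 (gen 0 i)) (qmul k.2.1 (gen 1 i))) (qmul k.2.2 (gen 2 i))

theorem word_injective : Function.Injective word := by decide +kernel

/-- The number of nonzero places. -/
def weight (k : Q × Q × Q) : ℕ := (Finset.univ.filter fun i => word k i ≠ (false, false)).card

theorem gen_eq (h2 : (2 : F) = 0) (ω : F) (hω : ω ^ 2 + ω + 1 = 0) :
    φ ω (false, true) = ω ∧ φ ω (true, true) = ω ^ 2 := by
  refine ⟨by simp [φ], ?_⟩
  simp [φ]
  linear_combination (-1 : F) * hω + (1 + ω) * h2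

theorem mem_iff [Fintype F] (hF : Fintype.card F = 4) (ω : F) (hω : ω ^ 2 + ω + 1 = 0)
    (x : Fin 6 → F) : x ∈ hexacode F ω ↔ ∃ k, x = fun i => φ ω (word k i) := by
  have h2 := two_eq_zero hF
  have key : ∀ k : Q × Q × Q, (fun i => φ ω (word k i)) =
      φ ω k.1 • ![ω, ω ^ 2, ω ^ 2, ω, ω ^ 2, ω] + φ ω k.2.1 • ![ω ^ 2, ω, ω, ω ^ 2, ω ^ 2, ω] +
        φ ω k.2.2 • ![ω ^ 2, ω, ω ^ 2, ω, ω, ω ^ 2] := by
    intro k
    funext i
    obtain ⟨hw, hv⟩ := gen_eq h2 ω hω
    fin_cases i <;> simp [word, gen, φ_add h2, φ_mul h2 ω hω, hw, hv]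
  rw [hexacode, Submodule.mem_span_insert]
  constructor
  · rintro ⟨a, z, hz, rfl⟩
    obtain ⟨b, c, rfl⟩ := Submodule.mem_span_pair.mp hz
    obtain ⟨p, rfl⟩ := (φ_bijective hF ω hω).2 a
    obtain ⟨q, rfl⟩ := (φ_bijective hF ω hω).2 b
    obtain ⟨r, rfl⟩ := (φ_bijective hF ω hω).2 c
    exact ⟨(p, q, r), by rw [key]; abel⟩
  · rintro ⟨k, rfl⟩
    exact ⟨_, _, Submodule.mem_span_pair.mpr ⟨_, _, rfl⟩, by rw [key]; abel⟩

end Cfsg.Agent.Spor.Hexa
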