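import Cfsg.Agent.Lib.Spor.Golay.Psl23Max

/-! The two-point stabiliser in the group of the length-24 code has no subgroups of index 56 or 210. -/

set_option autoImplicit false
set_option maxRecDepth 100000
set_option maxHeartbeats 1000000

namespace Cfsg.Agent.Spor.Golay.M22Idx

open scoped Pointwise
open Census Psl23Max

/-- The element of order five. -/
def hN : ℕ := 0xbae75734e2a3d8354606b24b222020
/-- The normaliser. -/
def nL : List ℕ := [0xbdab49ca307b9ac5a928398a418820, 0xbae75734e2a3d8354606b24b222020, 0xba9d37b2c8ad06489c495c0ad91820, 0xbc5eea0d669d4923d910508ac6a420, 0xb9e8fa914974e4db2cc28a0a364020, 0xbd6717b56939461b52507314831040, 0xbd9f328dc489c26a2d2cac94d44040, 0xbd0af386b09c4c85b892b25436b040, 0xbace589acc7cd0d75609a11411c840, 0xbba279a2922bda3ad9845c1460a440, 0xbcdeb38ed2728c2ac5a92869062080, 0xbd4ef518a85b84c8da419b68382480, 0xbc54770a697ad90b150daca8618480, 0xbd9ca5b2a13be032cd328a28233480, 0xb956e7c22d51c669d428b268c14880, 0xbbcf671aad2d1849ac7250a290c100,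 0xbcdc7a3150b14815d5a278e264c900, 0xbae8e291f23d829aaa039b62c30900, 0xbd4b4b066271d2653e4d5c22460d00, 0xbaac53a563a38cc7cc50aca2123500, 0xb9dd52b263544287d8cda117212600, 0xbbcae88689aa902b4c643996c93600, 0xbda25520ed754529d12678d6161200, 0xbcd51a89e42ba4ca1da3b256809a00, 0xbd2aa74ac6895813bc899b56240e00, 0xbb8b3505e6a2c503d5838a2cd24920, 0xb9d4558a329d204abcc8732c168d20, 0xbd56aa41c32cc8d7c64c39ac20a120, 0xbbe8b990e8515a18b866acad013120, 0xbc6742b6ac5a82271d1278ec481920, 0xb954fa08ec8d88974c265c2a343640, 0xbba8ab116d7c52899d90286a219a40, 0xbced48a4a653d033ada1732a414240, 0xb9e367a1d0a2862594cc9b6a920640, 0xbadf150e61b50442ba0d39aa84b240, 0xbaa87891c15d5122bc4cb266680da0, 0xb9634aa2c33ae507b82950a64331a0, 0xbbeb15c94ca1e067586228668225a0, 0xbb9753c0a98d0c4b298178e72409a0, 0xbd8eba19e2ac4885152373270905a0, 0xbd22e5a0a2b4e0d51c81ac9ec49860, 0xba9719c2a6759a939452a11e860460, 0xb9e6bb36818b92c2d4c4509f044860, 0xb96d3725525c588ad022399ed81060, 0xbd5d68b0e49ad10a2a46285e968860,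 0xbc565b4144abd23a39029b4e1930c0, 0xbd2cb7a66c2d4727288d8a0f0088c0, 0xbb9f6a8e225964154d88a10e9834c0, 0xbaaaf2ca8db2c309c444730e34a0c0, 0xbccb5585c87da098d1ac508f2190c0, 0xbaecaaa68899e468960478dc268580, 0xbc6b63c9e154ccd2d1035c1c911180, 0xb94f599964b29a2a3c308a1d248d80, 0xbd26753623ad8497ac88285c694180, 0xbbd53b08b03d5325c461a11cd32180]
/-- Representatives of the octads through both fixed points, carried to `octFour`. -/
def octR : List (ℕ × ℕ) := [(8391797, 0xbb5f23b176ace068b94941462a0480), (8398155, 0xbb1759bda9942283b945a0ec611020), (9193633, 0xbd68a8b90c695661a6761483079c80)]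
/-- The element carrying positions 0, 1 to 0, 23. -/
def zP : ℕ := 0x6aaa75cec8640d17ba922a483106e0
/-- The generators of the stabiliser of positions 0 and 23. -/
def topTwo : List ℕ := [0xbcacc7852754283736a5321649c440, 0xb8c47522542bd2e59a04ab2760b620]
/-- The involution inside the subgroup of order 660. -/
def tL : ℕ := 0xbd6ce8b2693d0725aa01798a468900
/-- The generator as a product of conjugates of `tL`. -/
def gWord : List ℕ := [0, 2, 6]
/-- Coset representatives in the subgroup of order 660. -/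
def lReps : List ℕ := [0xbdab49ca307b9ac5a928398a418820, 0xbae957b6289ba44b1cd0524ac18820, 0xbda8e7a0ed2d4925c46c5267030820, 0xbadd4290ec7d510b292d88e7230820, 0xbaeae9c1522d18db4464399e848820, 0xbd9d52b1449d20859cd288ded48820, 0xbaa959ca28795a93d990591c610c20, 0xb9eb47b6309964652c88b31c910c20, 0xbdaa57196d7ce0c89d0954a8219020, 0xbc4b57c16974cc2b2a4d3a28c19020, 0xbaa8e290ed7cd098ae0cb4aa311820, 0xbc5d47a0ec2cc8355a4d5c2a911820]
/-- For each octad representative and involution, words for `topTwo` or none. -/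
def invTab : List (ℕ × ℕ × ℕ × Option (List ℕ × List ℕ)) :=
  [(0, 0xb9e086be3593a6952d94b10a618820, 0xbba95821336d9e15aa32198a438980, some ([12, 13, 47, 52], [2, 33, 13, 21])),
   (0, 0xb99b28523343aaa4b16f258a718820, 0xbbce30a50cb35d05aa51a98a4a0a60, some ([0, 35, 19, 47], [1, 49, 4, 0])),
   (0, 0xbc92655a2c3b9706cea47d0a818820, 0xbc670ab6d4426435a9cf098a4608e0, some ([4, 19, 28, 21], [20, 50, 39])),
   (0, 0xba91094e346b9e63d8955b0a918820, 0xbd6ce8b2693d0725aa01798a468900, none),
   (0, 0xba64d4562f83a87312d362caa18820, 0xb8daf94d88a1eb15a830718a4b0920, some ([3, 28, 33, 17], [6, 50, 53])),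
   (0, 0xbb1f3a4232ab916218ed4a8ab18820, 0xb9ded44032a8e895a993b18a470a20, some ([0, 51, 19, 40], [0, 28, 39, 50])),
   (0, 0xbae957b6289ba44b1cd0524ac18820, 0xbd1d6486111d4e85aa6c698a478a40, some ([6, 47, 10, 29], [13, 37, 40, 49])),
   (0, 0xbc0ea332364b892451ebaccad18820, 0xb85127d0ed9b20e5a875898a448ac0, some ([35, 28, 41], [0, 39, 51, 44])),
   (0, 0xbd17661a2a23933ac1a7448af18820, 0xba02c3b9e38c9345a9b6998a480aa0, some ([0, 15, 34, 49], [4, 34, 21, 15])),
   (0, 0xbb4c93ae2453ac893e8c9d4b018820, 0xbc13171e9664c2f5aaa3918a4409a0, some ([3, 45, 36, 36], [2, 35, 36, 7])),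
   (0, 0xba1474922b3398d85676a3cb218820, 0xbc9811d9a74a2355a9ee818a498a80, some ([0, 37, 9, 30], [12, 38, 14])),
   (0, 0xbd6cb22627638cfa224a834b318820, 0xbb2486d46f806765a8f4498a4889c0, some ([14, 26, 44], [12, 17, 14])),
   (0, 0xbbd8459e29b39559b606920b418820, 0xba613a3dd5945075aacd618a408860, some ([7, 20, 51, 20], [1, 50, 5, 23])),
   (0, 0xbcc8cb2a265b8f47c9096c0b518820, 0xbce29b0eae0c18d5aa87418a4909e0, some ([3, 44, 9, 25], [41, 28])),
   (0, 0xb926faa22da3a0b6255231cb618820, 0xbb4676464173ed35a909a18a4a8a00, some ([0, 11, 18, 53], [33, 44, 20])),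
   (1, 0xb9e086be3593a6952d94b10a618820, 0xbc12e8be76951a72aaa86196219020, some ([42, 23, 13], [1, 12, 25])),
   (1, 0xb99b28523343aaa4b16f258a718820, 0xba611732953cdb212ac8798851ac20, some ([3, 4, 32, 22], [2, 49, 18, 31])),
   (1, 0xbc92655a2c3b9706cea47d0a818820, 0xbba304aeb42d9a292a68219e71b020, some ([25, 13, 50], [3, 24, 28])),
   (1, 0xba91094e346b9e63d8955b0a918820, 0xb916c7c64299db4aa8a8719361c020, some ([16, 48, 24], [9, 19, 32])),
   (1, 0xba64d4562f83a87312d362caa18820, 0xbac8f638e5a49b3b284889a151a420, some ([8, 33, 27], [11, 29, 20])),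
   (1, 0xbb1f3a4232ab916218ed4a8ab18820, 0xb94523d18b73db18288899ac91d420, some ([7, 6, 3, 40], [0, 25, 48, 18])),
   (1, 0xbae957b6289ba44b1cd0524ac18820, 0xb88a794de48b1ae4a968a1ab01d820, some ([2, 8, 47, 10], [6, 12, 8, 3])),
   (1, 0xbc0ea332364b892451ebaccad18820, 0xbbd8b24052b15b5a28e8499d31c420, some ([2, 7, 16, 37], [1, 14, 7, 25])),
   (1, 0xbd17661a2a23933ac1a7448af18820, 0xbce95b0a11225ab629c8298ef1c820, some ([14, 18, 31], [21, 53, 26])),
   (1, 0xbb4c93ae2453ac893e8c9d4b018820, 0xbb1e45a4a7a89b69aa4881a341b820, some ([0, 38, 22, 43], [2, 7, 1, 13])),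
   (1, 0xba1474922b3398d85676a3cb218820, 0xbc5c9812d3155a53aa88599921bc20, some ([4, 10, 7, 29], [0, 32, 18, 9])),
   (1, 0xbd6cb22627638cfa224a834b318820, 0xbc8e51588f82da972988a9a911cc20, some ([4, 13, 21, 48], [5, 45, 11, 13])),
   (1, 0xbbd8459e29b39559b606920b418820, 0xbd276a952e5c1a47aa2811a4c19c20, some ([6, 23, 31, 41], [1, 31, 49, 23])),
   (1, 0xbcc8cb2a265b8f47c9096c0b518820, 0xb9e422d56c491b08a9e8b1a6e1d020, some ([0, 17, 15, 16], [8, 7, 33, 1])),
   (1, 0xb926faa22da3a0b6255231cb618820, 0xbd6d3a1dc9645af22a089184b19420, some ([1, 22, 33, 28], [3, 9, 41, 46])),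
   (2, 0xb9e086be3593a6952d94b10a618820, 0xb922d9caaa4ba815c1e238cb632180, some ([4, 42, 10, 34], [7, 31, 10])),
   (2, 0xb99b28523343aaa4b16f258a718820, 0xbbcd09c874b39485b48c3d4a988440, some ([2, 21, 45, 4], [5, 32, 38, 50])),
   (2, 0xbc92655a2c3b9706cea47d0a818820, 0xba9899c8246b9f55da863a0b010e20, some ([0, 44, 53, 2], [1, 47, 8, 47])),
   (2, 0xba91094e346b9e63d8955b0a918820, 0xbc4889cacc1b850584d43a4b57b540, some ([6, 35, 33, 11], [1, 19, 42, 0])),
   (2, 0xba64d4562f83a87312d362caa18820, 0xb99e19c922ab98d5a22a3d8a324280, some ([1, 32, 45, 6], [21, 46, 26])),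
   (2, 0xbb1f3a4232ab916218ed4a8ab18820, 0xb8d2c9c9e88b83458ab0390a6b29a0, some ([4, 36, 22, 9], [4, 32, 1, 41])),
   (2, 0xbae957b6289ba44b1cd0524ac18820, 0xbd6c29c8813390a5b06d3bcb14d200, some ([0, 50, 10, 24], [0, 14, 21])),
   (2, 0xbc0ea332364b892451ebaccad18820, 0xb8a959c9a60ba2958d843c0a8559e0, some ([4, 7, 21, 18], [45, 3, 22])),
   (2, 0xbd17661a2a23933ac1a7448af18820, 0xbb5049c84953ac65be153b0b40c460, some ([2, 38, 39, 2], [2, 40, 53, 16])),
   (2, 0xbb4c93ae2453ac893e8c9d4b018820, 0xbb1439ca11438d65d44f3b4a1a2480, some ([2, 27, 45, 4], [3, 7, 28])),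
   (2, 0xba1474922b3398d85676a3cb218820, 0xbd0569c90f838835a551384ad654c0, some ([0, 8, 34, 52], [14, 52, 28, 40])),
   (2, 0xbd6cb22627638cfa224a834b318820, 0xba1b19ca8363aaf598363a8a281120, some ([5, 36, 32, 39], [1, 17, 8, 4])),
   (2, 0xbbd8459e29b39559b606920b418820, 0xbc02f9c996a3931591a3388aa41aa0, some ([12, 7, 10, 34], [0, 34, 21, 9])),
   (2, 0xbcc8cb2a265b8f47c9096c0b518820, 0xb86069c955138645c5093d0ac6bec0, some ([4, 36, 30, 14], [2, 17, 38, 27])),
   (2, 0xb926faa22da3a0b6255231cb618820, 0xba46a9c8cd23a025d2c13c4afab100, some ([2, 27, 23, 12], [16, 10, 8, 42]))]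

/-- Powers of `hN`. -/
def hPow : ℕ → ℕ
  | 0 => idP
  | n + 1 => comp hN (hPow n)

/-- A product of normaliser elements around a fixed element. -/
def wordN (R : ℕ) : List ℕ → ℕ
  | [] => idP
  | [i] => nL.getD i idP
  | i :: j :: l => comp (nL.getD i idP) (comp R (wordN R (j :: l)))

/-- The only candidate for a normalising element with given data. -/
def normCand (k a b : ℕ) : ℕ :=
  pack 24 fun i =>
    if i = 0 then 0 else if i = 23 then 23 else
      match (List.range 11).find? (fun j => Nat.beq (2 ^ (k * j % 11) % 23) i) with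
      | some j => 2 ^ j * a % 23
      | none => match (List.range 11).find? (fun j => Nat.beq (5 * 2 ^ (k * j % 11) % 23) i) with
        | some j => 2 ^ j * b % 23
        | none => 0

theorem n_checks : inM24 hN = true ∧ get hN 0 = 0 ∧ get hN 23 = 23 ∧ hPow 5 = idP ∧ get hN 2 ≠ 2 ∧
    nL = (List.range 11).flatMap (fun i => (List.range 5).map fun j => comp (affP i 0) (hPow j)) ∧
    ([affP 1 0, hN].all fun s => nL.all fun x => nL.any fun y => Nat.beq y (comp s x)) = true ∧
    nL.length = 55 ∧ (nL.any fun x => Nat.beq x idP) = true ∧ validAll nL = true := by decide +kernel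

theorem n_ord : (nL.all fun x =>
    (!(Nat.beq (comp x (affP 1 0)) (comp (affP 1 0) x)) || (List.range 11).any fun k => Nat.beq (affP k 0) x) &&
    (!(Nat.beq (comp x (comp (comp (comp x x) (comp x x)) (comp (comp x x) (comp (comp x x) (comp x x))))) idP) ||
      (List.range 11).any fun k => Nat.beq (affP k 0) x)) = true := by decide +kernel

theorem n_max : ((List.range 11).all fun k => (List.range 23).all fun a => (List.range 23).all fun b =>
    Nat.beq k 0 || Nat.beq a 0 || Nat.beq b 0 || !inM24 (normCand k a b) ||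
      nL.any fun x => Nat.beq x (normCand k a b)) = true := by decide +kernel

theorem cover : ∀ i < 23, i = 0 ∨ ∃ j < 11, 2 ^ j % 23 = i ∨ 5 * 2 ^ j % 23 = i := by decide +kernel

theorem solve_exp : ∀ k < 11, k ≠ 0 → ∀ j < 11, ∃ l < 11, k * l % 11 = j := by decide +kernel

theorem oct_cover : (octList.all fun m => !(m.testBit 0 && m.testBit 23) ||
    nL.any fun n => octR.any fun o => Nat.beq (imgMask (get n) m) o.1) = true := by decide +kernel

theorem octR_checks : (octR.all fun o => inM24 o.2 && Nat.beq (imgMask (get o.2) o.1) octFour) = true ∧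
    ((List.range octR.length).all fun i => escW.all fun e => invTab.any fun t =>
      Nat.beq t.1 i && Nat.beq t.2.1 e.1) = true ∧
    ((invTab.all fun t => valid t.2.1 && (valid t.2.2.1 && (decide (t.1 < octR.length) &&
      Nat.beq (comp (octR.getD t.1 (0, 0)).2 t.2.2.1) (comp t.2.1 (octR.getD t.1 (0, 0)).2)))) = true) := by
  decide +kernel

theorem tab_checks : (invTab.all fun t =>
    match t.2.2.2 with
    | none => Nat.beq t.2.2.1 tL
    | some w => Nat.beq (wordN t.2.2.1 w.1) (topTwo.getD 0 0) && Nat.beq (wordN t.2.2.1 w.2) (topTwo.getD 1 0)) = true := by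
  decide +kernel

theorem top_two : inM24 zP = true ∧ get zP 0 = 0 ∧ get zP 1 = 23 ∧ pt2SG = [pt2SG.getD 0 0, pt2SG.getD 1 0] ∧
    valid (topTwo.getD 0 0) = true ∧ valid (topTwo.getD 1 0) = true ∧
    comp zP (pt2SG.getD 0 0) = comp (topTwo.getD 0 0) zP ∧
    comp zP (pt2SG.getD 1 0) = comp (topTwo.getD 1 0) zP ∧ pts 2 = {pt 1} := by decide +kernel

theorem l_checks : valid tL = true ∧ validAll lReps = true ∧ lReps.length = 12 ∧
    (lReps.any fun x => Nat.beq x idP) = true ∧
    inM24 tL = true := by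
  decide +kernel

/-- The conjugate of `tL` by an element of the normaliser. -/
def conjL (i : ℕ) : ℕ :=
  comp (nL.getD i idP) (comp tL ((nL.find? fun y => Nat.beq (comp (nL.getD i idP) y) idP).getD idP))

theorem conjL_checks : ([0, 2, 6].all fun i => nL.any fun y => Nat.beq (comp (nL.getD i idP) y) idP) = true ∧
    comp (conjL 0) (comp (conjL 2) (conjL 6)) = affP 1 0 := by decide +kernel

theorem l_closed : ([affP 1 0, hN, tL].all fun s => lReps.all fun r => lReps.any fun r' => nL.any fun n =>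
    Nat.beq (comp r' n) (comp s r)) = true := by decide +kernel

theorem hPow_zero : hPow 0 = idP := rfl

theorem hPow_succ (n : ℕ) : hPow (n + 1) = comp hN (hPow n) := rfl

theorem wordN_nil (R : ℕ) : wordN R [] = idP := rfl

theorem wordN_single (R i : ℕ) : wordN R [i] = nL.getD i idP := rfl

theorem wordN_cons (R i j : ℕ) (l : List ℕ) :
    wordN R (i :: j :: l) = comp (nL.getD i idP) (comp R (wordN R (j :: l))) := rfl

theorem get_normCand {k a b i : ℕ} (hi : i < 24) : get (normCand k a b) i =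
    if i = 0 then 0 else if i = 23 then 23 else
      match (List.range 11).find? (fun j => Nat.beq (2 ^ (k * j % 11) % 23) i) with
      | some j => 2 ^ j * a % 23
      | none => match (List.range 11).find? (fun j => Nat.beq (5 * 2 ^ (k * j % 11) % 23) i) with
        | some j => 2 ^ j * b % 23
        | none => 0 := by
  refine get_pack 24 _ i hi fun j _ => ?_
  have hm : ∀ x, x % 23 < 32 := fun x => (Nat.mod_lt _ (by norm_num)).trans (by norm_num)
  split_ifs
  · norm_num
  · norm_num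
  · split
    · exact hm _
    · split
      · exact hm _
      · norm_num

theorem comp_inj {P Q R S : ℕ} (hP : valid P = true) (hQ : valid Q = true) (hR : valid R = true)
    (hS : valid S = true) (h : permOf P * permOf Q = permOf R * permOf S) : comp P Q = comp R S := by
  refine pack_ext 24 _ _ fun i hi => ?_
  have := congrArg (fun p : Equiv.Perm GolayPt => idx (p (pt i))) h
  rwa [Equiv.Perm.mul_apply, idx_permOf hP, idx_permOf hQ, Equiv.Perm.mul_apply, idx_permOf hR, idx_permOf hS,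
    idx_pt hi] at this

theorem conjL_eq (i : ℕ) : conjL i =
    comp (nL.getD i idP) (comp tL ((nL.find? fun y => Nat.beq (comp (nL.getD i idP) y) idP).getD idP)) := rfl

attribute [local irreducible] affP normCand hPow comp wordN conjL

/-- The element of order eleven. -/
noncomputable def nGrp : Subgroup (Equiv.Perm GolayPt) := Subgroup.closure {Psl23Max.sq, permOf hN}

theorem sq_pow (n : ℕ) : Psl23Max.sq ^ n = permOf (affP (n % 11) 0) := by
  induction n with
  | zero => rw [pow_zero, Nat.zero_mod, aff_checks.2.2.2, permOf_idP]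
  | succ n ih =>
    have e := (aff_checks.2.1 (n % 11) (Nat.mod_lt _ (by norm_num)) 0 (by norm_num)).2
    rw [Nat.mul_zero, Nat.zero_mod, Nat.mod_add_mod] at e
    rw [pow_succ', ih, ← e,
      permOf_comp (aff_valid (by norm_num) (by norm_num)) (aff_valid (Nat.mod_lt _ (by norm_num)) (by norm_num))]
    rfl

theorem orderOf_sq : orderOf Psl23Max.sq = 11 := by
  have : Fact (Nat.Prime 11) := ⟨by norm_num⟩
  refine orderOf_eq_prime ?_ ?_
  · rw [sq_pow, Nat.mod_self, aff_checks.2.2.2, permOf_idP]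
  · intro e
    have e' := congrArg (fun p : Equiv.Perm GolayPt => idx (p (pt 1))) e
    rw [Psl23Max.sq, idx_permOf (aff_valid (by norm_num) (by norm_num)), idx_pt (by norm_num),
      (aff_checks.2.2.1 1 (by norm_num) 0 (by norm_num)).2.1, Equiv.Perm.one_apply, idx_pt (by norm_num)] at e'
    exact absurd e' (by norm_num)

theorem mem_M22 {g : Equiv.Perm GolayPt} : g ∈ Spor.M22 ↔ g ∈ M24 ∧ g none = none ∧ g (pt 0) = pt 0 := by
  have h0 : (some 0 : GolayPt) = pt 0 := by simp [pt]
  rw [Spor.M22, Subgroup.mem_inf, mem_M23, ← h0]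
  exact ⟨fun h => ⟨h.1.1, h.1.2, h.2⟩, fun h => ⟨⟨h.1, h.2.1⟩, h.2.2⟩⟩

theorem sq_mem_M22 : Psl23Max.sq ∈ Spor.M22 :=
  mem_M22.mpr ⟨permOf_mem_M24 (aff_checks.1 1 (by norm_num) 0 (by norm_num)),
    fix_none (aff_valid (by norm_num) (by norm_num)) (aff_checks.2.2.1 1 (by norm_num) 0 (by norm_num)).2.2,
    apply_pt (aff_valid (by norm_num) (by norm_num)) (by norm_num) (aff_checks.2.2.1 1 (by norm_num) 0 (by norm_num)).1⟩

theorem hN_valid : valid hN = true := valid_of_inM24 n_checks.1

theorem nGrp_le : nGrp ≤ Spor.M22 := by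
  rw [nGrp, Subgroup.closure_le]
  rintro x (rfl | rfl)
  · exact sq_mem_M22
  · exact mem_M22.mpr ⟨permOf_mem_M24 n_checks.1, fix_none hN_valid n_checks.2.2.1,
      apply_pt hN_valid (by norm_num) n_checks.2.1⟩

theorem exists_nL {g : Equiv.Perm GolayPt} (hg : g ∈ nGrp) : ∃ x ∈ nL, valid x = true ∧ permOf x = g := by
  refine closure_sub_of_left (S := {Psl23Max.sq, permOf hN}) (X := {g | ∃ x ∈ nL, valid x = true ∧ permOf x = g}) ?_ ?_ hg
  · obtain ⟨x, hx, e⟩ := List.any_eq_true.mp n_checks.2.2.2.2.2.2.2.2.1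
    exact ⟨x, hx, by rw [Nat.eq_of_beq_eq_true e]; exact ⟨valid_idP, permOf_idP⟩⟩
  · rintro s hs _ ⟨x, hx, hv, rfl⟩
    obtain ⟨S, hS, hSv, rfl⟩ : ∃ S ∈ [affP 1 0, hN], valid S = true ∧ permOf S = s := by
      rcases hs with rfl | rfl
      · exact ⟨_, by simp, aff_valid (by norm_num) (by norm_num), rfl⟩
      · exact ⟨_, by simp, hN_valid, rfl⟩
    have h := n_checks.2.2.2.2.2.2.1
    simp only [List.all_eq_true, List.any_eq_true] at h
    obtain ⟨y, hy, e⟩ := h S hS x hx
    refine ⟨y, hy, ?_⟩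
    rw [Nat.eq_of_beq_eq_true e]
    exact ⟨valid_comp hSv hv, permOf_comp hSv hv⟩

theorem hPow_spec : ∀ j, valid (hPow j) = true ∧ permOf (hPow j) = permOf hN ^ j
  | 0 => ⟨by rw [hPow_zero]; exact valid_idP, by rw [hPow_zero, permOf_idP, pow_zero]⟩
  | n + 1 => by
    obtain ⟨h1, h2⟩ := hPow_spec n
    rw [hPow_succ, permOf_comp hN_valid h1, h2, pow_succ']
    exact ⟨valid_comp hN_valid h1, rfl⟩

theorem nL_mem {x : ℕ} (hx : x ∈ nL) : valid x = true ∧ permOf x ∈ nGrp := by
  rw [n_checks.2.2.2.2.2.1] at hx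
  simp only [List.mem_flatMap, List.mem_map, List.mem_range] at hx
  obtain ⟨i, hi, j, -, rfl⟩ := hx
  obtain ⟨hv, hm⟩ := hPow_spec j
  refine ⟨valid_comp (aff_valid hi (by norm_num)) hv, ?_⟩
  rw [permOf_comp (aff_valid hi (by norm_num)) hv, hm]
  refine mul_mem ?_ (pow_mem (Subgroup.subset_closure (by simp)) j)
  have : permOf (affP i 0) = Psl23Max.sq ^ i := by rw [sq_pow, Nat.mod_eq_of_lt hi]
  rw [this]
  exact pow_mem (Subgroup.subset_closure (by simp)) i

theorem getD_mem (i : ℕ) : valid (nL.getD i idP) = true ∧ permOf (nL.getD i idP) ∈ nGrp := by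
  rw [List.getD_eq_getElem?_getD]
  rcases h : nL[i]? with - | x
  · exact ⟨valid_idP, by rw [Option.getD_none, permOf_idP]; exact one_mem _⟩
  · exact nL_mem (List.mem_of_getElem? h)

theorem card_nGrp : Nat.card nGrp = 55 := by
  have h1 : Nat.card nGrp ≤ 55 := by
    have : Nat.card nGrp ≤ Nat.card {x // x ∈ nL.toFinset} := by
      refine Nat.card_le_card_of_injective
        (fun g => ⟨(exists_nL g.2).choose, List.mem_toFinset.mpr (exists_nL g.2).choose_spec.1⟩) fun a b h => ?_
      have h' : (exists_nL a.2).choose = (exists_nL b.2).choose := congrArg Subtype.val h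
      exact Subtype.ext (by rw [← (exists_nL a.2).choose_spec.2.2, h', (exists_nL b.2).choose_spec.2.2])
    refine this.trans ?_
    rw [Nat.card_eq_fintype_card, Fintype.card_coe]
    exact (List.toFinset_card_le _).trans n_checks.2.2.2.2.2.2.2.1.le
  have hh : orderOf (permOf hN) = 5 := by
    have : Fact (Nat.Prime 5) := ⟨by norm_num⟩
    refine orderOf_eq_prime ?_ fun e => ?_
    · rw [← (hPow_spec 5).2, n_checks.2.2.2.1, permOf_idP]
    · have e' := congrArg (fun p : Equiv.Perm GolayPt => idx (p (pt 2))) e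
      rw [idx_permOf hN_valid, idx_pt (by norm_num), Equiv.Perm.one_apply, idx_pt (by norm_num)] at e'
      exact n_checks.2.2.2.2.1 e'
  have d1 : 11 ∣ Nat.card nGrp := orderOf_sq ▸ Subgroup.orderOf_dvd_natCard nGrp (Subgroup.subset_closure (by simp))
  have d2 : 5 ∣ Nat.card nGrp := hh ▸ Subgroup.orderOf_dvd_natCard nGrp (Subgroup.subset_closure (by simp))
  have hpos : 0 < Nat.card nGrp := Nat.card_pos
  omega

theorem pow_idx (j : ℕ) {p : GolayPt} (hp : idx p < 23) :
    idx ((Psl23Max.sq ^ j) p) = 2 ^ (j % 11) * idx p % 23 := by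
  rw [sq_pow, idx_permOf (aff_valid (Nat.mod_lt _ (by norm_num)) (by norm_num)), get_affP (by omega), if_pos hp,
    Nat.add_zero]

/-- The normaliser of the group of order eleven. -/
theorem mem_of_conj {x : Equiv.Perm GolayPt} (hx : x ∈ Spor.M22) {k : ℕ} (hk : k < 11)
    (e : x⁻¹ * Psl23Max.sq * x = permOf (affP k 0)) : x ∈ nGrp := by
  obtain ⟨hM, hn, h0⟩ := mem_M22.mp hx
  have ek : Psl23Max.sq ^ k = x⁻¹ * Psl23Max.sq * x := by rw [sq_pow, Nat.mod_eq_of_lt hk, e]
  have hk0 : k ≠ 0 := by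
    rintro rfl
    rw [pow_zero] at ek
    have : Psl23Max.sq = 1 := by
      have h' := congrArg (fun z => x * z * x⁻¹) ek
      simpa [mul_assoc] using h'.symm
    have := orderOf_sq
    rw [‹Psl23Max.sq = 1›, orderOf_one] at this
    norm_num at this
  have hl : ∀ j : ℕ, Psl23Max.sq ^ j * x = x * Psl23Max.sq ^ (k * j) := fun j => by
    rw [pow_mul, ek]
    have := conj_pow (a := x⁻¹) (b := Psl23Max.sq) (i := j)
    rw [inv_inv] at this
    rw [this]
    group
  have hlt : ∀ i < 23, i ≠ 0 → idx (x (pt i)) < 23 ∧ idx (x (pt i)) ≠ 0 := fun i hi hi0 => by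
    have h1 := idx_lt (x (pt i))
    refine ⟨?_, ?_⟩
    · by_contra hc
      have hh : x (pt i) = x none := by
        rw [hn]
        refine idx_injective ?_
        show idx (x (pt i)) = 23
        omega
      have h4 := congrArg idx (x.injective hh)
      rw [idx_pt (by omega)] at h4
      change i = 23 at h4
      omega
    · intro hc
      have hh : x (pt i) = x (pt 0) := by
        rw [h0]
        refine idx_injective ?_
        rw [hc, idx_pt (by norm_num)]
      have h4 := congrArg idx (x.injective hh)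
      rw [idx_pt (by omega), idx_pt (by norm_num)] at h4
      omega
  obtain ⟨ha, ha0⟩ := hlt 1 (by norm_num) (by norm_num)
  obtain ⟨hb, hb0⟩ := hlt 5 (by norm_num) (by norm_num)
  have hval : ∀ s : ℕ, 0 < s → s < 23 → ∀ j < 11,
      idx (x (pt (s * 2 ^ (k * j % 11) % 23))) = 2 ^ j * idx (x (pt s)) % 23 := by
    intro s hs0 hs j hj
    have h1 := congrArg (fun z : Equiv.Perm GolayPt => idx (z (pt s))) (hl j)
    simp only [Equiv.Perm.mul_apply] at h1
    rw [pow_idx j (hlt s hs (by omega)).1, Nat.mod_eq_of_lt hj] at h1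
    rw [h1]
    congr 1
    congr 1
    refine idx_injective ?_
    rw [idx_pt ((Nat.mod_lt _ (by norm_num)).trans (by norm_num)),
      pow_idx _ (by rw [idx_pt (by omega)]; exact hs), idx_pt (by omega), Nat.mul_comm]
  have hx' : x = permOf (normCand k (idx (x (pt 1))) (idx (x (pt 5)))) ∧
      valid (normCand k (idx (x (pt 1))) (idx (x (pt 5)))) = true := by
    have hget : ∀ i < 24, get (normCand k (idx (x (pt 1))) (idx (x (pt 5)))) i = idx (x (pt i)) := by
      intro i hi
      rw [get_normCand hi]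
      split_ifs with hi0 hi23
      · subst hi0; rw [h0, idx_pt (by norm_num)]
      · subst hi23; rw [pt_last, hn]; rfl
      · rcases h1 : (List.range 11).find? (fun j => Nat.beq (2 ^ (k * j % 11) % 23) i) with - | j
        · rcases h2 : (List.range 11).find? (fun j => Nat.beq (5 * 2 ^ (k * j % 11) % 23) i) with - | j
          · exfalso
            rcases cover i (by omega) with rfl | ⟨j, hj, hji⟩
            · exact hi0 rfl
            obtain ⟨l, hl', hlj⟩ := solve_exp k hk hk0 j hj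
            rw [List.find?_eq_none] at h1 h2
            rcases hji with hji | hji
            · exact h1 l (List.mem_range.mpr hl') (by rw [hlj, hji]; exact Nat.beq_refl i)
            · exact h2 l (List.mem_range.mpr hl') (by rw [hlj, hji]; exact Nat.beq_refl i)
          · have hj := List.mem_range.mp (List.mem_of_find?_eq_some h2)
            have hji := Nat.eq_of_beq_eq_true (List.find?_some (p := fun j => Nat.beq (5 * 2 ^ (k * j % 11) % 23) i) h2)
            show 2 ^ j * _ % 23 = _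
            rw [← hval 5 (by norm_num) (by norm_num) j hj, hji]
        · have hj := List.mem_range.mp (List.mem_of_find?_eq_some h1)
          have hji := Nat.eq_of_beq_eq_true (List.find?_some (p := fun j => Nat.beq (2 ^ (k * j % 11) % 23) i) h1)
          show 2 ^ j * _ % 23 = _
          rw [← hval 1 (by norm_num) (by norm_num) j hj, Nat.one_mul, hji]
    have hv : valid (normCand k (idx (x (pt 1))) (idx (x (pt 5)))) = true := by
      refine valid_iff.mpr ⟨fun j hj => ?_, fun i hi => by rw [hget i hi]; exact idx_lt _⟩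
      refine ⟨idx (x⁻¹ (pt j)), idx_lt _, ?_⟩
      rw [hget _ (idx_lt _), pt_idx, Equiv.Perm.inv_def, Equiv.apply_symm_apply, idx_pt hj]
    exact ⟨eq_permOf hv fun i hi => (hget i hi).symm, hv⟩
  have hM' : inM24 (normCand k (idx (x (pt 1))) (idx (x (pt 5)))) = true :=
    inM24_of_mem hx'.2 (hx'.1 ▸ hM)
  have h := n_max
  simp only [List.all_eq_true, List.mem_range, Bool.or_eq_true, List.any_eq_true, Bool.not_eq_true'] at h
  rcases h k hk _ ha _ hb with (((h' | h') | h') | h') | ⟨y, hy, e'⟩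
  · exact absurd (Nat.eq_of_beq_eq_true h') hk0
  · exact absurd (Nat.eq_of_beq_eq_true h') ha0
  · exact absurd (Nat.eq_of_beq_eq_true h') hb0
  · rw [hM'] at h'; exact Bool.noConfusion h'
  · rw [hx'.1, ← Nat.eq_of_beq_eq_true e']
    exact (nL_mem hy).2

theorem nGrp_order {g : Equiv.Perm GolayPt} (hg : g ∈ nGrp) :
    (g ^ 11 = 1 → ∃ k < 11, permOf (affP k 0) = g) ∧ (g * Psl23Max.sq = Psl23Max.sq * g → ∃ k < 11, permOf (affP k 0) = g) := by
  obtain ⟨x, hx, hv, rfl⟩ := exists_nL hg
  have h := n_ord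
  simp only [List.all_eq_true, Bool.and_eq_true, Bool.or_eq_true, List.any_eq_true, List.mem_range,
    Bool.not_eq_true'] at h
  obtain ⟨h1, h2⟩ := h x hx
  have hs := aff_valid (k := 1) (b := 0) (by norm_num) (by norm_num)
  constructor
  · intro e
    rcases h2 with h2 | ⟨k, hk, h2⟩
    · exfalso
      have v2 := valid_comp hv hv
      have v4 := valid_comp v2 v2
      have v6 := valid_comp v2 v4
      have v10 := valid_comp v4 v6
      have e' : comp x (comp (comp (comp x x) (comp x x)) (comp (comp x x) (comp (comp x x) (comp x x)))) = idP := by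
        refine comp_eq_idP hv v10 ?_
        rw [permOf_comp v4 v6, permOf_comp v2 v4, permOf_comp v2 v2, permOf_comp hv hv, ← e]
        simp only [pow_succ, pow_zero, one_mul, mul_assoc]
      rw [e'] at h2
      simp at h2
    · exact ⟨k, hk, by rw [Nat.eq_of_beq_eq_true h2]⟩
  · intro e
    rcases h1 with h1 | ⟨k, hk, h1⟩
    · exfalso
      have e' : comp x (affP 1 0) = comp (affP 1 0) x := by
        refine comp_inj hv hs hs hv ?_
        exact e
      rw [e'] at h1
      simp at h1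
    · exact ⟨k, hk, by rw [Nat.eq_of_beq_eq_true h1]⟩

theorem card_M22 : Nat.card Spor.M22 = 443520 := by
  rw [← card_stabilizer_two (none : GolayPt) (pt 0) (by decide +kernel)]
  exact Nat.card_congr
    ⟨fun g => ⟨⟨g.1, (mem_M22.mp g.2).1⟩, ⟨(mem_M22.mp g.2).2.1, (mem_M22.mp g.2).2.2⟩⟩,
     fun g => ⟨g.1.1, mem_M22.mpr ⟨g.1.2, g.2.1, g.2.2⟩⟩, fun g => rfl, fun g => rfl⟩

theorem exists_conj_sub {K : Subgroup (Equiv.Perm GolayPt)} (hK : K ≤ Spor.M22)
    (hc : Nat.card K = 7920 ∨ Nat.card K = 2112) : ∃ b ∈ Spor.M22, b⁻¹ * Psl23Max.sq * b ∈ K := by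
  have : Fact (Nat.Prime 11) := ⟨by norm_num⟩
  let B : Subgroup Spor.M22 := K.subgroupOf Spor.M22
  have hB : Nat.card B = Nat.card K := Nat.card_congr (Subgroup.subgroupOfEquivOfLe hK).toEquiv
  let g : Spor.M22 := ⟨Psl23Max.sq, sq_mem_M22⟩
  have hP : IsPGroup 11 (Subgroup.zpowers g) := IsPGroup.of_card (n := 1) (by
    rw [Nat.card_zpowers, ← Subgroup.orderOf_coe, orderOf_sq, pow_one])
  have hmod := hP.card_modEq_card_fixedPoints (Spor.M22 ⧸ B)
  have h := Subgroup.card_eq_card_quotient_mul_card_subgroup B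
  rw [card_M22, hB] at h
  have hne : Nat.card (MulAction.fixedPoints (Subgroup.zpowers g) (Spor.M22 ⧸ B)) ≠ 0 := fun h0 => by
    rw [h0, Nat.modEq_zero_iff_dvd] at hmod
    rcases hc with hc | hc <;> rw [hc] at h <;> omega
  obtain ⟨⟨⟨q, hq'⟩⟩, -⟩ := Nat.card_ne_zero.mp hne
  induction q using QuotientGroup.induction_on with
  | H b =>
    refine ⟨b, b.2, ?_⟩
    have e : (((g * b : Spor.M22)) : Spor.M22 ⧸ B) = (b : Spor.M22 ⧸ B) := hq' ⟨g, Subgroup.mem_zpowers g⟩
    rw [eq_comm, QuotientGroup.eq, ← mul_assoc] at e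
    exact e

/-- The normaliser is contained in a subgroup of order 7920 containing the element of order eleven. -/
theorem nGrp_sub {K : Subgroup (Equiv.Perm GolayPt)} (hK : K ≤ Spor.M22)
    (hc : Nat.card K = 7920 ∨ Nat.card K = 2112) (hg : Psl23Max.sq ∈ K) : Nat.card K = 7920 ∧ nGrp ≤ K := by
  have : Fact (Nat.Prime 11) := ⟨by norm_num⟩
  let B : Subgroup K := nGrp.subgroupOf K
  let g : K := ⟨Psl23Max.sq, hg⟩
  have hgB : g ∈ B := Subgroup.subset_closure (by simp [g])
  have hP : IsPGroup 11 (Subgroup.zpowers g) := IsPGroup.of_card (n := 1) (by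
    rw [Nat.card_zpowers, ← Subgroup.orderOf_coe, orderOf_sq, pow_one])
  have hone : Nat.card (MulAction.fixedPoints (Subgroup.zpowers g) (K ⧸ B)) = 1 := by
    refine Nat.card_eq_one_iff_exists.mpr ⟨⟨((1 : K) : K ⧸ B), ?_⟩, ?_⟩
    · rintro ⟨z, hz⟩
      show ((z * 1 : K) : K ⧸ B) = _
      rw [QuotientGroup.eq, mul_one, mul_one]
      exact inv_mem ((Subgroup.zpowers_le.mpr hgB) hz)
    · rintro ⟨q, hq⟩
      induction q using QuotientGroup.induction_on with
      | H x =>
        refine Subtype.ext ?_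
        have e : ((g * x : K) : K ⧸ B) = (x : K ⧸ B) := hq ⟨g, Subgroup.mem_zpowers g⟩
        rw [eq_comm, QuotientGroup.eq, ← mul_assoc] at e
        have e' : (x : Equiv.Perm GolayPt)⁻¹ * Psl23Max.sq * x ∈ nGrp := e
        have h11 : ((x : Equiv.Perm GolayPt)⁻¹ * Psl23Max.sq * x) ^ 11 = 1 := by
          have := conj_pow (a := (x : Equiv.Perm GolayPt)⁻¹) (b := Psl23Max.sq) (i := 11)
          rw [inv_inv] at this
          rw [this, ← orderOf_sq, pow_orderOf_eq_one]
          group
        obtain ⟨k, hk, hke⟩ := (nGrp_order e').1 h11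
        rw [QuotientGroup.eq, mul_one]
        exact inv_mem (mem_of_conj (hK x.2) hk hke.symm)
  have hmod := hP.card_modEq_card_fixedPoints (K ⧸ B)
  rw [hone] at hmod
  have h := Subgroup.card_eq_card_quotient_mul_card_subgroup B
  have hdvd : Nat.card B ∣ 55 := by
    rw [← card_nGrp]
    exact Subgroup.card_dvd_of_injective
      ((nGrp.subtype.comp ((K.subtype.comp B.subtype).codRestrict nGrp fun z => z.2)).codRestrict nGrp fun z => by
        exact ((K.subtype.comp B.subtype).codRestrict nGrp (fun z => z.2) z).2)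
      fun a b hab => Subtype.ext (Subtype.ext (congrArg (fun z : nGrp => (z : Equiv.Perm GolayPt)) hab))
  have h11 : 11 ∣ Nat.card B := by
    rw [← orderOf_sq, show Psl23Max.sq = ((⟨g, hgB⟩ : B).1 : Equiv.Perm GolayPt) from rfl, Subgroup.orderOf_coe,
      Subgroup.orderOf_coe]
    exact orderOf_dvd_natCard _
  have hmem : Nat.card B ∈ Nat.divisors 55 := Nat.mem_divisors.mpr ⟨hdvd, by norm_num⟩
  rw [show Nat.divisors 55 = {1, 5, 11, 55} by decide +kernel] at hmem
  simp only [Finset.mem_insert, Finset.mem_singleton] at hmem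
  rw [Nat.ModEq] at hmod
  have h55 : Nat.card B = 55 ∧ Nat.card K = 7920 := by
    rcases hmem with e | e | e | e <;> rw [e] at h h11 <;> rcases hc with hc | hc <;> omega
  refine ⟨h55.2, fun z hz => ?_⟩
  have hmap : B.map K.subtype = nGrp := by
    refine Subgroup.eq_of_le_of_card_ge ?_ ?_
    · rintro _ ⟨w, hw, rfl⟩; exact hw
    · rw [Subgroup.card_map_of_injective K.subtype_injective, card_nGrp, h55.1]
  rw [← hmap] at hz
  obtain ⟨w, -, rfl⟩ := hz
  exact w.2

/-- The subgroup of order 660. -/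
noncomputable def lGrp : Subgroup (Equiv.Perm GolayPt) := Subgroup.closure {Psl23Max.sq, permOf hN, permOf tL}

theorem card_lGrp : Nat.card lGrp ≤ 660 := by
  have hsub : ∀ g ∈ lGrp, ∃ r ∈ lReps, ∃ n ∈ nGrp, g = permOf r * n := by
    intro g hg
    refine closure_sub_of_left (S := {Psl23Max.sq, permOf hN, permOf tL})
      (X := {g | ∃ r ∈ lReps, ∃ n ∈ nGrp, g = permOf r * n}) ?_ ?_ hg
    · obtain ⟨r, hr, e⟩ := List.any_eq_true.mp l_checks.2.2.2.1
      exact ⟨r, hr, 1, one_mem _, by rw [Nat.eq_of_beq_eq_true e, permOf_idP, mul_one]⟩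
    · rintro s hs _ ⟨r, hr, n, hn, rfl⟩
      obtain ⟨S, hS, hSv, rfl⟩ : ∃ S ∈ [affP 1 0, hN, tL], valid S = true ∧ permOf S = s := by
        rcases hs with rfl | rfl | rfl
        · exact ⟨_, by simp, aff_valid (by norm_num) (by norm_num), rfl⟩
        · exact ⟨_, by simp, hN_valid, rfl⟩
        · exact ⟨_, by simp, l_checks.1, rfl⟩
      have h := l_closed
      simp only [List.all_eq_true, List.any_eq_true] at h
      obtain ⟨r', hr', m, hm, e⟩ := h S hS r hr
      have hrv := List.all_eq_true.mp l_checks.2.1 r hr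
      have hrv' := List.all_eq_true.mp l_checks.2.1 r' hr'
      obtain ⟨hmv, hmm⟩ := nL_mem hm
      have e' := congrArg permOf (Nat.eq_of_beq_eq_true e)
      rw [permOf_comp hrv' hmv, permOf_comp hSv hrv] at e'
      exact ⟨r', hr', permOf m * n, mul_mem hmm hn, by rw [← mul_assoc, ← mul_assoc, e']⟩
  let F : Fin lReps.length × nGrp → Equiv.Perm GolayPt := fun z =>
    permOf (lReps.get z.1) * (z.2 : Equiv.Perm GolayPt)
  have h1 : (lGrp : Set (Equiv.Perm GolayPt)) ⊆ Set.range F := fun g hg => by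
    obtain ⟨r, hr, n, hn, rfl⟩ := hsub g hg
    obtain ⟨i, hi⟩ := List.get_of_mem hr
    exact ⟨(i, ⟨n, hn⟩), by show permOf (lReps.get i) * n = _; rw [hi]⟩
  calc Nat.card lGrp ≤ Nat.card (Set.range F) := Nat.card_mono (Set.toFinite _) h1
    _ ≤ Nat.card (Fin lReps.length × nGrp) :=
      Nat.card_le_card_of_surjective (Set.rangeFactorization F) Set.rangeFactorization_surjective
    _ = 660 := by rw [Nat.card_prod, card_nGrp, Nat.card_eq_fintype_card, Fintype.card_fin, l_checks.2.2.1]

theorem wordN_mem {K : Subgroup (Equiv.Perm GolayPt)} {R : ℕ} (hv : valid R = true) (hR : permOf R ∈ K)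
    (hN : nGrp ≤ K) : ∀ l : List ℕ, valid (wordN R l) = true ∧ permOf (wordN R l) ∈ K := by
  intro l
  induction l with
  | nil => rw [wordN_nil]; exact ⟨valid_idP, by rw [permOf_idP]; exact one_mem _⟩
  | cons i l ih =>
    obtain ⟨vi, mi⟩ := getD_mem i
    cases l with
    | nil => rw [wordN_single]; exact ⟨vi, hN mi⟩
    | cons j l =>
      obtain ⟨v', m'⟩ := ih
      rw [wordN_cons]
      refine ⟨valid_comp vi (valid_comp hv v'), ?_⟩
      rw [permOf_comp vi (valid_comp hv v'), permOf_comp hv v']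
      exact mul_mem (hN mi) (mul_mem hR m')

/-- An involution of an overgroup of the normaliser is conjugate to `tL` by the normaliser, or the overgroup is everything. -/
theorem invol_cases {K : Subgroup (Equiv.Perm GolayPt)} (hK : K ≤ Spor.M22) (hN : nGrp ≤ K)
    {t : Equiv.Perm GolayPt} (ht : t ∈ K) (h2 : orderOf t = 2) :
    Spor.M22 ≤ K ∨ ∃ n ∈ nGrp, t = n * permOf tL * n⁻¹ := by
  obtain ⟨htM, htn, ht0⟩ := mem_M22.mp (hK ht)
  obtain ⟨c, hcM, hcase⟩ := two_classes htM h2
  rcases hcase with ⟨-, e⟩ | ⟨h0, -⟩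
  swap
  · exact absurd htn ((fix_zero_iff t).mp h0 none)
  have hv0 : valid (repTwo.getD 0 0) = true := (rep_two_ok (by rw [two_reps.1]; simp)).1
  have hc' := fix_conj c t
  rw [e, fix_eq hv0] at hc'
  have hmem : (Finset.univ.filter fun p => t p = p) ∈ octads := by
    rw [show (Finset.univ.filter fun p => t p = p) = c⁻¹ • pts (fixMask (repTwo.getD 0 0)) from
      eq_inv_smul_iff.mpr hc'.symm]
    refine smul_octad (inv_mem hcM) ?_
    rw [← octU_setSet]
    exact Orb.mem_setSet_of_has two_reps.2.2.1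
  obtain ⟨m, hm, hme⟩ := mem_octads.mp hmem
  have b23 : m.testBit 23 = true := by
    have : (none : GolayPt) ∈ pts m := hme ▸ Finset.mem_filter.mpr ⟨Finset.mem_univ _, htn⟩
    exact mem_pts.mp this
  have b0 : m.testBit 0 = true := by
    have : pt 0 ∈ pts m := hme ▸ Finset.mem_filter.mpr ⟨Finset.mem_univ _, ht0⟩
    rw [mem_pts, idx_pt (by norm_num)] at this
    exact this
  have h := oct_cover
  simp only [List.all_eq_true, Bool.or_eq_true, List.any_eq_true, Bool.not_eq_true', Bool.and_eq_false_iff] at h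
  rcases h m hm with (h' | h') | ⟨n, hn, o, ho, e1⟩
  · rw [b0] at h'; exact Bool.noConfusion h'
  · rw [b23] at h'; exact Bool.noConfusion h'
  obtain ⟨hnv, hnm⟩ := nL_mem hn
  obtain ⟨i, hi, rfl⟩ := List.getElem_of_mem ho
  obtain ⟨hR1, hR2, hR3⟩ := octR_checks
  simp only [List.all_eq_true, Bool.and_eq_true, decide_eq_true_eq, List.mem_range, List.any_eq_true] at hR1 hR2 hR3
  obtain ⟨haM, haO⟩ := hR1 _ (List.getElem_mem hi)
  have hav := valid_of_inM24 haM
  set a : ℕ := (octR[i]).2 with ha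
  have hfixset : (permOf a * permOf n) • (Finset.univ.filter fun p => t p = p) = pts octFour := by
    rw [mul_smul, hme, permOf_smul_pts hnv, Nat.eq_of_beq_eq_true e1, permOf_smul_pts hav,
      Nat.eq_of_beq_eq_true haO]
  rw [← fix_conj] at hfixset
  have hbM : permOf a * permOf n ∈ M24 :=
    mul_mem (permOf_mem_M24 haM) (mem_M22.mp (nGrp_le hnm)).1
  have hfix : ∀ j < 24, octFour.testBit j = true →
      (permOf a * permOf n * t * (permOf a * permOf n)⁻¹) (pt j) = pt j := fun j hj hb' => by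
    have : pt j ∈ pts octFour := by rw [mem_pts, idx_pt hj]; exact hb'
    rw [← hfixset] at this
    exact (Finset.mem_filter.mp this).2
  obtain ⟨P, hP, hv, hPe⟩ := mem_four oct_checks.1 (g := permOf a * permOf n * t * (permOf a * permOf n)⁻¹)
    (mul_mem (mul_mem hbM htM) (inv_mem hbM)) fun j hj => by
      rw [permOf_idP, Equiv.Perm.one_apply]
      exact hfix j (by omega) (oct_checks.2.2.1 j hj)
  have hc := four_cands
  simp only [List.all_eq_true, Bool.or_eq_true, List.any_eq_true, Bool.not_eq_true'] at hc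
  rcases hc P hP with (h | h) | ⟨w, hw, hwP⟩
  · exfalso
    have : ((List.range 24).all fun i => !octFour.testBit i || Nat.beq (get P i) i) = true := by
      simp only [List.all_eq_true, List.mem_range, Bool.or_eq_true, Bool.not_eq_true']
      intro j hj
      rcases hbit : octFour.testBit j with - | -
      · exact Or.inl rfl
      · refine Or.inr ?_
        have e' := congrArg idx (hfix j hj hbit)
        rw [← hPe, idx_permOf hv, idx_pt hj] at e'
        rw [e']
        exact Nat.beq_refl j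
    rw [h] at this
    exact Bool.false_ne_true this
  · exfalso
    have h' := Nat.eq_of_beq_eq_true h
    rw [h', permOf_idP, eq_comm, mul_inv_eq_one] at hPe
    have : t = 1 := mul_left_cancel (hPe.trans (mul_one (permOf a * permOf n)).symm)
    simp [this] at h2
  obtain rfl : w.1 = P := Nat.eq_of_beq_eq_true hwP
  obtain ⟨T, hT, hTi, hTw⟩ := hR2 i hi w hw
  obtain ⟨hPv, hRv, -, hconj⟩ := hR3 T hT
  have hTi' := Nat.eq_of_beq_eq_true hTi
  have hget : (octR.getD T.1 (0, 0)).2 = a := by rw [hTi', List.getD_eq_getElem _ _ hi]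
  rw [hget] at hconj
  have hR : permOf T.2.2.1 = permOf n * t * (permOf n)⁻¹ := by
    have e' := congrArg permOf (Nat.eq_of_beq_eq_true hconj)
    rw [Nat.eq_of_beq_eq_true hTw, permOf_comp hav hRv, permOf_comp hv hav, hPe] at e'
    rw [← mul_right_inj (permOf a), e']
    group
  have ht' := tab_checks
  simp only [List.all_eq_true] at ht'
  have hrow := ht' T hT
  rcases hopt : T.2.2.2 with - | ⟨w1, w2⟩ <;> rw [hopt] at hrow
  · refine Or.inr ⟨(permOf n)⁻¹, inv_mem hnm, ?_⟩
    rw [← Nat.eq_of_beq_eq_true hrow, hR]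
    group
  · left
    simp only [Bool.and_eq_true] at hrow
    have hRK : permOf T.2.2.1 ∈ K := hR ▸ mul_mem (mul_mem (hN hnm) ht) (inv_mem (hN hnm))
    obtain ⟨-, m1⟩ := wordN_mem hRv hRK hN w1
    obtain ⟨-, m2⟩ := wordN_mem hRv hRK hN w2
    rw [Nat.eq_of_beq_eq_true hrow.1] at m1
    rw [Nat.eq_of_beq_eq_true hrow.2] at m2
    obtain ⟨hzM, hz0, hz1, eps, hu0, hu1, ez0, ez1, ep2⟩ := top_two
    have hzv := valid_of_inM24 hzM
    obtain ⟨hvs, hFx, -⟩ := stagePt2
    have hle : grp pt2SG ≤ K.comap (MulAut.conj (permOf zP)).toMonoidHom := by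
      rw [grp, Subgroup.closure_le]
      rintro _ ⟨s, hs, rfl⟩
      show permOf zP * permOf s * (permOf zP)⁻¹ ∈ K
      have hvs' := List.all_eq_true.mp hvs s hs
      rw [eps, List.mem_cons, List.mem_singleton] at hs
      rcases hs with rfl | rfl
      · rw [← permOf_comp hzv hvs', ez0, permOf_comp hu0 hzv, mul_inv_cancel_right]; exact m1
      · rw [← permOf_comp hzv hvs', ez1, permOf_comp hu1 hzv, mul_inv_cancel_right]; exact m2
    intro g hg
    obtain ⟨hgM, hgn, hg0⟩ := mem_M22.mp hg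
    have hz0' : permOf zP (pt 0) = pt 0 := apply_pt hzv (by norm_num) hz0
    have hz1' : permOf zP (pt 1) = none := by
      have := apply_pt (j := 23) hzv (i := 1) (by norm_num) hz1
      rwa [pt_last] at this
    have hmem : (permOf zP)⁻¹ * g * permOf zP ∈ Fx [[2], [1]] := by
      rw [mem_Fx]
      refine ⟨mul_mem (mul_mem (inv_mem (permOf_mem_M24 hzM)) hgM) (permOf_mem_M24 hzM), ?_⟩
      intro L hL
      simp only [List.mem_cons, List.not_mem_nil, or_false] at hL
      rcases hL with rfl | rfl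
      · rw [smul_fam_single, ep2, Finset.smul_finset_singleton, Equiv.Perm.smul_def, Equiv.Perm.mul_apply,
          Equiv.Perm.mul_apply, hz1', hgn, Equiv.Perm.inv_eq_iff_eq.mpr hz1'.symm]
      · rw [smul_fam_single, pts_one, Finset.smul_finset_singleton, Equiv.Perm.smul_def, Equiv.Perm.mul_apply,
          Equiv.Perm.mul_apply, hz0', hg0, Equiv.Perm.inv_eq_iff_eq.mpr hz0'.symm]
    rw [hFx] at hmem
    have := hle hmem
    change permOf zP * ((permOf zP)⁻¹ * g * permOf zP) * (permOf zP)⁻¹ ∈ K at this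
    simpa [mul_assoc] using this

theorem sq_word : ∃ n1 : Equiv.Perm GolayPt, n1 ∈ nGrp ∧ ∃ n2 : Equiv.Perm GolayPt, n2 ∈ nGrp ∧
    ∃ n3 : Equiv.Perm GolayPt, n3 ∈ nGrp ∧
      Psl23Max.sq = (n1 * permOf tL * n1⁻¹) * (n2 * permOf tL * n2⁻¹) * (n3 * permOf tL * n3⁻¹) := by
  have htv := l_checks.1
  have step : ∀ i ∈ [0, 2, 6], valid (conjL i) = true ∧
      permOf (conjL i) = permOf (nL.getD i idP) * permOf tL * (permOf (nL.getD i idP))⁻¹ := by
    intro i hi
    have h := conjL_checks.1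
    simp only [List.all_eq_true, List.any_eq_true] at h
    obtain ⟨y, hy, e⟩ := h i hi
    rw [conjL_eq]
    rcases hf : nL.find? (fun y => Nat.beq (comp (nL.getD i idP) y) idP) with - | z
    · exact absurd e (by simpa using List.find?_eq_none.mp hf y hy)
    · obtain ⟨vi, -⟩ := getD_mem i
      obtain ⟨vz, -⟩ := nL_mem (List.mem_of_find?_eq_some hf)
      have hz := congrArg permOf (Nat.eq_of_beq_eq_true (List.find?_some (p := fun y => Nat.beq (comp (nL.getD i idP) y) idP) hf))
      rw [permOf_comp vi vz, permOf_idP, mul_eq_one_iff_inv_eq] at hz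
      rw [Option.getD_some]
      refine ⟨valid_comp vi (valid_comp htv vz), ?_⟩
      rw [permOf_comp vi (valid_comp htv vz), permOf_comp htv vz, hz, mul_assoc]
  obtain ⟨v0, e0⟩ := step 0 (by simp)
  obtain ⟨v2, e2⟩ := step 2 (by simp)
  obtain ⟨v6, e6⟩ := step 6 (by simp)
  refine ⟨_, (getD_mem 0).2, _, (getD_mem 2).2, _, (getD_mem 6).2, ?_⟩
  rw [← e0, ← e2, ← e6, mul_assoc, ← permOf_comp v2 v6, ← permOf_comp v0 (valid_comp v2 v6), conjL_checks.2]
  rfl

/-- There is no subgroup of order 7920 or 2112. -/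
theorem no_subgroup {K : Subgroup (Equiv.Perm GolayPt)} (hK : K ≤ Spor.M22)
    (hc : Nat.card K = 7920 ∨ Nat.card K = 2112) : False := by
  obtain ⟨b, hb, hbK⟩ := exists_conj_sub hK hc
  let K' : Subgroup (Equiv.Perm GolayPt) := K.map (MulAut.conj b).toMonoidHom
  have hK' : K' ≤ Spor.M22 := by
    rintro _ ⟨g, hg, rfl⟩
    exact mul_mem (mul_mem hb (hK hg)) (inv_mem hb)
  have hc' : Nat.card K' = Nat.card K := Subgroup.card_map_of_injective (MulAut.conj b).injective
  have hgK : Psl23Max.sq ∈ K' := ⟨_, hbK, by simp [mul_assoc]⟩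
  obtain ⟨hcard, hN⟩ := nGrp_sub hK' (hc' ▸ hc) hgK
  have hne : ¬ Spor.M22 ≤ K' := fun h => by
    have := Subgroup.card_le_of_le h
    rw [card_M22, hcard] at this
    omega
  have : Fact (Nat.Prime 2) := ⟨Nat.prime_two⟩
  obtain ⟨⟨t, htK⟩, ht⟩ := exists_prime_orderOf_dvd_card' (G := K') 2 (by rw [hcard]; norm_num)
  have ht2 : orderOf t = 2 := by rw [← ht]; exact (Subgroup.orderOf_coe (⟨t, htK⟩ : K'))
  obtain ⟨n, hn, htn⟩ := (invol_cases hK' hN htK ht2).resolve_left hne
  have htL : permOf tL ∈ K' := by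
    have := mul_mem (mul_mem (inv_mem (hN hn)) htK) (hN hn)
    rw [htn] at this
    simpa [mul_assoc] using this
  have htL2 : orderOf (permOf tL) = 2 := by
    rw [← ht2, htn, ← MulAut.conj_apply]
    exact (MulEquiv.orderOf_eq (MulAut.conj n) _).symm
  have hnl : nGrp ≤ lGrp := Subgroup.closure_mono (by rintro x (rfl | rfl) <;> simp)
  have hinv : ∀ x ∈ K', orderOf x = 2 → x ∈ lGrp := fun x hx hx2 => by
    obtain ⟨m, hm, rfl⟩ := (invol_cases hK' hN hx hx2).resolve_left hne
    exact mul_mem (mul_mem (hnl hm) (Subgroup.subset_closure (by simp))) (inv_mem (hnl hm))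
  obtain ⟨n1, v1, n2, v2, n3, v3, hsq⟩ := sq_word
  have hconj : ∀ y ∈ K', y * Psl23Max.sq * y⁻¹ ∈ lGrp := fun y hy => by
    have key : ∀ m ∈ nGrp, y * (m * permOf tL * m⁻¹) * y⁻¹ ∈ lGrp := fun m hm => by
      refine hinv _ (mul_mem (mul_mem hy (mul_mem (mul_mem (hN hm) htL) (inv_mem (hN hm)))) (inv_mem hy)) ?_
      rw [← MulAut.conj_apply, MulEquiv.orderOf_eq, ← MulAut.conj_apply, MulEquiv.orderOf_eq, htL2]
    have := mul_mem (mul_mem (key n1 v1) (key n2 v2)) (key n3 v3)
    rw [hsq]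
    simpa [mul_assoc] using this
  let C : Subgroup K' := (Subgroup.centralizer ({Psl23Max.sq} : Set (Equiv.Perm GolayPt))).subgroupOf K'
  have hC : Nat.card C ≤ 11 := by
    have hle : C.map K'.subtype ≤ Subgroup.zpowers Psl23Max.sq := by
      rintro _ ⟨z, hz, rfl⟩
      have hz' : (z : Equiv.Perm GolayPt) * Psl23Max.sq = Psl23Max.sq * z :=
        (Subgroup.mem_centralizer_singleton_iff.mp (Subgroup.mem_subgroupOf.mp hz))
      have hzN : (z : Equiv.Perm GolayPt) ∈ nGrp := by
        refine mem_of_conj (hK' z.2) (k := 1) (by norm_num) ?_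
        rw [mul_assoc, ← hz', inv_mul_cancel_left]
        rfl
      obtain ⟨k, hk, hke⟩ := (nGrp_order hzN).2 hz'
      refine ⟨k, ?_⟩
      show Psl23Max.sq ^ (k : ℤ) = (z : Equiv.Perm GolayPt)
      rw [zpow_natCast, sq_pow, Nat.mod_eq_of_lt hk, hke]
    have := Subgroup.card_le_of_le hle
    rwa [Subgroup.card_map_of_injective K'.subtype_injective, Nat.card_zpowers, orderOf_sq] at this
  have hq : Nat.card (K' ⧸ C) ≤ Nat.card lGrp := by
    refine Nat.card_le_card_of_injective
      (fun q => ⟨(q.out : Equiv.Perm GolayPt) * Psl23Max.sq * (q.out : Equiv.Perm GolayPt)⁻¹, hconj _ q.out.2⟩)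
      fun q r h => ?_
    have h' := congrArg Subtype.val h
    rw [← QuotientGroup.out_eq' q, ← QuotientGroup.out_eq' r, QuotientGroup.eq, Subgroup.mem_subgroupOf,
      Subgroup.mem_centralizer_singleton_iff]
    simp only [Subgroup.coe_mul, Subgroup.coe_inv] at h' ⊢
    rw [mul_inv_eq_iff_eq_mul] at h'
    rw [mul_assoc, inv_mul_eq_iff_eq_mul, ← mul_assoc, ← mul_assoc]
    calc (r.out : Equiv.Perm GolayPt) * Psl23Max.sq = (r.out : Equiv.Perm GolayPt) * Psl23Max.sq := rfl
      _ = _ := by rw [h']; group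
  have h := Subgroup.card_eq_card_quotient_mul_card_subgroup C
  rw [hcard] at h
  have := Nat.mul_le_mul (hq.trans card_lGrp) hC
  omega

/-- No subgroup of index 56 or 210 in any two-point stabiliser. -/
theorem index_ne (p q : GolayPt) (hpq : p ≠ q)
    (H : Subgroup ↥(MulAction.stabilizer M24 p ⊓ MulAction.stabilizer M24 q)) : H.index ≠ 56 ∧ H.index ≠ 210 := by
  have hne0 : (none : GolayPt) ≠ pt 0 := by decide +kernel
  obtain ⟨a, ha, hax⟩ := exists_first' (k := 2) (by norm_num)
    ⟨![p, q], fun i j e => by fin_cases i <;> fin_cases j <;> simp_all [hpq.symm]⟩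
  obtain ⟨b, hb, hbx⟩ := exists_first' (k := 2) (by norm_num)
    ⟨![none, pt 0], fun i j e => by fin_cases i <;> fin_cases j <;> simp_all [hne0.symm]⟩
  have a0 : a (pt 0) = p := hax 0
  have a1 : a (pt 1) = q := hax 1
  have b0 : b (pt 0) = none := hbx 0
  have b1 : b (pt 1) = pt 0 := hbx 1
  have hp : (b * a⁻¹) p = none := by
    rw [Equiv.Perm.mul_apply, ← a0, Equiv.Perm.inv_def, Equiv.symm_apply_apply, b0]
  have hq : (b * a⁻¹) q = pt 0 := by
    rw [Equiv.Perm.mul_apply, ← a1, Equiv.Perm.inv_def, Equiv.symm_apply_apply, b1]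
  let S := MulAction.stabilizer M24 p ⊓ MulAction.stabilizer M24 q
  let f : S →* Equiv.Perm GolayPt := M24.subtype.comp S.subtype
  have hf : Function.Injective f := M24.subtype_injective.comp (Subgroup.subtype_injective _)
  let K : Subgroup (Equiv.Perm GolayPt) := (H.map f).map (MulAut.conj (b * a⁻¹)).toMonoidHom
  have hK : K ≤ Spor.M22 := by
    rintro _ ⟨_, ⟨y, -, rfl⟩, rfl⟩
    have hcM := mul_mem hb (inv_mem ha)
    have hy1 : f y p = p := y.2.1
    have hy2 : f y q = q := y.2.2
    refine mem_M22.mpr ⟨mul_mem (mul_mem hcM y.1.2) (inv_mem hcM), ?_, ?_⟩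
    · show ((b * a⁻¹) * f y * (b * a⁻¹)⁻¹) none = none
      generalize hcdef : b * a⁻¹ = w at hp ⊢
      rw [← hp, Equiv.Perm.mul_apply, Equiv.Perm.mul_apply, Equiv.Perm.inv_def, Equiv.symm_apply_apply, hy1]
    · show ((b * a⁻¹) * f y * (b * a⁻¹)⁻¹) (pt 0) = pt 0
      generalize hcdef : b * a⁻¹ = w at hq ⊢
      rw [← hq, Equiv.Perm.mul_apply, Equiv.Perm.mul_apply, Equiv.Perm.inv_def, Equiv.symm_apply_apply, hy2]
  have hKc : Nat.card K = Nat.card H := by
    rw [Subgroup.card_map_of_injective (MulAut.conj (b * a⁻¹)).injective, Subgroup.card_map_of_injective hf]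
  have h := H.card_mul_index
  have hS : Nat.card S = 443520 := card_stabilizer_two p q hpq
  change Nat.card H * H.index = Nat.card S at h
  rw [hS] at h
  constructor <;> intro e <;> rw [e] at h
  · exact no_subgroup hK (Or.inl (by omega))
  · exact no_subgroup hK (Or.inr (by omega))

end Cfsg.Agent.Spor.Golay.M22Idx
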