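import Cfsg.Agent.Lib.Spor.Golay.CensusClasses
import Cfsg.Agent.Lib.Spor.Golay.CensusPt
import Cfsg.Agent.Lib.Spor.Golay.CensusTools
import Cfsg.Prelude.Def_Spor_Mathieu

/-! Maximality of the affine group 23:11 in the point stabiliser and of the projective group
mod 23 in the group of the length-24 code. -/

set_option autoImplicit false
set_option maxRecDepth 100000
set_option maxHeartbeats 1000000

namespace Cfsg.Agent.Spor.Golay.Psl23Max

open scoped Pointwise
open Census

/-- The octad through the first four positions and the last one. -/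
def octFour : ℕ := 8536111

/-- The map `x ↦ -1/x`, packed. -/
def invP : ℕ := 0x5883388a1c8f5140b46cd317aed7

/-- The two generators of the stabiliser of position 0 carried to position 23. -/
def topG : List ℕ := [0xb90f42aa668b1757d812438500a5a3, 0xb8d27742217d9065b59450892054b3]

/-- Involutions fixing `octFour` pointwise, with the two words giving the members of `topG`. -/
def escW : List (ℕ × List (ℕ × ℕ) × List (ℕ × ℕ)) :=
  [(0xb9e086be3593a6952d94b10a618820, [(8, 4), (6, 15), (4, 6), (0, 0)], [(9, 12), (7, 9), (0, 5), (0, 0)]),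
   (0xb99b28523343aaa4b16f258a718820, [(2, 4), (10, 21), (0, 7), (0, 1)], [(8, 16), (10, 6), (2, 21), (0, 0)]),
   (0xbc92655a2c3b9706cea47d0a818820, [(0, 16), (0, 14), (1, 5), (0, 0)], [(3, 4), (6, 14), (0, 11), (0, 0)]),
   (0xba91094e346b9e63d8955b0a918820, [(3, 22), (4, 5), (9, 15), (0, 0)], [(1, 6), (7, 15), (8, 16), (0, 1)]),
   (0xba64d4562f83a87312d362caa18820, [(9, 18), (10, 2), (3, 17), (0, 0)], [(0, 1), (10, 14), (1, 14), (0, 0)]),
   (0xbb1f3a4232ab916218ed4a8ab18820, [(4, 11), (6, 10), (10, 21), (0, 0)], [(7, 9), (2, 8), (2, 1), (0, 0)]),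
   (0xbae957b6289ba44b1cd0524ac18820, [(3, 21), (0, 9), (6, 12), (0, 1)], [(4, 9), (7, 7), (6, 3), (0, 2)]),
   (0xbc0ea332364b892451ebaccad18820, [(4, 21), (7, 1), (1, 8), (0, 0)], [(7, 7), (6, 7), (7, 4), (0, 0)]),
   (0xbd17661a2a23933ac1a7448af18820, [(9, 15), (3, 3), (1, 22), (0, 1)], [(9, 16), (6, 21), (2, 5), (0, 0)]),
   (0xbb4c93ae2453ac893e8c9d4b018820, [(10, 13), (4, 19), (3, 13), (0, 0)], [(5, 7), (8, 17), (6, 1), (0, 0)]),
   (0xba1474922b3398d85676a3cb218820, [(5, 2), (5, 8), (2, 3), (0, 1)], [(1, 3), (2, 8), (10, 6), (0, 0)]),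
   (0xbd6cb22627638cfa224a834b318820, [(4, 6), (5, 1), (6, 17), (0, 0)], [(4, 13), (5, 18), (9, 17), (0, 1)]),
   (0xbbd8459e29b39559b606920b418820, [(10, 5), (4, 8), (0, 7), (0, 2)], [(5, 14), (7, 12), (1, 0), (0, 0)]),
   (0xbcc8cb2a265b8f47c9096c0b518820, [(10, 6), (8, 19), (8, 13), (0, 0)], [(3, 7), (5, 3), (4, 3), (0, 0)]),
   (0xb926faa22da3a0b6255231cb618820, [(7, 19), (1, 11), (8, 2), (0, 0)], [(5, 6), (8, 15), (1, 9), (0, 0)])]

/-- The affine map `t ↦ 2^k t + b`, packed. -/
def affP (k b : ℕ) : ℕ := pack 24 fun i => if i < 23 then (2 ^ k * i + b) % 23 else 23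

/-- All of them. -/
def affL : List ℕ := (List.range 11).flatMap fun k => (List.range 23).map fun b => affP k b

/-- An element carrying position 23 to position `y`. -/
def repP (y : ℕ) : ℕ :=
  if y = 23 then idP else comp (affP 0 y) invP

/-- The word of a list of exponent pairs around a fixed element. -/
def wordP (T : ℕ) : List (ℕ × ℕ) → ℕ
  | [] => idP
  | [a] => affP a.1 a.2
  | a :: b :: l => comp (affP a.1 a.2) (comp T (wordP T (b :: l)))

theorem aff_checks : (∀ k < 11, ∀ b < 23, inM24 (affP k b) = true) ∧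
    (∀ k < 11, ∀ b < 23, comp (affP 0 1) (affP k b) = affP k ((b + 1) % 23) ∧
      comp (affP 1 0) (affP k b) = affP ((k + 1) % 11) (2 * b % 23)) ∧
    (∀ k < 11, ∀ b < 23, get (affP k b) 0 = b ∧ get (affP k b) 1 = (2 ^ k + b) % 23 ∧
      get (affP k b) 23 = 23) ∧
    affP 0 0 = idP := by decide +kernel

theorem aff_inj : ∀ k < 11, ∀ k' < 11, ∀ b < 23, (2 ^ k + b) % 23 = (2 ^ k' + b) % 23 → k = k' := by
  decide +kernel

theorem aff_fix : ∀ k < 11, ∀ b < 23, k ≠ 0 → ∃ i < 23, get (affP k b) i = i := by decide +kernel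

theorem inv_checks : inM24 invP = true ∧ comp invP invP = idP ∧ get invP 23 = 0 ∧
    (∀ y < 24, valid (repP y) = true ∧ get (repP y) 23 = y) := by decide +kernel

theorem rep_step : ([affP 0 1, affP 1 0, invP].all fun g => (List.range 24).all fun x =>
    affL.any fun b => Nat.beq (comp (repP (get g x)) b) (comp g (repP x))) = true := by decide +kernel

theorem oct_checks : inM24 idP = true ∧ get (affP 0 1) 23 = 23 ∧
    (∀ i < 4, octFour.testBit i = true) ∧
    (octList.all fun m => !m.testBit 23 || affL.any fun b => Nat.beq (imgMask (get b) m) octFour) = true := by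
  decide +kernel

theorem four_cands : ((four idP).all fun P =>
    !((List.range 24).all fun i => !octFour.testBit i || Nat.beq (get P i) i) || Nat.beq P idP ||
      escW.any fun e => Nat.beq e.1 P) = true := by decide +kernel

/-- Whether exponent pairs are in range. -/
def wordOk (l : List (ℕ × ℕ)) : Bool := l.all fun a => decide (a.1 < 11) && decide (a.2 < 23)

theorem esc_checks : (escW.all fun e => valid e.1 && (wordOk e.2.1 && (wordOk e.2.2 &&
    (Nat.beq (wordP e.1 e.2.1) (topG.getD 0 0) && Nat.beq (wordP e.1 e.2.2) (topG.getD 1 0))))) = true := by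
  decide +kernel

theorem top_checks : topG = [comp invP (comp (ptSG.getD 0 0) invP), comp invP (comp (ptSG.getD 1 0) invP)] ∧
    ptSG = [ptSG.getD 0 0, ptSG.getD 1 0] ∧ inM24 (topG.getD 0 0) = true ∧ get (topG.getD 0 0) 23 = 23 ∧
    (affL.all fun b => !Nat.beq b (topG.getD 0 0)) = true := by decide +kernel

theorem aff_canon : ∀ k < 11, ∀ b < 23, pack 24 (get (affP k b)) = affP k b := by decide +kernel

theorem top_canon : pack 24 (get (topG.getD 0 0)) = topG.getD 0 0 := by decide +kernel



theorem wordP_nil (T : ℕ) : wordP T [] = idP := rfl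

theorem wordP_single (T : ℕ) (a : ℕ × ℕ) : wordP T [a] = affP a.1 a.2 := rfl

theorem wordP_cons (T : ℕ) (a b : ℕ × ℕ) (l : List (ℕ × ℕ)) :
    wordP T (a :: b :: l) = comp (affP a.1 a.2) (comp T (wordP T (b :: l))) := rfl

theorem pts_one : pts 1 = {pt 0} := by decide +kernel

theorem rep_last : repP 23 = idP := rfl

theorem get_affP {k b i : ℕ} (hi : i < 24) :
    get (affP k b) i = if i < 23 then (2 ^ k * i + b) % 23 else 23 := by
  refine get_pack 24 _ i hi fun j _ => ?_
  split
  · exact (Nat.mod_lt _ (by norm_num)).trans (by norm_num)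
  · norm_num

/-- The map `t ↦ -t`, packed. -/
def negP : ℕ := pack 24 fun i => if i < 23 then (23 - i) % 23 else 23

theorem get_negP {i : ℕ} (hi : i < 24) : get negP i = if i < 23 then (23 - i) % 23 else 23 := by
  refine get_pack 24 _ i hi fun j _ => ?_
  split
  · exact (Nat.mod_lt _ (by norm_num)).trans (by norm_num)
  · norm_num

theorem neg_check : inM24 negP = false ∧ valid negP = true := by decide +kernel

attribute [local irreducible] affP negP repP wordP comp

theorem valid_of_inM24 {P : ℕ} (h : inM24 P = true) : valid P = true := by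
  simp only [inM24, Bool.and_eq_true] at h
  exact h.1

theorem imgMask_lt24 {P : ℕ} (h : valid P = true) (m : ℕ) : imgMask (get P) m < 2 ^ 24 := by
  refine Nat.lt_pow_two_of_testBit _ fun j hj => ?_
  by_contra hne
  rw [Bool.not_eq_false, testBit_imgMask] at hne
  obtain ⟨k, hk, -, e⟩ := hne
  have := (valid_iff.mp h).2 k hk
  omega

theorem apply_pt {P i j : ℕ} (hP : valid P = true) (hi : i < 24) (h : get P i = j) :
    permOf P (pt i) = pt j := by
  refine idx_injective ?_
  rw [idx_permOf hP, idx_pt hi, h, idx_pt (h ▸ (valid_iff.mp hP).2 i hi)]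

theorem pt_last : pt 23 = (none : GolayPt) := by simp [pt]

theorem fix_none {P : ℕ} (hP : valid P = true) (h : get P 23 = 23) : permOf P none = none := by
  have e := apply_pt (j := 23) hP (i := 23) (by norm_num) h
  rwa [pt_last] at e

theorem mem_M23 {g : Equiv.Perm GolayPt} : g ∈ Spor.M23 ↔ g ∈ M24 ∧ g none = none := Iff.rfl

theorem inM24_of_mem {P : ℕ} (hv : valid P = true) (h : permOf P ∈ M24) : inM24 P = true := by
  rw [inM24, Bool.and_eq_true, List.all_eq_true]
  refine ⟨hv, fun b hb => ?_⟩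
  have h1 := (mem_M24_iff.mp h) b hb
  rw [permOf_smul_pts hv] at h1
  obtain ⟨m, hm, e⟩ := mem_supports.mp h1
  have := pts_injOn (imgMask_lt24 hv b) (codeList_lt hm) e
  rw [this]
  exact mem_codeList.mp hm

theorem aff_valid {k b : ℕ} (hk : k < 11) (hb : b < 23) : valid (affP k b) = true :=
  valid_of_inM24 (aff_checks.1 k hk b hb)

theorem mem_affL {P : ℕ} : P ∈ affL ↔ ∃ k < 11, ∃ b < 23, affP k b = P := by
  simp [affL]

/-- The translation. -/
noncomputable def tr : Equiv.Perm GolayPt := permOf (affP 0 1)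

/-- Multiplication by two. -/
noncomputable def sq : Equiv.Perm GolayPt := permOf (affP 1 0)

/-- The affine group. -/
noncomputable def affGrp : Subgroup (Equiv.Perm GolayPt) := Subgroup.closure {tr, sq}

theorem aff_mem {k b : ℕ} (hk : k < 11) (hb : b < 23) : permOf (affP k b) ∈ affGrp := by
  have htr : tr ∈ affGrp := Subgroup.subset_closure (by simp)
  have hsq : sq ∈ affGrp := Subgroup.subset_closure (by simp)
  have h0 : ∀ k < 11, permOf (affP k 0) ∈ affGrp := by
    intro k
    induction k with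
    | zero => intro _; rw [aff_checks.2.2.2, permOf_idP]; exact one_mem _
    | succ k ih =>
      intro h
      have e := (aff_checks.2.1 k (by omega) 0 (by norm_num)).2
      rw [Nat.mod_eq_of_lt h, Nat.mul_zero, Nat.zero_mod] at e
      rw [← e, permOf_comp (aff_valid (by norm_num) (by norm_num)) (aff_valid (by omega) (by norm_num))]
      exact mul_mem hsq (ih (by omega))
  induction b with
  | zero => exact h0 k hk
  | succ b ih =>
    have e := (aff_checks.2.1 k hk b (by omega)).1
    rw [Nat.mod_eq_of_lt hb] at e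
    rw [← e, permOf_comp (aff_valid (by norm_num) (by norm_num)) (aff_valid hk (by omega))]
    exact mul_mem htr (ih (by omega))

/-- A set with the identity closed under left multiplication by generators contains the group they generate. -/
theorem closure_sub_of_left {G : Type*} [Group G] [Finite G] {S : Set G} {X : Set G} (h1 : (1 : G) ∈ X)
    (h : ∀ s ∈ S, ∀ x ∈ X, s * x ∈ X) {g : G} (hg : g ∈ Subgroup.closure S) : g ∈ X := by
  have hm : g ∈ Submonoid.closure S := by
    rw [← Subgroup.closure_toSubmonoid_of_finite]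
    exact hg
  exact Submonoid.closure_induction_left h1 (fun s hs y _ hy => h s hs y hy) hm

theorem exists_aff {g : Equiv.Perm GolayPt} (hg : g ∈ affGrp) :
    ∃ k < 11, ∃ b < 23, permOf (affP k b) = g := by
  refine closure_sub_of_left (S := {tr, sq}) (X := {g | ∃ k < 11, ∃ b < 23, permOf (affP k b) = g})
    ⟨0, by norm_num, 0, by norm_num, by rw [aff_checks.2.2.2, permOf_idP]⟩ ?_ hg
  rintro s hs x ⟨k, hk, b, hb, rfl⟩
  obtain ⟨e1, e2⟩ := aff_checks.2.1 k hk b hb
  rcases hs with rfl | rfl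
  · exact ⟨k, hk, (b + 1) % 23, Nat.mod_lt _ (by norm_num), by
      rw [← e1, permOf_comp (aff_valid (by norm_num) (by norm_num)) (aff_valid hk hb)]; rfl⟩
  · exact ⟨(k + 1) % 11, Nat.mod_lt _ (by norm_num), 2 * b % 23, Nat.mod_lt _ (by norm_num), by
      rw [← e2, permOf_comp (aff_valid (by norm_num) (by norm_num)) (aff_valid hk hb)]; rfl⟩

theorem affGrp_le : affGrp ≤ Spor.M23 := by
  intro g hg
  obtain ⟨k, hk, b, hb, rfl⟩ := exists_aff hg
  rw [mem_M23]
  exact ⟨permOf_mem_M24 (aff_checks.1 k hk b hb),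
    fix_none (aff_valid hk hb) (aff_checks.2.2.1 k hk b hb).2.2⟩

theorem affGrp_none {g : Equiv.Perm GolayPt} (hg : g ∈ affGrp) : g none = none :=
  (mem_M23.mp (affGrp_le hg)).2

theorem card_affGrp : Nat.card affGrp = 253 := by
  let f : Fin 11 × Fin 23 → affGrp := fun x => ⟨permOf (affP x.1 x.2), aff_mem x.1.2 x.2.2⟩
  have hf : Function.Bijective f := by
    refine ⟨?_, ?_⟩
    · rintro ⟨k, b⟩ ⟨k', b'⟩ h
      have h' : permOf (affP k b) = permOf (affP k' b') := congrArg Subtype.val h
      have e0 : get (affP k b) 0 = get (affP k' b') 0 := by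
        have e := congrArg (fun p : Equiv.Perm GolayPt => idx (p (pt 0))) h'
        rwa [idx_permOf (aff_valid k.2 b.2), idx_permOf (aff_valid k'.2 b'.2), idx_pt (by norm_num)] at e
      have e1 : get (affP k b) 1 = get (affP k' b') 1 := by
        have e := congrArg (fun p : Equiv.Perm GolayPt => idx (p (pt 1))) h'
        rwa [idx_permOf (aff_valid k.2 b.2), idx_permOf (aff_valid k'.2 b'.2), idx_pt (by norm_num)] at e
      obtain ⟨a0, a1, -⟩ := aff_checks.2.2.1 k k.2 b b.2
      obtain ⟨c0, c1, -⟩ := aff_checks.2.2.1 k' k'.2 b' b'.2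
      rw [a0, c0] at e0
      rw [a1, c1, ← e0] at e1
      exact Prod.ext (Fin.ext (aff_inj k k.2 k' k'.2 b b.2 e1)) (Fin.ext e0)
    · rintro ⟨g, hg⟩
      obtain ⟨k, hk, b, hb, e⟩ := exists_aff hg
      exact ⟨(⟨k, hk⟩, ⟨b, hb⟩), Subtype.ext e⟩
  rw [← Nat.card_eq_of_bijective f hf]
  simp

/-- The projective group. -/
noncomputable def projGrp : Subgroup (Equiv.Perm GolayPt) := Subgroup.closure {tr, sq, permOf invP}

theorem affGrp_le_proj : affGrp ≤ projGrp := Subgroup.closure_mono (by
  rintro x (rfl | rfl) <;> simp)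

theorem inv_valid : valid invP = true := valid_of_inM24 inv_checks.1

theorem rep_mem {y : ℕ} (hy : y < 24) : permOf (repP y) ∈ projGrp := by
  unfold repP
  split
  · rw [permOf_idP]; exact one_mem _
  · rw [permOf_comp (aff_valid (by norm_num) (by omega)) inv_valid]
    exact mul_mem (affGrp_le_proj (aff_mem (by norm_num) (by omega))) (Subgroup.subset_closure (by simp))

theorem projGrp_le : projGrp ≤ M24 := by
  rw [projGrp, Subgroup.closure_le]
  rintro x (rfl | rfl | rfl)
  · exact permOf_mem_M24 (aff_checks.1 0 (by norm_num) 1 (by norm_num))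
  · exact permOf_mem_M24 (aff_checks.1 1 (by norm_num) 0 (by norm_num))
  · exact permOf_mem_M24 inv_checks.1

theorem rep_none {y : ℕ} (hy : y < 24) : permOf (repP y) none = pt y := by
  have e := apply_pt (j := y) (inv_checks.2.2.2 y hy).1 (i := 23) (by norm_num) (inv_checks.2.2.2 y hy).2
  rwa [pt_last] at e

/-- Every element is a representative times an affine one. -/
theorem exists_coset {g : Equiv.Perm GolayPt} (hg : g ∈ projGrp) :
    ∃ y < 24, ∃ b ∈ affGrp, g = permOf (repP y) * b := by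
  refine closure_sub_of_left (S := {tr, sq, permOf invP})
    (X := {g | ∃ y < 24, ∃ b ∈ affGrp, g = permOf (repP y) * b})
    ⟨23, by norm_num, 1, one_mem _, by rw [mul_one, rep_last, permOf_idP]⟩ ?_ hg
  rintro s hs x ⟨y, hy, b, hb, rfl⟩
  obtain ⟨G, hG, hGv, rfl⟩ : ∃ G ∈ [affP 0 1, affP 1 0, invP], valid G = true ∧ permOf G = s := by
    rcases hs with rfl | rfl | rfl
    · exact ⟨_, by simp, aff_valid (by norm_num) (by norm_num), rfl⟩
    · exact ⟨_, by simp, aff_valid (by norm_num) (by norm_num), rfl⟩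
    · exact ⟨_, by simp, inv_valid, rfl⟩
  have h := rep_step
  simp only [List.all_eq_true, List.any_eq_true, List.mem_range] at h
  obtain ⟨B, hB, e⟩ := h G hG y hy
  obtain ⟨k, hk, c, hc, rfl⟩ := mem_affL.mp hB
  have hz : get G y < 24 := (valid_iff.mp hGv).2 y hy
  have e' := congrArg permOf (Nat.eq_of_beq_eq_true e)
  rw [permOf_comp (inv_checks.2.2.2 _ hz).1 (aff_valid hk hc),
    permOf_comp hGv (inv_checks.2.2.2 _ hy).1] at e'
  exact ⟨get G y, hz, permOf (affP k c) * b, mul_mem (aff_mem hk hc) hb, by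
    rw [← mul_assoc, ← mul_assoc, e']⟩

theorem coset_none {y : ℕ} (hy : y < 24) {b : Equiv.Perm GolayPt} (hb : b ∈ affGrp) :
    (permOf (repP y) * b) none = pt y := by
  rw [Equiv.Perm.mul_apply, affGrp_none hb, rep_none hy]

theorem card_projGrp : Nat.card projGrp = 6072 := by
  let f : Fin 24 × affGrp → projGrp := fun x =>
    ⟨permOf (repP x.1) * (x.2 : Equiv.Perm GolayPt), mul_mem (rep_mem x.1.2) (affGrp_le_proj x.2.2)⟩
  have hf : Function.Bijective f := by
    refine ⟨?_, ?_⟩
    · rintro ⟨y, b⟩ ⟨y', b'⟩ h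
      have h' : permOf (repP y) * (b : Equiv.Perm GolayPt) = permOf (repP y') * (b' : Equiv.Perm GolayPt) :=
        congrArg Subtype.val h
      have e := congrArg (fun p : Equiv.Perm GolayPt => idx (p none)) h'
      rw [coset_none y.2 b.2, coset_none y'.2 b'.2, idx_pt y.2, idx_pt y'.2] at e
      obtain rfl : y = y' := Fin.ext e
      exact Prod.ext rfl (Subtype.ext (mul_left_cancel h'))
    · rintro ⟨g, hg⟩
      obtain ⟨y, hy, b, hb, rfl⟩ := exists_coset hg
      exact ⟨(⟨y, hy⟩, ⟨b, hb⟩), rfl⟩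
  rw [← Nat.card_eq_of_bijective f hf, Nat.card_prod, card_affGrp]
  simp

theorem stab_proj {g : Equiv.Perm GolayPt} (hg : g ∈ projGrp) (h : g none = none) : g ∈ affGrp := by
  obtain ⟨y, hy, b, hb, rfl⟩ := exists_coset hg
  rw [coset_none hy hb] at h
  obtain rfl : y = 23 := by
    have := congrArg idx h
    rwa [idx_pt hy] at this
  rw [rep_last, permOf_idP, one_mul]
  exact hb

theorem top_not_aff : permOf (topG.getD 0 0) ∈ Spor.M23 ∧ permOf (topG.getD 0 0) ∉ affGrp := by
  obtain ⟨-, -, h1, h2, h3⟩ := top_checks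
  refine ⟨?_, fun h => ?_⟩
  · rw [mem_M23]
    exact ⟨permOf_mem_M24 h1, fix_none (valid_of_inM24 h1) h2⟩
  obtain ⟨k, hk, b, hb, e⟩ := exists_aff h
  have := List.all_eq_true.mp h3 _ (mem_affL.mpr ⟨k, hk, b, hb, rfl⟩)
  have hget : ∀ i < 24, get (affP k b) i = get (topG.getD 0 0) i := fun i hi => by
    have e' := congrArg (fun p : Equiv.Perm GolayPt => idx (p (pt i))) e
    rwa [idx_permOf (aff_valid hk hb), idx_permOf (valid_of_inM24 h1), idx_pt hi] at e'
  have he : affP k b = topG.getD 0 0 := by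
    rw [← aff_canon k hk b hb, ← top_canon]
    exact pack_ext 24 _ _ hget
  simp [he] at this


theorem slope_cases : ∀ c < 23, c ≠ 0 → ∃ d < 23, d * c % 23 = 1 ∧
    ((∃ k < 11, d = 2 ^ k % 23) ∨ ∃ k < 11, 2 ^ k * d % 23 = 22) := by decide +kernel

theorem neg_arith : ∀ k < 11, ∀ d < 23, 2 ^ k * d % 23 = 22 → ∀ b < 23, ∀ i < 23,
    (2 ^ k * ((b + i * d) % 23) + (23 - 2 ^ k * b % 23) % 23) % 23 = (23 - i) % 23 := by decide +kernel

theorem orderOf_tr : orderOf tr = 23 := by
  have : Fact (Nat.Prime 23) := ⟨by norm_num⟩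
  have hp : ∀ n : ℕ, tr ^ n = permOf (affP 0 (n % 23)) := by
    intro n
    induction n with
    | zero => rw [pow_zero, Nat.zero_mod, aff_checks.2.2.2, permOf_idP]
    | succ n ih =>
      have e := (aff_checks.2.1 0 (by norm_num) (n % 23) (Nat.mod_lt _ (by norm_num))).1
      rw [Nat.mod_add_mod] at e
      rw [pow_succ', ih, ← e,
        permOf_comp (aff_valid (by norm_num) (by norm_num)) (aff_valid (by norm_num) (Nat.mod_lt _ (by norm_num)))]
      rfl
  refine orderOf_eq_prime ?_ ?_
  · rw [hp, Nat.mod_self, aff_checks.2.2.2, permOf_idP]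
  · intro e
    have e' := congrArg (fun p : Equiv.Perm GolayPt => idx (p (pt 0))) e
    rw [tr, idx_permOf (aff_valid (by norm_num) (by norm_num)), idx_pt (by norm_num),
      (aff_checks.2.2.1 0 (by norm_num) 1 (by norm_num)).1, Equiv.Perm.one_apply, idx_pt (by norm_num)] at e'
    exact absurd e' (by norm_num)

/-- An element of the stabiliser carrying the translation into the affine group is affine. -/
theorem mem_of_conj {h : Equiv.Perm GolayPt} (hh : h ∈ Spor.M23) (hc : h⁻¹ * tr * h ∈ affGrp) : h ∈ affGrp := by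
  obtain ⟨hM, hn⟩ := mem_M23.mp hh
  obtain ⟨k, hk, c, hcl, e⟩ := exists_aff hc
  have hlt : ∀ i < 23, idx (h (pt i)) < 23 := fun i hi => by
    have h1 := idx_lt (h (pt i))
    rcases Nat.lt_or_ge (idx (h (pt i))) 23 with h2 | h2
    · exact h2
    · exfalso
      have h3 : h (pt i) = h none := by
        rw [hn]
        refine idx_injective ?_
        show idx (h (pt i)) = 23
        omega
      have h4 := congrArg idx (h.injective h3)
      rw [idx_pt (by omega)] at h4
      have h5 : i = 23 := h4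
      omega
  have hkey : ∀ i < 23, idx (h (pt (get (affP k c) i))) = (idx (h (pt i)) + 1) % 23 := by
    intro i hi
    have h1 : h (permOf (affP k c) (pt i)) = tr (h (pt i)) := by
      rw [e]; simp [Equiv.Perm.mul_apply]
    rw [apply_pt (aff_valid hk hcl) (by omega) rfl] at h1
    rw [h1, tr, idx_permOf (aff_valid (by norm_num) (by norm_num)), get_affP (idx_lt _),
      if_pos (hlt i hi), pow_zero, one_mul]
  have hk0 : k = 0 := by
    by_contra hne
    obtain ⟨i, hi, hfix⟩ := aff_fix k hk c hcl hne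
    have := hkey i hi
    rw [hfix] at this
    have := hlt i hi
    omega
  subst hk0
  have hc0 : c ≠ 0 := by
    rintro rfl
    have := hkey 0 (by norm_num)
    rw [aff_checks.2.2.2, get_idP (by norm_num)] at this
    have := hlt 0 (by norm_num)
    omega
  obtain ⟨d, hd, hdc, hd'⟩ := slope_cases c hcl hc0
  have hb := hlt 0 (by norm_num)
  generalize hbe : idx (h (pt 0)) = b at hb
  have hlin : ∀ n : ℕ, idx (h (pt (n * c % 23))) = (b + n) % 23 := by
    intro n
    induction n with
    | zero => simp [hbe, Nat.mod_eq_of_lt hb]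
    | succ n ih =>
      have := hkey (n * c % 23) (Nat.mod_lt _ (by norm_num))
      rw [get_affP (Nat.lt_succ_of_lt (Nat.mod_lt _ (by norm_num))), if_pos (Nat.mod_lt _ (by norm_num)),
        pow_zero, one_mul, ih, Nat.mod_add_mod, Nat.mod_add_mod] at this
      rw [Nat.succ_mul, this, Nat.add_assoc]
  have hval : ∀ i < 23, idx (h (pt i)) = (b + i * d) % 23 := by
    intro i hi
    have := hlin (i * d)
    rwa [Nat.mul_assoc, Nat.mul_mod, hdc, Nat.mul_one, Nat.mod_mod, Nat.mod_eq_of_lt hi] at this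
  rcases hd' with ⟨k, hk, rfl⟩ | ⟨k, hk, hkd⟩
  · have he : h = permOf (affP k b) := by
      refine eq_permOf (aff_valid hk hb) fun i hi => ?_
      rw [get_affP hi]
      rcases Nat.lt_or_ge i 23 with h2 | h2
      · rw [if_pos h2, hval i h2, Nat.add_comm (2 ^ k * i) b, Nat.add_mod b (i * _), Nat.mul_mod i,
          Nat.mod_mod, ← Nat.mul_mod, ← Nat.add_mod, Nat.mul_comm i]
      · obtain rfl : i = 23 := by omega
        rw [if_neg (lt_irrefl _), pt_last, hn]
        rfl
    rw [he]
    exact aff_mem hk hb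
  · exfalso
    have hc' : (23 - 2 ^ k * b % 23) % 23 < 23 := Nat.mod_lt _ (by norm_num)
    have hnv : valid negP = true := neg_check.2
    have he : permOf (affP k ((23 - 2 ^ k * b % 23) % 23)) * h = permOf negP := by
      refine eq_permOf hnv fun i hi => ?_
      rw [Equiv.Perm.mul_apply, idx_permOf (aff_valid hk hc'), get_affP (idx_lt _), get_negP hi]
      rcases Nat.lt_or_ge i 23 with h2 | h2
      · rw [if_pos h2, if_pos (hlt i h2), hval i h2]
        exact neg_arith k hk d hd hkd b hb i h2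
      · obtain rfl : i = 23 := by omega
        rw [if_neg (lt_irrefl _), pt_last, hn]
        rfl
    have hin : inM24 negP = true := inM24_of_mem hnv (he ▸ M24.mul_mem
      (mem_M23.mp (affGrp_le (aff_mem hk hc'))).1 hM)
    have := neg_check.1
    rw [hin] at this
    exact Bool.noConfusion this

/-- An overgroup of the affine group of odd order is the affine group. -/
theorem eq_of_odd {H : Subgroup (Equiv.Perm GolayPt)} (h1 : affGrp ≤ H) (h2 : H ≤ Spor.M23)
    (hodd : ¬ 2 ∣ Nat.card H) : H ≤ affGrp := by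
  have : Fact (Nat.Prime 23) := ⟨by norm_num⟩
  let B : Subgroup H := affGrp.subgroupOf H
  have htr : tr ∈ H := h1 (Subgroup.subset_closure (by simp))
  let t : H := ⟨tr, htr⟩
  have hP : IsPGroup 23 (Subgroup.zpowers t) := IsPGroup.of_card (n := 1) (by
    rw [Nat.card_zpowers, ← Subgroup.orderOf_coe, orderOf_tr, pow_one])
  have hone : Nat.card (MulAction.fixedPoints (Subgroup.zpowers t) (H ⧸ B)) = 1 := by
    refine Nat.card_eq_one_iff_exists.mpr ⟨⟨((1 : H) : H ⧸ B), ?_⟩, ?_⟩
    · rintro ⟨z, hz⟩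
      show ((z * 1 : H) : H ⧸ B) = _
      rw [QuotientGroup.eq, mul_one, mul_one]
      exact inv_mem ((Subgroup.zpowers_le.mpr (show t ∈ B from Subgroup.subset_closure (by simp [t]))) hz)
    · rintro ⟨q, hq⟩
      induction q using QuotientGroup.induction_on with
      | H x =>
        refine Subtype.ext ?_
        have e : ((t * x : H) : H ⧸ B) = (x : H ⧸ B) := hq ⟨t, Subgroup.mem_zpowers t⟩
        rw [eq_comm, QuotientGroup.eq] at e
        rw [QuotientGroup.eq, mul_one]
        refine inv_mem (mem_of_conj (h2 x.2) ?_)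
        rw [mul_assoc]
        exact e
  have hmod := hP.card_modEq_card_fixedPoints (H ⧸ B)
  rw [hone] at hmod
  have hB : Nat.card B = 253 := by
    rw [Nat.card_congr (Subgroup.subgroupOfEquivOfLe h1).toEquiv, card_affGrp]
  have hH : Nat.card H = Nat.card (H ⧸ B) * 253 := by rw [← hB]; exact Subgroup.card_eq_card_quotient_mul_card_subgroup B
  have hd := Subgroup.card_dvd_of_le (h2.trans (inf_le_left : Spor.M23 ≤ M24))
  rw [hH, card_M24, show 244823040 = (2 ^ 10 * 945) * 253 by norm_num,
    Nat.mul_dvd_mul_iff_right (by norm_num)] at hd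
  have hm : ¬ 2 ∣ Nat.card (H ⧸ B) := fun h => hodd (hH ▸ dvd_mul_of_dvd_left h 253)
  have hd' : Nat.card (H ⧸ B) ∣ 945 :=
    (Nat.Coprime.pow_right 10 ((Nat.prime_two.coprime_iff_not_dvd.mpr hm).symm)).dvd_of_dvd_mul_left hd
  have key : ∀ m < 946, m ∣ 945 → m % 23 = 1 → m = 1 := by decide +kernel
  have h1' : Nat.card (H ⧸ B) = 1 :=
    key _ (Nat.lt_succ_of_le (Nat.le_of_dvd (by norm_num) hd')) hd' hmod
  have htop : B = ⊤ := Subgroup.index_eq_one.mp h1'
  exact Subgroup.subgroupOf_eq_top.mp htop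

theorem oct_four_unique {F : Finset GolayPt} (hF : F ∈ octads) (hn : none ∈ F) :
    ∃ b ∈ affGrp, b • F = pts octFour := by
  obtain ⟨m, hm, rfl⟩ := mem_octads.mp hF
  have h := oct_checks.2.2.2
  simp only [List.all_eq_true, Bool.or_eq_true, List.any_eq_true, Bool.not_eq_true'] at h
  rcases h m hm with h' | ⟨b, hb, e⟩
  · have : m.testBit 23 = true := mem_pts.mp hn
    rw [h'] at this
    exact absurd this Bool.false_ne_true
  · obtain ⟨k, hk, c, hc, rfl⟩ := mem_affL.mp hb
    exact ⟨_, aff_mem hk hc, by rw [permOf_smul_pts (aff_valid hk hc), Nat.eq_of_beq_eq_true e]⟩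

theorem word_mem {H : Subgroup (Equiv.Perm GolayPt)} {T : ℕ} (hv : valid T = true) (hT : permOf T ∈ H)
    (hB : affGrp ≤ H) : ∀ l : List (ℕ × ℕ), wordOk l = true →
      valid (wordP T l) = true ∧ permOf (wordP T l) ∈ H := by
  intro l
  induction l with
  | nil => intro _; rw [wordP_nil]; exact ⟨valid_idP, by rw [permOf_idP]; exact one_mem _⟩
  | cons a l ih =>
    intro h
    simp only [wordOk, List.all_cons, Bool.and_eq_true, decide_eq_true_eq] at h
    obtain ⟨⟨ha, hb⟩, hl⟩ := h
    cases l with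
    | nil => rw [wordP_single]; exact ⟨aff_valid ha hb, hB (aff_mem ha hb)⟩
    | cons a' l =>
      obtain ⟨hv', hm'⟩ := ih (by simpa [wordOk] using hl)
      rw [wordP_cons]
      refine ⟨valid_comp (aff_valid ha hb) (valid_comp hv hv'), ?_⟩
      rw [permOf_comp (aff_valid ha hb) (valid_comp hv hv'), permOf_comp hv hv']
      exact mul_mem (hB (aff_mem ha hb)) (mul_mem hT hm')

/-- An overgroup of the affine group with an involution is the whole point stabiliser. -/
theorem eq_of_even {H : Subgroup (Equiv.Perm GolayPt)} (h1 : affGrp ≤ H) (h2 : H ≤ Spor.M23)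
    (hev : 2 ∣ Nat.card H) : Spor.M23 ≤ H := by
  have : Fact (Nat.Prime 2) := ⟨Nat.prime_two⟩
  obtain ⟨⟨t, htH⟩, ht⟩ := exists_prime_orderOf_dvd_card' 2 hev
  have ht2 : orderOf t = 2 := by rw [← ht]; exact (Subgroup.orderOf_coe (⟨t, htH⟩ : H))
  obtain ⟨htM, htn⟩ := mem_M23.mp (h2 htH)
  obtain ⟨k, hk, hcase⟩ := two_classes htM ht2
  rcases hcase with ⟨-, e⟩ | ⟨h0, -⟩
  swap
  · exact absurd htn ((fix_zero_iff t).mp h0 none)
  have hv0 : valid (repTwo.getD 0 0) = true := (rep_two_ok (by rw [two_reps.1]; simp)).1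
  have hk' := fix_conj k t
  rw [e, fix_eq hv0] at hk'
  have hmem : (Finset.univ.filter fun p => t p = p) ∈ octads := by
    rw [show (Finset.univ.filter fun p => t p = p) = k⁻¹ • pts (fixMask (repTwo.getD 0 0)) from
      eq_inv_smul_iff.mpr hk'.symm]
    refine smul_octad (inv_mem hk) ?_
    rw [← octU_setSet]
    exact Orb.mem_setSet_of_has two_reps.2.2.1
  obtain ⟨b, hb, hbF⟩ := oct_four_unique hmem (Finset.mem_filter.mpr ⟨Finset.mem_univ _, htn⟩)
  rw [← fix_conj] at hbF
  have hbM := (mem_M23.mp (affGrp_le hb)).1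
  have hfix : ∀ i < 24, octFour.testBit i = true → (b * t * b⁻¹) (pt i) = pt i := fun i hi hb' => by
    have : pt i ∈ pts octFour := by rw [mem_pts, idx_pt hi]; exact hb'
    rw [← hbF] at this
    exact (Finset.mem_filter.mp this).2
  obtain ⟨P, hP, hv, hPe⟩ := mem_four oct_checks.1 (g := b * t * b⁻¹)
    (mul_mem (mul_mem hbM htM) (inv_mem hbM)) fun i hi => by
      rw [permOf_idP, Equiv.Perm.one_apply]
      exact hfix i (by omega) (oct_checks.2.2.1 i hi)
  have hc := four_cands
  simp only [List.all_eq_true, Bool.or_eq_true, List.any_eq_true, Bool.not_eq_true'] at hc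
  rcases hc P hP with (h | h) | ⟨w, hw, hwP⟩
  · exfalso
    have : ((List.range 24).all fun i => !octFour.testBit i || Nat.beq (get P i) i) = true := by
      simp only [List.all_eq_true, List.mem_range, Bool.or_eq_true, Bool.not_eq_true']
      intro i hi
      rcases hbit : octFour.testBit i with - | -
      · exact Or.inl rfl
      · refine Or.inr ?_
        have e' := congrArg idx (hfix i hi hbit)
        rw [← hPe, idx_permOf hv, idx_pt hi] at e'
        rw [e']
        exact Nat.beq_refl i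
    rw [h] at this
    exact Bool.false_ne_true this
  · exfalso
    have h' := Nat.eq_of_beq_eq_true h
    rw [h', permOf_idP, eq_comm, mul_inv_eq_one] at hPe
    have : t = 1 := mul_left_cancel (hPe.trans (mul_one b).symm)
    simp [this] at ht2
  · obtain rfl : w.1 = P := Nat.eq_of_beq_eq_true hwP
    have hPH : permOf w.1 ∈ H := by
      rw [hPe]; exact mul_mem (mul_mem (h1 hb) htH) (inv_mem (h1 hb))
    have hchk := esc_checks
    simp only [List.all_eq_true, Bool.and_eq_true] at hchk
    obtain ⟨-, hw1, hw2, e1, e2⟩ := hchk w hw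
    obtain ⟨-, m1⟩ := word_mem hv hPH h1 w.2.1 hw1
    obtain ⟨-, m2⟩ := word_mem hv hPH h1 w.2.2 hw2
    rw [Nat.eq_of_beq_eq_true e1] at m1
    rw [Nat.eq_of_beq_eq_true e2] at m2
    obtain ⟨etop, eps, -⟩ := top_checks
    obtain ⟨hvs, hFx, -⟩ := stagePt
    have hi := inv_valid
    have hgen : ∀ s ∈ ptSG, permOf invP * permOf s * permOf invP ∈ H := by
      intro s hs
      rw [eps, List.mem_cons, List.mem_singleton] at hs
      have hvs' : valid s = true := by
        refine List.all_eq_true.mp hvs s ?_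
        rw [eps, List.mem_cons, List.mem_singleton]; exact hs
      rw [mul_assoc, ← permOf_comp hvs' hi, ← permOf_comp hi (valid_comp hvs' hi)]
      rw [etop] at m1 m2
      rcases hs with rfl | rfl
      · exact m1
      · exact m2
    intro g hg
    obtain ⟨hgM, hgn⟩ := mem_M23.mp hg
    have hw0 : permOf invP * permOf invP = 1 := by
      rw [← permOf_comp hi hi, inv_checks.2.1, permOf_idP]
    have hwi : (permOf invP)⁻¹ = permOf invP := inv_eq_of_mul_eq_one_right hw0
    have hwn : permOf invP none = pt 0 := by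
      have := apply_pt (j := 0) hi (i := 23) (by norm_num) inv_checks.2.2.1
      rwa [pt_last] at this
    have hw1' : permOf invP (pt 0) = none := by
      rw [← hwn, ← Equiv.Perm.mul_apply, hw0, Equiv.Perm.one_apply]
    have hmemFx : permOf invP * g * permOf invP ∈ Fx [[1]] := by
      have hwM := permOf_mem_M24 inv_checks.1
      rw [mem_Fx_one, smul_fam_single]
      refine ⟨mul_mem (mul_mem hwM hgM) hwM, ?_⟩
      rw [pts_one, Finset.smul_finset_singleton, Equiv.Perm.smul_def, Equiv.Perm.mul_apply,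
        Equiv.Perm.mul_apply, hw1', hgn, hwn]
    rw [hFx] at hmemFx
    have hle : grp ptSG ≤ H.comap (MulAut.conj (permOf invP)).toMonoidHom := by
      rw [grp, Subgroup.closure_le]
      rintro x ⟨s, hs, rfl⟩
      show permOf invP * permOf s * (permOf invP)⁻¹ ∈ H
      rw [hwi]
      exact hgen s hs
    have := hle hmemFx
    change permOf invP * (permOf invP * g * permOf invP) * (permOf invP)⁻¹ ∈ H at this
    rwa [hwi, ← mul_assoc, ← mul_assoc, hw0, one_mul, mul_assoc, hw0, mul_one] at this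

/-- The affine group is maximal in the point stabiliser. -/
theorem affGrp_max {H : Subgroup (Equiv.Perm GolayPt)} (h1 : affGrp ≤ H) (h2 : H ≤ Spor.M23) :
    H = affGrp ∨ H = Spor.M23 := by
  by_cases hev : 2 ∣ Nat.card H
  · exact Or.inr (le_antisymm h2 (eq_of_even h1 h2 hev))
  · exact Or.inl (le_antisymm (eq_of_odd h1 h2 hev) h1)

/-- The projective group is maximal. -/
theorem projGrp_max {H : Subgroup (Equiv.Perm GolayPt)} (h1 : projGrp ≤ H) (h2 : H ≤ M24) :
    H = projGrp ∨ H = M24 := by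
  have hle : affGrp ≤ H ⊓ Spor.M23 := le_inf (affGrp_le_proj.trans h1) affGrp_le
  have hsplit : ∀ g ∈ M24, ∃ r ∈ projGrp, r⁻¹ * g ∈ Spor.M23 := by
    intro g hg
    have hy := idx_lt (g none)
    refine ⟨permOf (repP (idx (g none))), rep_mem hy,
      mem_M23.mpr ⟨mul_mem (inv_mem (projGrp_le (rep_mem hy))) hg, ?_⟩⟩
    rw [Equiv.Perm.mul_apply, Equiv.Perm.inv_eq_iff_eq, rep_none hy, pt_idx]
  rcases affGrp_max hle inf_le_right with h | h
  · refine Or.inl (le_antisymm (fun g hg => ?_) h1)
    obtain ⟨r, hr, hr'⟩ := hsplit g (h2 hg)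
    have : r⁻¹ * g ∈ affGrp := h ▸ Subgroup.mem_inf.mpr ⟨mul_mem (inv_mem (h1 hr)) hg, hr'⟩
    have h3 := mul_mem hr (affGrp_le_proj this)
    rwa [mul_inv_cancel_left] at h3
  · refine Or.inr (le_antisymm h2 fun g hg => ?_)
    obtain ⟨r, hr, hr'⟩ := hsplit g hg
    have : r⁻¹ * g ∈ H := (inf_eq_right.mp h) hr'
    have h3 := mul_mem (h1 hr) this
    rwa [mul_inv_cancel_left] at h3

theorem mulLeft_check : ∀ r : ZMod 23, r ≠ 0 → ∃ k < 11, ∀ i < 24,
    idx (Option.map (fun x => r * r * x) (pt i)) = get (affP k 0) i := by decide +kernel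

theorem gen_checks : (∀ i < 24, idx (Option.map (fun x => x + (1 : ZMod 23)) (pt i)) = get (affP 0 1) i) ∧
    (∀ i < 24, idx (Option.map (fun x => (5 * 5 : ZMod 23) * x) (pt i)) = get (affP 1 0) i) ∧
    (∀ i < 24, idx (projInvFun (pt i)) = get invP i) ∧ (5 : ZMod 23) * 14 = 1 := by decide +kernel

theorem tr_eq : (Equiv.optionCongr (Equiv.addRight (1 : ZMod 23)) : Equiv.Perm GolayPt) = tr :=
  eq_permOf (aff_valid (by norm_num) (by norm_num)) fun i hi => by
    rw [← gen_checks.1 i hi]; cases pt i <;> rfl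

theorem projInv_eq : projInv = permOf invP :=
  eq_permOf inv_valid fun i hi => gen_checks.2.2.1 i hi

/-- The multiplications by squares. -/
def sqMaps : Set (Equiv.Perm GolayPt) :=
  {g | ∃ u : (ZMod 23)ˣ, IsSquare u ∧ g = Equiv.optionCongr (Units.mulLeft u)}

theorem sqMaps_sub {g : Equiv.Perm GolayPt} (hg : g ∈ sqMaps) : g ∈ affGrp := by
  obtain ⟨u, ⟨r, rfl⟩, rfl⟩ := hg
  have : Fact (Nat.Prime 23) := ⟨by norm_num⟩
  obtain ⟨k, hk, h⟩ := mulLeft_check (r : ZMod 23) r.ne_zero
  rw [eq_permOf (σ := Equiv.optionCongr (Units.mulLeft (r * r))) (P := affP k 0)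
    (aff_valid hk (by norm_num)) fun i hi => by rw [← h i hi]; cases pt i <;> rfl]
  exact aff_mem hk (by norm_num)

theorem sq_mem : sq ∈ sqMaps := by
  let v : (ZMod 23)ˣ := ⟨5, 14, gen_checks.2.2.2, (mul_comm (14 : ZMod 23) 5).trans gen_checks.2.2.2⟩
  exact ⟨v * v, ⟨v, rfl⟩, (eq_permOf (aff_valid (by norm_num) (by norm_num)) fun i hi => by
    rw [← gen_checks.2.1 i hi]; cases pt i <;> rfl).symm⟩

theorem closure_proj : Subgroup.closure
    ({Equiv.optionCongr (Equiv.addRight (1 : ZMod 23)), projInv} ∪ sqMaps) = projGrp := by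
  rw [tr_eq, projInv_eq]
  refine le_antisymm ((Subgroup.closure_le _).mpr ?_) ((Subgroup.closure_le _).mpr ?_)
  · rintro x ((rfl | rfl) | h)
    · exact Subgroup.subset_closure (by simp)
    · exact Subgroup.subset_closure (by simp)
    · exact affGrp_le_proj (sqMaps_sub h)
  · rintro x (rfl | rfl | rfl)
    · exact Subgroup.subset_closure (by simp)
    · exact Subgroup.subset_closure (Or.inr sq_mem)
    · exact Subgroup.subset_closure (by simp)

theorem closure_aff : Subgroup.closure
    ({Equiv.optionCongr (Equiv.addRight (1 : ZMod 23))} ∪ sqMaps) = affGrp := by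
  rw [tr_eq]
  refine le_antisymm ((Subgroup.closure_le _).mpr ?_) ((Subgroup.closure_le _).mpr ?_)
  · rintro x (rfl | h)
    · exact Subgroup.subset_closure (by simp)
    · exact sqMaps_sub h
  · rintro x (rfl | rfl)
    · exact Subgroup.subset_closure (by simp)
    · exact Subgroup.subset_closure (Or.inr sq_mem)

theorem coatom_proj : IsCoatom (projGrp.subgroupOf M24) := by
  refine ⟨fun h => ?_, fun H hH => ?_⟩
  · obtain ⟨h1, h2⟩ := top_not_aff
    obtain ⟨hM, hn⟩ := mem_M23.mp h1
    exact h2 (stab_proj (Subgroup.subgroupOf_eq_top.mp h hM) hn)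
  · have hmap : H.map M24.subtype ≤ M24 := by
      rintro x ⟨y, -, rfl⟩; exact y.2
    have hle : projGrp ≤ H.map M24.subtype := fun x hx =>
      ⟨⟨x, projGrp_le hx⟩, hH.le (Subgroup.mem_subgroupOf.mpr hx), rfl⟩
    rcases projGrp_max hle hmap with h | h
    · refine absurd (le_antisymm hH.le fun y hy => ?_) hH.ne
      rw [Subgroup.mem_subgroupOf, ← h]
      exact ⟨y, hy, rfl⟩
    · rw [eq_top_iff]
      rintro ⟨x, hx⟩ -
      rw [← h] at hx
      obtain ⟨y, hy, hyx⟩ := hx
      have hy' : (⟨x, h ▸ ⟨y, hy, hyx⟩⟩ : M24) = y := Subtype.ext hyx.symm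
      exact hy' ▸ hy

theorem coatom_aff :
    IsCoatom ((affGrp.subgroupOf M24).subgroupOf (MulAction.stabilizer M24 (none : GolayPt))) := by
  have hval : ∀ y : MulAction.stabilizer M24 (none : GolayPt),
      (y.1 : Equiv.Perm GolayPt) ∈ Spor.M23 := fun y =>
    mem_M23.mpr ⟨y.1.2, MulAction.mem_stabilizer_iff.mp y.2⟩
  refine ⟨fun h => ?_, fun H hH => ?_⟩
  · obtain ⟨h1, h2⟩ := top_not_aff
    obtain ⟨hM, hn⟩ := mem_M23.mp h1
    have := Subgroup.subgroupOf_eq_top.mp h
      (show (⟨_, hM⟩ : M24) ∈ MulAction.stabilizer M24 (none : GolayPt) from hn)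
    exact h2 (Subgroup.mem_subgroupOf.mp this)
  · let f : MulAction.stabilizer M24 (none : GolayPt) →* Equiv.Perm GolayPt :=
      M24.subtype.comp (MulAction.stabilizer M24 (none : GolayPt)).subtype
    have hf : Function.Injective f := M24.subtype_injective.comp (Subgroup.subtype_injective _)
    have hmap : H.map f ≤ Spor.M23 := by
      rintro x ⟨y, -, rfl⟩; exact hval y
    have hle : affGrp ≤ H.map f := fun x hx => by
      obtain ⟨hM, hn⟩ := mem_M23.mp (affGrp_le hx)
      exact ⟨⟨⟨x, hM⟩, hn⟩, hH.le (show x ∈ affGrp from hx), rfl⟩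
    rcases affGrp_max hle hmap with h | h
    · refine absurd (le_antisymm hH.le fun y hy => ?_) hH.ne
      show (y.1 : Equiv.Perm GolayPt) ∈ affGrp
      rw [← h]
      exact ⟨y, hy, rfl⟩
    · rw [eq_top_iff]
      intro y _
      obtain ⟨z, hz, hzy⟩ : (y.1 : Equiv.Perm GolayPt) ∈ H.map f := h ▸ hval y
      obtain rfl : z = y := hf hzy
      exact hz

theorem main : (projGrp ≤ M24 ∧ Nat.card projGrp = 6072 ∧ IsCoatom (projGrp.subgroupOf M24)) ∧
    (affGrp ≤ M24 ⊓ MulAction.stabilizer (Equiv.Perm GolayPt) (none : GolayPt) ∧ Nat.card affGrp = 253 ∧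
      IsCoatom ((affGrp.subgroupOf M24).subgroupOf (MulAction.stabilizer M24 (none : GolayPt)))) :=
  ⟨⟨projGrp_le, card_projGrp, coatom_proj⟩, ⟨affGrp_le, card_affGrp, coatom_aff⟩⟩

end Cfsg.Agent.Spor.Golay.Psl23Max
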