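import Cfsg.Agent.Lib.Spor.Golay.CensusNested
import Cfsg.Agent.Lib.Spor.Golay.CensusQuartData

/-! The hexads and quartets of the standard dodecad as orbits. -/

set_option autoImplicit false
set_option maxRecDepth 100000

namespace Cfsg.Agent.Spor.Golay.Census

open scoped Pointwise

/-- Membership among the hexads, for the kernel. -/
noncomputable def isHex (m : ℕ) : Bool := List.rec false (fun a _ r => Nat.beq a m || r) hexList

theorem isHex_mem {m : ℕ} : isHex m = true ↔ m ∈ hexList := by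
  have : ∀ L : List ℕ, (List.rec false (fun a _ r => Nat.beq a m || r) L : Bool) = true ↔ m ∈ L := by
    intro L
    induction L with
    | nil => simp
    | cons a L ih =>
      show (Nat.beq a m || _) = true ↔ _
      rw [Bool.or_eq_true, List.mem_cons, ih]
      exact or_congr_left ⟨fun h => (Nat.eq_of_beq_eq_true h).symm, fun h => by subst h; exact Nat.beq_refl m⟩
  exact this hexList

theorem hex_complete : partSetOk octU (fun m => Nat.beq (pop (m &&& dd)) 6 && !isHex (m &&& dd)) (fun _ => 0) [] = true := by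
  decide +kernel

theorem hex_sound : ((hexList.zip hexWit).all fun p =>
    octU.has [p.2] && Nat.beq (p.2 &&& dd) p.1 && Nat.beq (pop p.1) 6) = true ∧
    hexList.length = hexWit.length ∧ (hexList.all fun h => hexadU.has [h] && Nat.blt h 16777216) = true := by decide +kernel

theorem hexadsOn_dd {s : Finset GolayPt} : s ∈ hexadsOn (pts dd) ↔ ∃ m ∈ hexList, pts m = s := by
  obtain ⟨h1, h2, -⟩ := hex_sound
  constructor
  · rintro ⟨hc, o, ho, rfl⟩
    rw [← octU_setSet] at ho
    obtain ⟨m, -, rfl⟩ := exists_mask o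
    rw [pts_inter]
    refine ⟨_, ?_, rfl⟩
    by_contra hne
    obtain ⟨-, h⟩ := parts_raw hex_complete (fun z => (z ∩ pts dd).card = 6 ∧ ∀ k, pts k = z ∩ pts dd → k < 2 ^ 24 → k ∉ hexList)
      (fun _ => 0) (fun k _ => by
        rw [Bool.and_eq_true, Bool.not_eq_true', pts_inter, card_pts]
        constructor
        · rintro ⟨a, b⟩
          refine ⟨Nat.eq_of_beq_eq_true a, fun j hj hj2 hj3 => ?_⟩
          rw [pts_injOn hj2 (lt_of_le_of_lt Nat.and_le_right (by decide +kernel)) hj] at hj3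
          rw [isHex_mem.mpr hj3] at b
          exact absurd b (by simp)
        · rintro ⟨a, b⟩
          refine ⟨by rw [a]; decide, ?_⟩
          by_contra hne
          exact b _ rfl (lt_of_le_of_lt Nat.and_le_right (by decide +kernel)) (isHex_mem.mp (Bool.eq_true_of_not_eq_false hne)))
      (fun _ _ => rfl)
    obtain ⟨p, hp, -⟩ := h _ ho ⟨hc, fun k hk hk2 hk3 => hne (by
      rw [pts_inter] at hk
      rwa [pts_injOn hk2 (lt_of_le_of_lt Nat.and_le_right (by decide +kernel)) hk] at hk3)⟩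
    exact absurd hp List.not_mem_nil
  · rintro ⟨m, hm, rfl⟩
    obtain ⟨i, hi, rfl⟩ := List.getElem_of_mem hm
    have hz : (hexList[i], hexWit[i]'(h2 ▸ hi)) ∈ hexList.zip hexWit := by
      have hi' : i < (hexList.zip hexWit).length := by rw [List.length_zip]; omega
      have := List.getElem_mem hi'
      rwa [List.getElem_zip] at this
    have h := List.all_eq_true.mp h1 _ hz
    simp only [Bool.and_eq_true] at h
    refine ⟨by rw [card_pts]; exact Nat.eq_of_beq_eq_true h.2, pts (hexWit[i]'(h2 ▸ hi)), ?_, ?_⟩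
    · rw [← octU_setSet]; exact Orb.mem_setSet_of_has h.1.1
    · rw [pts_inter, Nat.eq_of_beq_eq_true h.1.2]

theorem smul_hexad {g : Equiv.Perm GolayPt} (hg : g ∈ M24) {d h : Finset GolayPt} (hh : h ∈ hexadsOn d) :
    g • h ∈ hexadsOn (g • d) := by
  obtain ⟨hc, o, ho, rfl⟩ := hh
  exact ⟨by rw [Finset.card_smul_finset, hc], g • o, smul_octad hg ho, Finset.smul_finset_inter.symm⟩

theorem smul_quartet {g : Equiv.Perm GolayPt} (hg : g ∈ M24) {d : Finset GolayPt} {Q : Finset (Finset GolayPt)}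
    (hQ : Q ∈ quartets d) : g • Q ∈ quartets (g • d) := by
  refine ⟨by rw [Finset.card_smul_finset, hQ.1], fun t ht => ?_, fun t ht u hu hne => ?_⟩
  · obtain ⟨s, hs, rfl⟩ := Finset.mem_smul_finset.mp ht
    exact ⟨by rw [Finset.card_smul_finset, (hQ.2.1 s hs).1], Finset.smul_finset_subset_smul_finset (hQ.2.1 s hs).2⟩
  · obtain ⟨s, hs, rfl⟩ := Finset.mem_smul_finset.mp ht
    obtain ⟨r, hr, rfl⟩ := Finset.mem_smul_finset.mp hu
    rw [← Finset.smul_finset_union]
    exact smul_hexad hg (hQ.2.2 s hs r hr fun e => hne (by rw [e]))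

theorem quartets_smul {a : Equiv.Perm GolayPt} (ha : a ∈ M24) {d : Finset GolayPt} {Q : Finset (Finset GolayPt)} :
    Q ∈ quartets (a • d) ↔ a⁻¹ • Q ∈ quartets d :=
  ⟨fun h => by simpa using smul_quartet (inv_mem ha) h, fun h => by simpa using smul_quartet ha h⟩

/-- The standard quartet. -/
def quart0 : List ℕ := [7, 152, 40992, 458752]

theorem quart0_checks : (quart0.all fun a => Nat.beq (pop a) 3 && Nat.beq (a &&& dd) a && Nat.blt a 16777216) = true ∧
    (quart0.all fun a => quart0.all fun b => Nat.beq a b || isHex (a ||| b)) = true ∧ quart0.Nodup := by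
  decide +kernel

theorem quart0_mem : fam quart0 ∈ quartets (pts dd) := by
  obtain ⟨h1, h2, h3⟩ := quart0_checks
  simp only [List.all_eq_true, Bool.and_eq_true, Bool.or_eq_true] at h1 h2
  refine ⟨?_, fun t ht => ?_, fun t ht u hu hne => ?_⟩
  · rw [fam, List.toFinset_card_of_nodup ((List.nodup_map_iff_inj_on h3).mpr fun a ha b hb e =>
      pts_injOn (lt_of_blt (h1 a ha).2) (lt_of_blt (h1 b hb).2) e), List.length_map]
    rfl
  · obtain ⟨a, ha, rfl⟩ := List.mem_map.mp (List.mem_toFinset.mp ht)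
    exact ⟨by rw [card_pts]; exact Nat.eq_of_beq_eq_true (h1 a ha).1.1,
      (pts_subset_iff (lt_of_blt (h1 a ha).2)).mpr (Nat.eq_of_beq_eq_true (h1 a ha).1.2)⟩
  · obtain ⟨a, ha, rfl⟩ := List.mem_map.mp (List.mem_toFinset.mp ht)
    obtain ⟨b, hb, rfl⟩ := List.mem_map.mp (List.mem_toFinset.mp hu)
    rcases h2 a ha b hb with e | e
    · exact absurd (by rw [Nat.eq_of_beq_eq_true e]) hne
    · exact hexadsOn_dd.mpr ⟨_, isHex_mem.mp e, (pts_union a b).symm⟩

/-- The triples making hexads with the standard one. -/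
def quartetCands : List ℕ := (hexList.filter fun h => h &&& 7 == 7).map fun h => h ^^^ 7

/-- Whether two candidates fit together. -/
noncomputable def fits (u v : ℕ) : Bool := !Nat.beq u v && isHex (u ||| v)

theorem cand_check : (quartetCands.all fun u => quartetCands.all fun v => !fits u v ||
    quartetCands.all fun w => !(fits u w && fits v w) || quartU.has (srtF [7, u, v, w])) = true := by decide +kernel

theorem exists_triple_dd {t : Finset GolayPt} (h3 : t.card = 3) (hd : t ⊆ pts dd) :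
    ∃ g ∈ Fx [[499903]], g • pts 7 = t := by
  obtain ⟨p, q, r, hpq, hpr, hqr, rfl⟩ := Finset.card_eq_three.mp h3
  have mem : ∀ {g : Equiv.Perm GolayPt}, g ∈ Fx [[499903]] → ∀ s, s ∈ pts dd → Nat.testBit 499903 (idx (g⁻¹ • s)) = true := by
    intro g hg s hs
    rw [← mem_pts, Finset.inv_smul_mem_iff, (smul_fam_single _).mp ((mem_Fx.mp hg).2 _ (List.mem_singleton_self _))]
    exact hs
  have nidx : ∀ (b : Equiv.Perm GolayPt) (s t : GolayPt) (i : ℕ), b (pt i) = t → s ≠ t → idx (b⁻¹ • s) ≠ i :=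
    fun b s t i ht hst he => hst (by rw [← ht, ← he, pt_idx]; exact (smul_inv_smul b s).symm)
  obtain ⟨g1, hg1, e1⟩ := exists_point stageDod dodPtU_ok (i := 0) (by norm_num) dodPtU_zero.1
    (cond := fun j => Nat.testBit 499903 j) (by decide +kernel) (q := p)
    (mem_pts.mp (hd (by simp)))
  obtain ⟨g2, hg2, e2⟩ := exists_point stageDodPt dodPt2U_ok (i := 1) (by norm_num) dodPt2U_zero.1
    (cond := fun j => Nat.testBit 499903 j && j != 0) (by decide +kernel) (q := g1⁻¹ • q)
    (Bool.and_eq_true_iff.mpr ⟨mem hg1 q (hd (by simp)), bne_iff_ne.mpr (nidx g1 q p 0 e1 hpq.symm)⟩)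
  have hb : g1 * g2 ∈ Fx [[499903]] := mul_mem hg1 (mem_Fx.mpr ⟨(mem_Fx.mp hg2).1, fun L hL => (mem_Fx.mp hg2).2 L (by simp_all)⟩)
  have bp : (g1 * g2) (pt 0) = p := by rw [Equiv.Perm.mul_apply, fix_point (i := 0) hg2 (by norm_num) (by simp), e1]
  have bq : (g1 * g2) (pt 1) = q := by rw [Equiv.Perm.mul_apply, e2]; exact smul_inv_smul g1 q
  obtain ⟨g3, hg3, e3⟩ := exists_point stageDodPt2 dodPt3U_ok (i := 2) (by norm_num) dodPt3U_zero.1
    (cond := fun j => Nat.testBit 499903 j && j != 0 && j != 1) (by decide +kernel) (q := (g1 * g2)⁻¹ • r)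
    (Bool.and_eq_true_iff.mpr ⟨Bool.and_eq_true_iff.mpr ⟨mem hb r (hd (by simp)),
      bne_iff_ne.mpr (nidx _ r p 0 bp hpr.symm)⟩, bne_iff_ne.mpr (nidx _ r q 1 bq hqr.symm)⟩)
  refine ⟨g1 * g2 * g3, mul_mem hb (mem_Fx.mpr ⟨(mem_Fx.mp hg3).1, fun L hL => (mem_Fx.mp hg3).2 L (by simp_all)⟩), ?_⟩
  have h7 : pts 7 = {pt 0, pt 1, pt 2} := by decide +kernel
  rw [h7, Finset.smul_finset_insert, Finset.smul_finset_insert, Finset.smul_finset_singleton]
  simp only [Equiv.Perm.smul_def]
  rw [Equiv.Perm.mul_apply (g1 * g2), Equiv.Perm.mul_apply (g1 * g2), Equiv.Perm.mul_apply (g1 * g2),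
    fix_point (i := 0) hg3 (by norm_num) (by simp), fix_point (i := 1) hg3 (by norm_num) (by simp), bp, bq, e3]
  rw [show (g1 * g2) ((g1 * g2)⁻¹ • r) = r from smul_inv_smul (g1 * g2) r]

theorem quartets_dd : quartets (pts dd) = quartU.famSet := by
  refine Set.Subset.antisymm (fun Q hQ => ?_) ?_
  · obtain ⟨t, ht⟩ : Q.Nonempty := Finset.card_pos.mp (by rw [hQ.1]; norm_num)
    obtain ⟨g, hg, rfl⟩ := exists_triple_dd (hQ.2.1 t ht).1 (hQ.2.1 t ht).2
    have hgd : g • pts dd = pts dd := (smul_fam_single _).mp ((mem_Fx.mp hg).2 _ (List.mem_singleton_self _))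
    have hQ' : g⁻¹ • Q ∈ quartets (pts dd) := (quartets_smul (mem_Fx.mp hg).1).mp (by rwa [hgd])
    suffices g⁻¹ • Q ∈ quartU.famSet by simpa using stageDod.smul_famSet quartU_ok hg this
    generalize hR : g⁻¹ • Q = R at hQ'
    have h7 : pts 7 ∈ R := by rw [← hR, Finset.mem_inv_smul_finset_iff]; exact ht
    obtain ⟨u, v, w, huv, huw, hvw, he⟩ := Finset.card_eq_three.mp
      (show (R.erase (pts 7)).card = 3 by rw [Finset.card_erase_of_mem h7, hQ'.1])
    have inR : ∀ x ∈ R.erase (pts 7), ∃ m ∈ quartetCands, pts m = x := by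
      intro x hx
      obtain ⟨hne, hxR⟩ := Finset.mem_erase.mp hx
      obtain ⟨k, hk, e⟩ := hexadsOn_dd.mp (hQ'.2.2 (pts 7) h7 x hxR (Ne.symm hne))
      have hk24 : k < 2 ^ 24 := lt_of_blt (Bool.and_eq_true_iff.mp (List.all_eq_true.mp hex_sound.2.2 k hk)).2
      have hdis : Disjoint (pts 7) x := by
        rw [← Finset.card_union_eq_card_add_card, (hQ'.2.1 x hxR).1, (hQ'.2.1 _ h7).1]
        exact (hQ'.2.2 (pts 7) h7 x hxR (Ne.symm hne)).1
      have h7k : k &&& 7 = 7 := by
        rw [Nat.land_comm]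
        exact (pts_subset_iff (by norm_num)).mp (by rw [e]; exact Finset.subset_union_left)
      refine ⟨k ^^^ 7, List.mem_map.mpr ⟨k, List.mem_filter.mpr ⟨hk, by simp [h7k]⟩, rfl⟩, ?_⟩
      rw [← pts_symmDiff, e, symmDiff_comm]
      ext p
      simp only [Finset.mem_symmDiff, Finset.mem_union]
      have hh : p ∈ pts 7 → p ∉ x := fun h => Finset.disjoint_left.mp hdis h
      tauto
    obtain ⟨mu, hmu, eu⟩ := inR u (by rw [he]; simp)
    obtain ⟨mv, hmv, ev⟩ := inR v (by rw [he]; simp)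
    obtain ⟨mw, hmw, ew⟩ := inR w (by rw [he]; simp)
    have hfit : ∀ {a b : ℕ} {x y : Finset GolayPt}, a ∈ quartetCands → b ∈ quartetCands → pts a = x → pts b = y → x ≠ y →
        x ∈ R → y ∈ R → fits a b = true := by
      intro a b x y ha hb ea eb hne hx hy
      obtain ⟨k, hk, e⟩ := hexadsOn_dd.mp (hQ'.2.2 x hx y hy hne)
      have lt : ∀ {c : ℕ}, c ∈ quartetCands → c < 2 ^ 24 := by
        intro c hc
        obtain ⟨h, hh, rfl⟩ := List.mem_map.mp hc
        exact Nat.xor_lt_two_pow (lt_of_blt (Bool.and_eq_true_iff.mp (List.all_eq_true.mp hex_sound.2.2 h (List.mem_filter.mp hh).1)).2) (by norm_num)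
      have hk24 : k < 2 ^ 24 := lt_of_blt (Bool.and_eq_true_iff.mp (List.all_eq_true.mp hex_sound.2.2 k hk)).2
      rw [fits, Bool.and_eq_true, Bool.not_eq_true']
      refine ⟨?_, isHex_mem.mpr ?_⟩
      · by_contra hcon
        exact hne (by rw [← ea, ← eb, Nat.eq_of_beq_eq_true (Bool.eq_true_of_not_eq_false hcon)])
      · rwa [← pts_injOn hk24 (Nat.or_lt_two_pow (lt ha) (lt hb)) (by rw [e, ← pts_union, ea, eb])]
    have mem : ∀ {x}, x ∈ R.erase (pts 7) → x ∈ R := fun h => Finset.mem_of_mem_erase h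
    have f1 := hfit hmu hmv eu ev huv (mem (by rw [he]; simp)) (mem (by rw [he]; simp))
    have f2 := hfit hmu hmw eu ew huw (mem (by rw [he]; simp)) (mem (by rw [he]; simp))
    have f3 := hfit hmv hmw ev ew hvw (mem (by rw [he]; simp)) (mem (by rw [he]; simp))
    have h := List.all_eq_true.mp (List.all_eq_true.mp cand_check mu hmu) mv hmv
    rw [f1, Bool.not_true, Bool.false_or] at h
    have h' := List.all_eq_true.mp h mw hmw
    rw [f2, f3, Bool.and_self, Bool.not_true, Bool.false_or] at h'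
    have e2 : R = fam (srtF [7, mu, mv, mw]) := by
      rw [← Finset.insert_erase h7, he, ← eu, ← ev, ← ew]
      ext s
      simp only [fam, List.mem_toFinset, List.mem_map, mem_srtF, List.mem_cons, List.not_mem_nil, or_false,
        Finset.mem_insert, Finset.mem_singleton]
      constructor
      · rintro (rfl | rfl | rfl | rfl)
        exacts [⟨7, Or.inl rfl, rfl⟩, ⟨mu, Or.inr (Or.inl rfl), rfl⟩, ⟨mv, Or.inr (Or.inr (Or.inl rfl)), rfl⟩,
          ⟨mw, Or.inr (Or.inr (Or.inr rfl)), rfl⟩]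
      · rintro ⟨m, rfl | rfl | rfl | rfl, rfl⟩
        exacts [Or.inl rfl, Or.inr (Or.inl rfl), Or.inr (Or.inr (Or.inl rfl)), Or.inr (Or.inr (Or.inr rfl))]
    rw [e2]
    exact Orb.mem_famSet_of_has h'
  · rw [← (stageDod.orbit quartU_ok).1, quartU_zero.1]
    rintro _ ⟨⟨g, hg⟩, rfl⟩
    have hgd : g • pts dd = pts dd := (smul_fam_single _).mp ((mem_Fx.mp hg).2 _ (List.mem_singleton_self _))
    have := smul_quartet (mem_Fx.mp hg).1 quart0_mem
    rwa [hgd] at this

theorem stabilizer_dd_quart (g : M24) : g ∈ MulAction.stabilizer M24 (pts dd, fam quart0) ↔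
    (g : Equiv.Perm GolayPt) ∈ Fx [quart0, [499903]] := by
  simp only [MulAction.mem_stabilizer_iff, mem_Fx, List.forall_mem_cons, List.not_mem_nil, false_implies, implies_true,
    smul_fam_single, Prod.smul_mk, Prod.mk.injEq, and_true]
  exact ⟨fun h => ⟨g.2, h.2, h.1⟩, fun h => ⟨h.2.2, h.2.1⟩⟩

theorem exists_quartet {d : Finset GolayPt} (hd : d ∈ dodecads) {Q : Finset (Finset GolayPt)} (hQ : Q ∈ quartets d) :
    ∃ a ∈ M24, a • pts dd = d ∧ a • fam quart0 = Q := by
  obtain ⟨a, ha, rfl⟩ := exists_smul_dd hd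
  have h := (quartets_smul ha).mp hQ
  rw [quartets_dd] at h
  obtain ⟨g, hg, e⟩ := stageDod.exists_to quartU_ok h
  rw [quartU_zero.1] at e
  exact ⟨a * g, mul_mem ha (mem_Fx.mp hg).1,
    by rw [mul_smul, show g • pts dd = pts dd from (smul_fam_single _).mp ((mem_Fx.mp hg).2 _ (List.mem_singleton_self _))],
    by rw [mul_smul, show g • fam quart0 = a⁻¹ • Q from e, smul_inv_smul]⟩

end Cfsg.Agent.Spor.Golay.Census
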