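import Mathlib
import Cfsg.Prelude.Def_SporadicCombinatorics

/-! The length-12 code over the integers modulo 3, by a systematic basis. -/

set_option autoImplicit false
set_option maxRecDepth 100000

namespace Cfsg.Agent.Spor.Ternary

/-- The position of a point of the array. -/
def idx (p : ArrayPt) : ℕ := p.1.val * 3 + p.2.val

/-- The six information positions. -/
def infoPos : Fin 6 → ArrayPt := ![(0, 0), (0, 1), (0, 2), (1, 0), (1, 1), (2, 0)]

/-- The six remaining positions. -/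
def restPos : Fin 6 → ArrayPt := ![(1, 2), (2, 1), (2, 2), (3, 0), (3, 1), (3, 2)]

/-- The systematic basis. -/
def E (j : Fin 6) (p : ArrayPt) : ZMod 3 :=
  ((![[1, 0, 0, 0, 0, 1, 0, 0, 1, 1, 1, 2],
    [0, 1, 0, 0, 0, 1, 0, 2, 2, 2, 0, 2],
    [0, 0, 1, 0, 0, 1, 0, 1, 0, 2, 1, 1],
    [0, 0, 0, 1, 0, 2, 0, 2, 1, 2, 1, 0],
    [0, 0, 0, 0, 1, 2, 0, 1, 2, 0, 1, 2],
    [0, 0, 0, 0, 0, 0, 1, 1, 1, 2, 2, 2]] : Fin 6 → List ℕ) j).getD (idx p) 0

/-- Encoding. -/
def enc (k : Fin 6 → ZMod 3) (p : ArrayPt) : ZMod 3 := ∑ j, k j * E j p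

/-- The defining conditions, with the small code listed. -/
def Good (x : ArrayPt → ZMod 3) : Prop :=
  ∃ s : ZMod 3, (∀ i : Fin 4, ∑ r : ZMod 3, x (i, r) = -s) ∧
    ∀ a b : ZMod 3, ∑ i : Fin 4, x (i, a * ![0, 1, 1, 1] i + b * ![1, 0, 1, 2] i) = s

instance (x : ArrayPt → ZMod 3) : Decidable (Good x) := by unfold Good; infer_instance

theorem mem_iff_good {x : ArrayPt → ZMod 3} : x ∈ ternaryGolayCode ↔ Good x := by
  show IsTernaryGolayWord x ↔ _
  constructor
  · rintro ⟨s, h, h'⟩
    refine ⟨s, h, fun a b => ?_⟩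
    exact h' (fun i => a * ![0, 1, 1, 1] i + b * ![1, 0, 1, 2] i)
      (Submodule.mem_span_pair.mpr ⟨a, b, rfl⟩)
  · rintro ⟨s, h, h'⟩
    refine ⟨s, h, fun t ht => ?_⟩
    obtain ⟨a, b, rfl⟩ := Submodule.mem_span_pair.mp ht
    exact h' a b

theorem enc_eq (k : Fin 6 → ZMod 3) : enc k = ∑ j, k j • E j := by
  funext p; simp [enc, Finset.sum_apply]

theorem E_mem (j : Fin 6) : E j ∈ ternaryGolayCode := by
  rw [mem_iff_good]; revert j; decide +kernel

theorem enc_mem (k : Fin 6 → ZMod 3) : enc k ∈ ternaryGolayCode := by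
  rw [enc_eq]
  exact Submodule.sum_mem _ fun j _ => Submodule.smul_mem _ _ (E_mem j)

theorem enc_info : ∀ (j i : Fin 6), E j (infoPos i) = if j = i then 1 else 0 := by decide +kernel

theorem enc_infoPos (k : Fin 6 → ZMod 3) (i : Fin 6) : enc k (infoPos i) = k i := by
  simp [enc, enc_info]

theorem rest_zero : ∀ w : Fin 6 → ZMod 3,
    Good (fun p => ∑ i : Fin 6, if restPos i = p then w i else 0) → ∀ i, w i = 0 := by
  decide +kernel

theorem split_cases : ∀ p : ArrayPt, (∃ i, infoPos i = p) ∨ ∃ i, restPos i = p := by decide +kernel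

theorem disjoint_cases : ∀ i j : Fin 6, infoPos i ≠ restPos j := by decide +kernel

theorem restPos_injective : ∀ i j : Fin 6, restPos i = restPos j → i = j := by decide +kernel

theorem mem_iff {x : ArrayPt → ZMod 3} :
    x ∈ ternaryGolayCode ↔ x = enc (fun i => x (infoPos i)) := by
  refine ⟨fun h => ?_, fun h => h ▸ enc_mem _⟩
  set y := x - enc (fun i => x (infoPos i)) with hy
  have hmem : y ∈ ternaryGolayCode := Submodule.sub_mem _ h (enc_mem _)
  have hzero : ∀ i, y (infoPos i) = 0 := fun i => by simp [hy, enc_infoPos]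
  have hrep : y = fun p => ∑ i : Fin 6, if restPos i = p then y (restPos i) else 0 := by
    funext p
    rcases split_cases p with ⟨i, rfl⟩ | ⟨i, rfl⟩
    · rw [hzero, Finset.sum_eq_zero]
      intro j _
      rw [if_neg (disjoint_cases i j).symm]
    · rw [Finset.sum_eq_single i]
      · rw [if_pos rfl]
      · intro j _ hj
        rw [if_neg fun e => hj (restPos_injective j i e)]
      · intro h; exact absurd (Finset.mem_univ i) h
  have h0 := rest_zero (fun i => y (restPos i)) (mem_iff_good.mp (hrep ▸ hmem))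
  refine sub_eq_zero.mp (funext fun p => ?_)
  rcases split_cases p with ⟨i, rfl⟩ | ⟨i, rfl⟩
  · exact hzero i
  · exact h0 i

theorem enc_injective : Function.Injective enc := fun k l h => funext fun i => by
  rw [← enc_infoPos k i, h, enc_infoPos]

theorem exists_enc {x : ArrayPt → ZMod 3} (h : x ∈ ternaryGolayCode) : ∃ k, x = enc k :=
  ⟨_, mem_iff.mp h⟩

theorem ncard_eq (P : (ArrayPt → ZMod 3) → Prop) [DecidablePred P] :
    {x : ArrayPt → ZMod 3 | x ∈ ternaryGolayCode ∧ P x}.ncard =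
      (Finset.univ.filter fun k => P (enc k)).card := by
  rw [← Finset.card_image_of_injective _ enc_injective, ← Set.ncard_coe_finset]
  congr 1
  ext x
  simp only [Set.mem_setOf_eq, Finset.coe_image, Finset.coe_filter, Finset.mem_univ, true_and,
    Set.mem_image]
  constructor
  · rintro ⟨h, hP⟩
    obtain ⟨k, rfl⟩ := exists_enc h
    exact ⟨k, hP, rfl⟩
  · rintro ⟨k, hP, rfl⟩
    exact ⟨enc_mem k, hP⟩

end Cfsg.Agent.Spor.Ternary
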