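import Cfsg.Agent.Lib.Spor.Golay.Ternary
import Cfsg.Agent.S0425
import Cfsg.Agent.S1592
import Cfsg.Agent.S1593

/-!
Monomial automorphisms of the ternary code of length 12.
-/

set_option autoImplicit false
set_option maxRecDepth 100000

namespace Cfsg.Agent.Spor.Ternary.Mono

open Equiv
open scoped Pointwise

/-- Permutations, their inverses and signs, by level and target. -/
def table : List (List ℕ × List ℕ × List ℕ) := [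
  ([0, 1, 2, 3, 4, 5, 6, 7, 8, 9, 10, 11], [0, 1, 2, 3, 4, 5, 6, 7, 8, 9, 10, 11], [1, 1, 1, 1, 1, 1, 1, 1, 1, 1, 1, 1]),
  ([1, 0, 2, 3, 4, 5, 11, 9, 10, 7, 8, 6], [1, 0, 2, 3, 4, 5, 11, 9, 10, 7, 8, 6], [1, 1, 1, 1, 1, 1, 1, 1, 1, 1, 1, 1]),
  ([2, 0, 1, 3, 4, 5, 8, 6, 7, 10, 11, 9], [1, 2, 0, 3, 4, 5, 7, 8, 6, 11, 9, 10], [1, 1, 1, 1, 1, 1, 1, 1, 1, 1, 1, 1]),
  ([3, 0, 1, 2, 4, 5, 10, 7, 6, 8, 9, 11], [1, 2, 3, 0, 4, 5, 8, 7, 9, 10, 6, 11], [1, 1, 2, 2, 1, 1, 2, 2, 1, 2, 1, 2]),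
  ([4, 0, 1, 2, 3, 5, 6, 9, 10, 11, 7, 8], [1, 2, 3, 4, 0, 5, 6, 10, 11, 7, 8, 9], [1, 1, 2, 1, 2, 1, 1, 2, 2, 2, 2, 1]),
  ([5, 0, 1, 2, 3, 4, 9, 6, 8, 7, 11, 10], [1, 2, 3, 4, 5, 0, 7, 9, 8, 6, 11, 10], [1, 1, 2, 1, 1, 2, 2, 1, 2, 1, 2, 2]),
  ([6, 0, 1, 2, 3, 9, 5, 4, 7, 10, 8, 11], [1, 2, 3, 4, 7, 6, 0, 8, 10, 5, 9, 11], [1, 2, 1, 1, 2, 1, 2, 2, 2, 1, 1, 2]),
  ([7, 0, 1, 2, 3, 11, 10, 8, 9, 4, 5, 6], [1, 2, 3, 4, 9, 10, 11, 0, 7, 8, 6, 5], [1, 2, 2, 2, 2, 1, 1, 1, 1, 1, 2, 2]),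
  ([8, 0, 1, 2, 3, 10, 7, 11, 4, 6, 9, 5], [1, 2, 3, 4, 8, 11, 9, 6, 0, 10, 5, 7], [1, 1, 1, 2, 1, 1, 2, 2, 1, 1, 2, 1]),
  ([9, 0, 1, 2, 3, 6, 4, 5, 11, 8, 10, 7], [1, 2, 3, 4, 6, 7, 5, 11, 9, 0, 10, 8], [1, 2, 1, 1, 1, 2, 1, 2, 1, 2, 2, 2]),
  ([10, 0, 1, 2, 3, 8, 11, 7, 5, 9, 6, 4], [1, 2, 3, 4, 11, 8, 10, 7, 5, 9, 0, 6], [1, 1, 1, 2, 1, 1, 1, 1, 2, 2, 1, 2]),
  ([11, 0, 1, 2, 3, 7, 8, 10, 6, 5, 4, 9], [1, 2, 3, 4, 10, 9, 8, 5, 6, 11, 7, 0], [1, 2, 2, 2, 1, 2, 1, 2, 2, 1, 1, 1]),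
  ([], [], []),
  ([0, 1, 2, 3, 4, 5, 6, 7, 8, 9, 10, 11], [0, 1, 2, 3, 4, 5, 6, 7, 8, 9, 10, 11], [1, 1, 1, 1, 1, 1, 1, 1, 1, 1, 1, 1]),
  ([0, 2, 1, 3, 4, 5, 9, 10, 11, 6, 7, 8], [0, 2, 1, 3, 4, 5, 9, 10, 11, 6, 7, 8], [1, 1, 1, 1, 1, 1, 1, 1, 1, 1, 1, 1]),
  ([0, 3, 1, 2, 4, 5, 11, 8, 9, 7, 6, 10], [0, 2, 3, 1, 4, 5, 10, 9, 7, 8, 11, 6], [1, 1, 2, 2, 1, 1, 2, 2, 1, 2, 1, 2]),
  ([0, 4, 1, 2, 3, 5, 8, 11, 7, 9, 10, 6], [0, 2, 3, 4, 1, 5, 11, 8, 6, 9, 10, 7], [1, 1, 2, 1, 2, 1, 1, 2, 2, 2, 2, 1]),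
  ([0, 5, 1, 2, 3, 4, 10, 7, 11, 6, 8, 9], [0, 2, 3, 4, 5, 1, 9, 7, 10, 11, 6, 8], [1, 1, 2, 1, 1, 2, 2, 1, 2, 1, 2, 2]),
  ([0, 6, 1, 2, 3, 9, 11, 10, 8, 4, 7, 5], [0, 2, 3, 4, 9, 11, 1, 10, 8, 5, 7, 6], [1, 2, 1, 1, 2, 1, 2, 2, 2, 1, 1, 2]),
  ([0, 7, 1, 2, 3, 11, 6, 4, 5, 8, 9, 10], [0, 2, 3, 4, 7, 8, 6, 1, 9, 10, 11, 5], [1, 2, 2, 2, 2, 1, 1, 1, 1, 1, 2, 2]),
  ([0, 8, 1, 2, 3, 10, 5, 6, 9, 11, 4, 7], [0, 2, 3, 4, 10, 6, 7, 11, 1, 8, 5, 9], [1, 1, 1, 2, 1, 1, 2, 2, 1, 1, 2, 1]),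
  ([0, 9, 1, 2, 3, 6, 7, 8, 10, 5, 11, 4], [0, 2, 3, 4, 11, 9, 5, 6, 7, 1, 8, 10], [1, 2, 1, 1, 1, 2, 1, 2, 1, 2, 2, 2]),
  ([0, 10, 1, 2, 3, 8, 4, 9, 6, 7, 5, 11], [0, 2, 3, 4, 6, 10, 8, 9, 5, 7, 1, 11], [1, 1, 1, 2, 1, 1, 1, 1, 2, 2, 1, 2]),
  ([0, 11, 1, 2, 3, 7, 9, 5, 4, 10, 6, 8], [0, 2, 3, 4, 8, 7, 10, 5, 11, 6, 9, 1], [1, 2, 2, 2, 1, 2, 1, 2, 2, 1, 1, 1]),
  ([], [], []),
  ([], [], []),
  ([0, 1, 2, 3, 4, 5, 6, 7, 8, 9, 10, 11], [0, 1, 2, 3, 4, 5, 6, 7, 8, 9, 10, 11], [1, 1, 1, 1, 1, 1, 1, 1, 1, 1, 1, 1]),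
  ([0, 1, 3, 2, 4, 5, 7, 6, 10, 11, 8, 9], [0, 1, 3, 2, 4, 5, 7, 6, 10, 11, 8, 9], [1, 1, 2, 2, 1, 1, 2, 2, 1, 2, 1, 2]),
  ([0, 1, 4, 2, 3, 5, 9, 10, 6, 8, 11, 7], [0, 1, 3, 4, 2, 5, 8, 11, 9, 6, 7, 10], [1, 1, 2, 1, 2, 1, 1, 2, 2, 2, 2, 1]),
  ([0, 1, 5, 2, 3, 4, 6, 8, 9, 10, 7, 11], [0, 1, 3, 4, 5, 2, 6, 10, 7, 8, 9, 11], [1, 1, 2, 1, 1, 2, 2, 1, 2, 1, 2, 2]),
  ([0, 1, 6, 2, 3, 9, 4, 7, 5, 11, 10, 8], [0, 1, 3, 4, 6, 8, 2, 7, 11, 5, 10, 9], [1, 2, 1, 1, 2, 1, 2, 2, 2, 1, 1, 2]),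
  ([0, 1, 7, 2, 3, 11, 8, 9, 10, 6, 4, 5], [0, 1, 3, 4, 10, 11, 9, 2, 6, 7, 8, 5], [1, 2, 2, 2, 2, 1, 1, 1, 1, 1, 2, 2]),
  ([0, 1, 8, 2, 3, 10, 11, 4, 7, 5, 6, 9], [0, 1, 3, 4, 7, 9, 10, 8, 2, 11, 5, 6], [1, 1, 1, 2, 1, 1, 2, 2, 1, 1, 2, 1]),
  ([0, 1, 9, 2, 3, 6, 5, 11, 4, 7, 8, 10], [0, 1, 3, 4, 8, 6, 5, 9, 10, 2, 11, 7], [1, 2, 1, 1, 1, 2, 1, 2, 1, 2, 2, 2]),
  ([0, 1, 10, 2, 3, 8, 7, 5, 11, 4, 9, 6], [0, 1, 3, 4, 9, 7, 11, 6, 5, 10, 2, 8], [1, 1, 1, 2, 1, 1, 1, 1, 2, 2, 1, 2]),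
  ([0, 1, 11, 2, 3, 7, 10, 6, 8, 9, 5, 4], [0, 1, 3, 4, 11, 10, 7, 5, 8, 9, 6, 2], [1, 2, 2, 2, 1, 2, 1, 2, 2, 1, 1, 1]),
  ([], [], []),
  ([], [], []),
  ([], [], []),
  ([0, 1, 2, 3, 4, 5, 6, 7, 8, 9, 10, 11], [0, 1, 2, 3, 4, 5, 6, 7, 8, 9, 10, 11], [1, 1, 1, 1, 1, 1, 1, 1, 1, 1, 1, 1]),
  ([0, 1, 2, 4, 3, 5, 10, 9, 11, 7, 6, 8], [0, 1, 2, 4, 3, 5, 10, 9, 11, 7, 6, 8], [1, 1, 1, 1, 1, 1, 1, 1, 1, 1, 1, 1]),
  ([0, 1, 2, 5, 3, 4, 8, 6, 7, 11, 9, 10], [0, 1, 2, 4, 5, 3, 7, 8, 6, 10, 11, 9], [1, 1, 1, 1, 1, 1, 1, 1, 1, 1, 1, 1]),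
  ([0, 1, 2, 6, 3, 9, 7, 4, 10, 8, 5, 11], [0, 1, 2, 4, 7, 10, 3, 6, 9, 5, 8, 11], [1, 2, 2, 1, 1, 1, 1, 1, 1, 1, 1, 1]),
  ([0, 1, 2, 7, 3, 11, 9, 8, 4, 5, 10, 6], [0, 1, 2, 4, 8, 9, 11, 3, 7, 6, 10, 5], [1, 2, 1, 2, 2, 2, 2, 2, 2, 2, 2, 2]),
  ([0, 1, 2, 8, 3, 10, 4, 11, 6, 9, 7, 5], [0, 1, 2, 4, 6, 11, 8, 10, 3, 9, 5, 7], [1, 1, 2, 2, 2, 2, 2, 2, 2, 2, 2, 2]),
  ([0, 1, 2, 9, 3, 6, 11, 5, 8, 10, 4, 7], [0, 1, 2, 4, 10, 7, 5, 11, 8, 3, 9, 6], [1, 2, 2, 1, 1, 1, 1, 1, 1, 1, 1, 1]),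
  ([0, 1, 2, 10, 3, 8, 5, 7, 9, 6, 11, 4], [0, 1, 2, 4, 11, 6, 9, 7, 5, 8, 3, 10], [1, 1, 2, 2, 2, 2, 2, 2, 2, 2, 2, 2]),
  ([0, 1, 2, 11, 3, 7, 6, 10, 5, 4, 8, 9], [0, 1, 2, 4, 9, 8, 6, 5, 10, 11, 7, 3], [1, 2, 1, 2, 2, 2, 2, 2, 2, 2, 2, 2]),
  ([], [], []),
  ([], [], []),
  ([], [], []),
  ([], [], []),
  ([0, 1, 2, 3, 4, 5, 6, 7, 8, 9, 10, 11], [0, 1, 2, 3, 4, 5, 6, 7, 8, 9, 10, 11], [1, 1, 1, 1, 1, 1, 1, 1, 1, 1, 1, 1]),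
  ([0, 1, 2, 3, 5, 4, 9, 11, 10, 6, 8, 7], [0, 1, 2, 3, 5, 4, 9, 11, 10, 6, 8, 7], [1, 1, 1, 1, 1, 1, 1, 1, 1, 1, 1, 1]),
  ([0, 1, 2, 3, 6, 9, 5, 8, 11, 4, 7, 10], [0, 1, 2, 3, 9, 6, 4, 10, 7, 5, 11, 8], [1, 2, 2, 1, 1, 1, 1, 1, 1, 1, 1, 1]),
  ([0, 1, 2, 3, 7, 11, 10, 5, 6, 8, 9, 4], [0, 1, 2, 3, 11, 7, 8, 4, 9, 10, 6, 5], [1, 2, 1, 2, 2, 2, 2, 2, 2, 2, 2, 2]),
  ([0, 1, 2, 3, 8, 10, 7, 9, 5, 11, 4, 6], [0, 1, 2, 3, 10, 8, 11, 6, 4, 7, 5, 9], [1, 1, 2, 2, 2, 2, 2, 2, 2, 2, 2, 2]),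
  ([0, 1, 2, 3, 9, 6, 4, 10, 7, 5, 11, 8], [0, 1, 2, 3, 6, 9, 5, 8, 11, 4, 7, 10], [1, 2, 2, 1, 1, 1, 1, 1, 1, 1, 1, 1]),
  ([0, 1, 2, 3, 10, 8, 11, 6, 4, 7, 5, 9], [0, 1, 2, 3, 8, 10, 7, 9, 5, 11, 4, 6], [1, 1, 2, 2, 2, 2, 2, 2, 2, 2, 2, 2]),
  ([0, 1, 2, 3, 11, 7, 8, 4, 9, 10, 6, 5], [0, 1, 2, 3, 7, 11, 10, 5, 6, 8, 9, 4], [1, 2, 1, 2, 2, 2, 2, 2, 2, 2, 2, 2])]

/-- The entry at a level and target. -/
def entry (k : Fin 5) (q : Fin 12) : List ℕ × List ℕ × List ℕ := table.getD (12 * k.val + q.val) ([], [], [])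

/-- A position by number. -/
def pt (n : ℕ) : ArrayPt := (Fin.ofNat 4 (n / 3), ((n % 3 : ℕ) : ZMod 3))

theorem pt_idx : ∀ p : ArrayPt, pt (idx p) = p := by decide +kernel

/-- The map of a list. -/
def fn (l : List ℕ) (p : ArrayPt) : ArrayPt := pt (l.getD (idx p) (idx p))

/-- The permutation of an entry. -/
def perm (k : Fin 5) (q : Fin 12) : Perm ArrayPt :=
  if h : (∀ p, fn (entry k q).2.1 (fn (entry k q).1 p) = p) ∧ ∀ p, fn (entry k q).1 (fn (entry k q).2.1 p) = p then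
    ⟨fn (entry k q).1, fn (entry k q).2.1, h.1, h.2⟩
  else 1

/-- The signs of an entry. -/
def sgn (k : Fin 5) (q : Fin 12) (p : ArrayPt) : (ZMod 3)ˣ :=
  if (entry k q).2.2.getD (idx p) 1 = 1 then 1 else -1

theorem good_all : ∀ (k : Fin 5) (q : Fin 12), k.val ≤ q.val →
    (∀ j : Fin 6, Good (monomialMap (perm k q) (sgn k q) (E j))) ∧
      perm k q (pt k) = pt q ∧ ∀ i : Fin 5, i < k → perm k q (pt i) = pt i := by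
  decide +kernel

theorem pt_inj : ∀ a b : Fin 12, pt a = pt b → a = b := by decide +kernel

/-- The permutations which lift. -/
def lifts : Set (Perm ArrayPt) :=
  {σ | ∃ c : ArrayPt → (ZMod 3)ˣ, ∀ x ∈ ternaryGolayCode, monomialMap σ c x ∈ ternaryGolayCode}

theorem monomialMap_comp (σ τ : Perm ArrayPt) (c d : ArrayPt → (ZMod 3)ˣ) (x : ArrayPt → ZMod 3) :
    monomialMap σ c (monomialMap τ d x) = monomialMap (σ * τ) (fun i => c i * d (σ.symm i)) x := by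
  funext i
  simp only [monomialMap, Units.val_mul, mul_assoc]
  rfl

theorem mul_mem {σ τ : Perm ArrayPt} (hσ : σ ∈ lifts) (hτ : τ ∈ lifts) : σ * τ ∈ lifts := by
  obtain ⟨c, hc⟩ := hσ
  obtain ⟨d, hd⟩ := hτ
  exact ⟨_, fun x hx => by rw [← monomialMap_comp]; exact hc _ (hd x hx)⟩

theorem perm_mem {k : Fin 5} {q : Fin 12} (h : k.val ≤ q.val) : perm k q ∈ lifts := by
  refine ⟨sgn k q, fun x hx => ?_⟩
  obtain ⟨w, rfl⟩ := exists_enc hx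
  have e : monomialMap (perm k q) (sgn k q) (enc w) = ∑ j, w j • monomialMap (perm k q) (sgn k q) (E j) := by
    rw [enc_eq]
    funext p
    simp only [monomialMap, Finset.sum_apply, Pi.smul_apply, smul_eq_mul, Finset.mul_sum]
    exact Finset.sum_congr rfl fun j _ => by ring
  rw [e]
  exact Submodule.sum_mem _ fun j _ => Submodule.smul_mem _ _ (mem_iff_good.2 ((good_all k q h).1 j))

/-- The supports. -/
abbrev hexads : Set (Finset ArrayPt) :=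
  {h : Finset ArrayPt | ∃ x ∈ ternaryGolayCode, ternarySupport x = h ∧ h.card = 6}

theorem supp_map (σ : Perm ArrayPt) (c : ArrayPt → (ZMod 3)ˣ) (x : ArrayPt → ZMod 3) :
    ternarySupport (monomialMap σ c x) = (ternarySupport x).map σ.toEmbedding := by
  ext p
  simp [ternarySupport, monomialMap]

theorem lifts_subset : lifts ⊆ (setSystemAut hexads : Set (Perm ArrayPt)) := by
  rintro σ ⟨c, hc⟩
  have hmaps : ∀ h ∈ hexads, h.map σ.toEmbedding ∈ hexads := by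
    rintro h ⟨x, hx, rfl, h6⟩
    exact ⟨_, hc x hx, supp_map σ c x, by rw [Finset.card_map]; exact h6⟩
  rw [SetLike.mem_coe, MulAction.mem_stabilizer_iff]
  refine Set.eq_of_subset_of_ncard_le ?_ ?_ (Set.toFinite _)
  · rintro _ ⟨h, hh, rfl⟩
    have e : σ • h = h.map σ.toEmbedding := by
      rw [Finset.map_eq_image]; rfl
    show σ • h ∈ hexads
    rw [e]; exact hmaps h hh
  · rw [← Set.image_smul, Set.ncard_image_of_injective _ (MulAction.injective σ)]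

/-- The choices. -/
abbrev Choice : Type := (k : Fin 5) → {q : Fin 12 // k.val ≤ q.val}

/-- The product of the choices. -/
def prod (f : Choice) : Perm ArrayPt :=
  perm 0 (f 0).1 * perm 1 (f 1).1 * perm 2 (f 2).1 * perm 3 (f 3).1 * perm 4 (f 4).1

theorem prod_mem (f : Choice) : prod f ∈ lifts :=
  mul_mem (mul_mem (mul_mem (mul_mem (perm_mem (f 0).2) (perm_mem (f 1).2)) (perm_mem (f 2).2))
    (perm_mem (f 3).2)) (perm_mem (f 4).2)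

theorem fixes {i k : Fin 5} (h : i < k) {q : {q : Fin 12 // k.val ≤ q.val}} : perm k q.1 (pt i) = pt i :=
  (good_all k q.1 q.2).2.2 i h

theorem prod_injective : Function.Injective prod := by
  intro f g hfg
  have key : ∀ (k : Fin 5) (a b : {q : Fin 12 // k.val ≤ q.val}) (x y : Perm ArrayPt),
      x (pt k) = pt k → y (pt k) = pt k → perm k a.1 * x = perm k b.1 * y → a = b ∧ x = y := by
    intro k a b x y hx hy h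
    have := congrArg (fun t : Perm ArrayPt => t (pt k)) h
    simp only [Perm.mul_apply, hx, hy, (good_all k a.1 a.2).2.1, (good_all k b.1 b.2).2.1] at this
    obtain rfl : a = b := Subtype.ext (pt_inj _ _ this)
    exact ⟨rfl, mul_left_cancel h⟩
  simp only [prod, mul_assoc] at hfg
  obtain ⟨e0, h⟩ := key 0 _ _ _ _ (by simp only [Perm.mul_apply, fixes (i := 0) (k := 4) (by decide),
    fixes (i := 0) (k := 3) (by decide), fixes (i := 0) (k := 2) (by decide), fixes (i := 0) (k := 1) (by decide)])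
    (by simp only [Perm.mul_apply, fixes (i := 0) (k := 4) (by decide),
    fixes (i := 0) (k := 3) (by decide), fixes (i := 0) (k := 2) (by decide), fixes (i := 0) (k := 1) (by decide)]) hfg
  obtain ⟨e1, h⟩ := key 1 _ _ _ _ (by simp only [Perm.mul_apply, fixes (i := 1) (k := 4) (by decide),
    fixes (i := 1) (k := 3) (by decide), fixes (i := 1) (k := 2) (by decide)])
    (by simp only [Perm.mul_apply, fixes (i := 1) (k := 4) (by decide),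
    fixes (i := 1) (k := 3) (by decide), fixes (i := 1) (k := 2) (by decide)]) h
  obtain ⟨e2, h⟩ := key 2 _ _ _ _ (by simp only [Perm.mul_apply, fixes (i := 2) (k := 4) (by decide),
    fixes (i := 2) (k := 3) (by decide)])
    (by simp only [Perm.mul_apply, fixes (i := 2) (k := 4) (by decide),
    fixes (i := 2) (k := 3) (by decide)]) h
  obtain ⟨e3, h⟩ := key 3 _ _ _ _ (fixes (i := 3) (k := 4) (by decide)) (fixes (i := 3) (k := 4) (by decide)) h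
  obtain ⟨e4, -⟩ := key 4 (f 4) (g 4) 1 1 rfl rfl (by rw [h])
  funext k
  fin_cases k
  exacts [e0, e1, e2, e3, e4]

theorem card_choice : Nat.card Choice = 95040 := by
  rw [Nat.card_pi, Fin.prod_univ_five]
  simp only [Nat.card_eq_fintype_card]
  decide +kernel

theorem card_aut : Nat.card (setSystemAut hexads) = 95040 :=
  ((S0425.result (B := hexads) (by decide) S1592.result.1).1).2

theorem lifts_eq : lifts = (setSystemAut hexads : Set (Perm ArrayPt)) := by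
  refine Set.eq_of_subset_of_ncard_le lifts_subset ?_ (Set.toFinite _)
  rw [← Nat.card_coe_set_eq, ← Nat.card_coe_set_eq]
  refine le_trans (le_of_eq card_aut) ?_
  rw [← card_choice]
  exact Nat.card_le_card_of_injective (fun f : Choice => (⟨prod f, prod_mem f⟩ : lifts))
    fun f g h => prod_injective (congrArg Subtype.val h)

theorem card_pairs : Nat.card {f : Perm ArrayPt × (ArrayPt → (ZMod 3)ˣ) //
    ∀ x ∈ ternaryGolayCode, monomialMap f.1 f.2 x ∈ ternaryGolayCode} = 190080 := by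
  classical
  let S := {σ : Perm ArrayPt // σ ∈ lifts}
  choose c0 hc0 using fun σ : S => σ.2
  have hneg : ∀ (σ : S) (a : (ZMod 3)ˣ), ∀ x ∈ ternaryGolayCode,
      monomialMap σ.1 (fun p => a * c0 σ p) x ∈ ternaryGolayCode := by
    intro σ a x hx
    have e : monomialMap σ.1 (fun p => a * c0 σ p) x = (a : ZMod 3) • monomialMap σ.1 (c0 σ) x := by
      funext p; simp [monomialMap, mul_assoc]
    rw [e]; exact Submodule.smul_mem _ _ (hc0 σ x hx)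
  let e : S × (ZMod 3)ˣ → {f : Perm ArrayPt × (ArrayPt → (ZMod 3)ˣ) //
      ∀ x ∈ ternaryGolayCode, monomialMap f.1 f.2 x ∈ ternaryGolayCode} :=
    fun p => ⟨(p.1.1, fun q => p.2 * c0 p.1 q), hneg p.1 p.2⟩
  have hb : Function.Bijective e := by
    constructor
    · rintro ⟨σ, a⟩ ⟨τ, b⟩ h
      have h' := congrArg Subtype.val h
      simp only [e, Prod.mk.injEq] at h'
      obtain rfl : σ = τ := Subtype.ext h'.1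
      rw [mul_right_cancel (congrFun h'.2 (0, 0))]
    · rintro ⟨⟨σ, d⟩, hd⟩
      let s : S := ⟨σ, d, hd⟩
      -- the quotient of two sign vectors is diagonal
      have hinj : Function.Injective fun x : ternaryGolayCode =>
          (⟨monomialMap σ (c0 s) x.1, hc0 s x.1 x.2⟩ : ternaryGolayCode) := by
        intro x y h
        refine Subtype.ext (funext fun p => ?_)
        have h' : monomialMap σ (c0 s) x.1 (σ p) = monomialMap σ (c0 s) y.1 (σ p) :=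
          congrFun (congrArg Subtype.val h) (σ p)
        unfold monomialMap at h'
        rw [Equiv.symm_apply_apply] at h'
        exact (Units.mul_right_inj _).1 h'
      have hsurj := Finite.injective_iff_surjective.1 hinj
      have hdiag : ∀ x ∈ ternaryGolayCode, monomialMap 1 (fun i => d i * (c0 s i)⁻¹) x ∈ ternaryGolayCode := by
        intro y hy
        obtain ⟨⟨x, hx⟩, hxy⟩ := hsurj ⟨y, hy⟩
        have hxy' : monomialMap σ (c0 s) x = y := congrArg Subtype.val hxy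
        convert hd x hx using 1
        rw [← hxy']
        funext i
        show ((d i * (c0 s i)⁻¹ : (ZMod 3)ˣ) : ZMod 3) * ((c0 s i : ZMod 3) * x (σ.symm i)) = (d i : ZMod 3) * x (σ.symm i)
        rw [← mul_assoc, ← Units.val_mul, inv_mul_cancel_right]
      rcases S1593.result _ hdiag with h | h
      · exact ⟨(s, 1), Subtype.ext (Prod.ext rfl (funext fun i => by
          show 1 * c0 s i = d i
          rw [one_mul]; exact (mul_inv_eq_one.1 (h i)).symm))⟩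
      · exact ⟨(s, -1), Subtype.ext (Prod.ext rfl (funext fun i => by
          show -1 * c0 s i = d i
          exact (mul_inv_eq_iff_eq_mul.1 (h i)).symm))⟩
  rw [← Nat.card_congr (Equiv.ofBijective e hb), Nat.card_prod,
    Nat.card_congr (Equiv.setCongr lifts_eq), Nat.card_units, Nat.card_zmod]
  show Nat.card (setSystemAut hexads) * 2 = _
  rw [card_aut]

end Cfsg.Agent.Spor.Ternary.Mono
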